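import Cfsg.Agent.Lib.Signalizer.Exception

/-!
The solvable signalizer functor theorem.
-/

set_option autoImplicit false
set_option linter.unusedSectionVars false
set_option linter.style.haveILetI false

namespace CfsgLib.Signalizer

open Subgroup Cfsg

universe u

theorem isCompleteOn_of_card_eq {p : ℕ} [Fact p.Prime] : ∀ {G : Type u} [Group G] [Finite G] {A : Subgroup G}
    {θ : G → Subgroup G}, IsElementaryAbelian p A → Nat.card A = p ^ 3 → IsSolvableSignalizerFunctor p A θ →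
    IsCompleteOn p A θ := by
  suffices h : ∀ (n : ℕ) (G : Type u) [Group G] [Finite G] (A : Subgroup G) (θ : G → Subgroup G),
      totalCard A θ = n → IsElementaryAbelian p A → Nat.card A = p ^ 3 → IsSolvableSignalizerFunctor p A θ →
      IsCompleteOn p A θ by
    intro G _ _ A θ hA hc hθ
    exact h _ G A θ rfl hA hc hθ
  intro n
  induction n using Nat.strong_induction_on with
  | _ n ih =>
    intro G _ _ A θ hn hA hc hθ
    by_contra hnot
    exact Minimal.elim (p := p) (A := A) (θ := θ)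
      ⟨hθ, hA, hc, fun H _ _ B φ hB hBc hφ hlt => ih _ (hn ▸ hlt) H B φ rfl hB hBc hφ, hnot⟩

variable {G : Type u} [Group G] [Finite G] {p : ℕ} [hp : Fact p.Prime] {A : Subgroup G} {θ : G → Subgroup G}

/-- A solvable signalizer functor on a group of rank at least three is complete. -/
theorem isCompleteOn (hA : IsElementaryAbelian p A) (hA3 : p ^ 3 ≤ Nat.card A)
    (hθ : IsSolvableSignalizerFunctor p A θ) : IsCompleteOn p A θ := by
  obtain ⟨n, hn⟩ := PGroup.elemAb_card hA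
  have hn3 : 3 ≤ n := (Nat.pow_le_pow_iff_right hp.out.one_lt).1 (hn ▸ hA3)
  obtain ⟨K, hK⟩ := Sylow.exists_subgroup_card_pow_prime (G := A) p (n := 3) (hn ▸ pow_dvd_pow p hn3)
  set A₀ := K.map A.subtype with hA₀
  have hle : A₀ ≤ A := map_subtype_le _
  have hA₀c : Nat.card A₀ = p ^ 3 := by rw [card_map_of_injective A.subtype_injective, hK]
  have hA₀e := PGroup.elemAb_mono hA hle
  have hθ₀ : IsSolvableSignalizerFunctor p A₀ θ :=
    ⟨⟨fun a ha => hθ.1.1 a (hle ha), fun a ha => hθ.1.2.1 a (hle ha),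
      fun a ha ha1 b hb => hθ.1.2.2.1 a (hle ha) ha1 b (hle hb),
      fun a ha ha1 b hb => hθ.1.2.2.2 a (hle ha) ha1 b (hle hb)⟩, fun a ha => hθ.2 a (hle ha)⟩
  obtain ⟨W, hW, hθW⟩ := isCompleteOn_of_card_eq hA₀e hA₀c hθ₀
  have h2 : p ^ 2 ≤ Nat.card A₀ := (Nat.pow_le_pow_right hp.out.pos (by norm_num)).trans hA₀c.ge
  have hall : ∀ b ∈ A, b ≠ 1 → θ b ≤ W := fun b hb hb1 =>
    le_of_fixed hA₀e h2 (hθ.1.2.1 b hb hb1) (hle.trans (le_normalizer_theta hθ hb hb1)) fun a ha ha1 =>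
      (hθ.1.2.2.2 b hb hb1 a (hle ha) ha1).trans (hθW a ha ha1)
  have hAW : A ≤ normalizer (W : Set G) := by
    refine Solvable.le_normalizer_of_conj_mem fun b hb w hw => ?_
    suffices W ≤ W.comap (MulAut.conj b).toMonoidHom from this hw
    refine le_of_fixed hA₀e h2 hW.2.1 (le_normalizer_of_mem hW) fun a ha ha1 x hx => ?_
    exact hθW a ha ha1 (hθ.1.2.2.1 a (hle ha) ha1 b hb x (hW.2.2.2 a ha ha1 hx))
  refine ⟨W, ⟨hW.1, hW.2.1, fun b hb w hw => (mem_normalizer_iff.1 (hAW hb) w).1 hw, fun b hb hb1 => ?_⟩, hall⟩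
  refine le_of_fixed hA₀e h2 (fun h => hW.2.1 (h.trans (card_dvd_of_le inf_le_left)))
    (hle.trans (Solvable.le_normalizer_inf hAW (le_normalizer_centralizer_singleton hA hb))) fun a ha ha1 => ?_
  exact le_trans (le_inf (le_trans (inf_le_inf_right _ inf_le_left) (hW.2.2.2 a ha ha1))
    (inf_le_left.trans inf_le_right)) (hθ.1.2.2.2 a (hle ha) ha1 b hb hb1)

/-- The closure of a solvable signalizer functor of rank at least three is a member with the right centralizers. -/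
theorem closure_mem (hA : IsElementaryAbelian p A) (hA3 : p ^ 3 ≤ Nat.card A)
    (hθ : IsSolvableSignalizerFunctor p A θ) :
    (⨆ a : {a : G // a ∈ A ∧ a ≠ 1}, θ a) ∈ signalizerFamily p A θ ∧
      ∀ a ∈ A, a ≠ 1 → (⨆ b : {a : G // a ∈ A ∧ a ≠ 1}, θ b) ⊓ centralizer {a} = θ a := by
  obtain ⟨W, hW, hθW⟩ := isCompleteOn hA hA3 hθ
  have heq : (⨆ a : {a : G // a ∈ A ∧ a ≠ 1}, θ a) = W := le_antisymm (iSup_le fun a => hθW a a.2.1 a.2.2)
    (le_of_fixed hA ((Nat.pow_le_pow_right hp.out.pos (by norm_num)).trans hA3) hW.2.1 (le_normalizer_of_mem hW)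
      fun a ha ha1 => (hW.2.2.2 a ha ha1).trans
        (le_iSup (fun a : {a : G // a ∈ A ∧ a ≠ 1} => θ a) ⟨a, ha, ha1⟩))
  rw [heq]
  exact ⟨hW, fun a ha ha1 => le_antisymm (hW.2.2.2 a ha ha1) (le_inf (hθW a ha ha1) (hθ.1.1 a ha ha1))⟩

/-- A `p'`-group acted on by an elementary abelian group of rank three is solvable if all the fixed point
groups are. -/
theorem isSolvable_of_fixed (hA : IsElementaryAbelian p A) (hA3 : p ^ 3 ≤ Nat.card A) {K : Subgroup G}
    (hK : ¬ p ∣ Nat.card K) (hAK : A ≤ normalizer (K : Set G))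
    (hsol : ∀ a ∈ A, a ≠ 1 → Group.IsSolvable ↥(K ⊓ centralizer ({a} : Set G))) : Group.IsSolvable K := by
  have hθ : IsSolvableSignalizerFunctor p A (fun a => K ⊓ centralizer {a}) := by
    refine ⟨⟨fun a _ _ => inf_le_right, fun a _ _ h => hK (h.trans (card_dvd_of_le inf_le_left)),
      fun a ha _ b hb x hx => ?_, fun a _ _ b _ _ x hx => ⟨hx.1.1, hx.2⟩⟩, hsol⟩
    exact (mem_normalizer_iff.1
      (Solvable.le_normalizer_inf hAK (le_normalizer_centralizer_singleton hA ha) hb) x).1 hx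
  obtain ⟨W, hW, hθW⟩ := isCompleteOn hA hA3 hθ
  refine Solvable.isSolvable_of_le hW.1 ?_
  exact le_of_fixed hA ((Nat.pow_le_pow_right hp.out.pos (by norm_num)).trans hA3) hK hAK hθW

end CfsgLib.Signalizer
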