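import Cfsg.Prelude.Def_Balance
import Cfsg.Agent.Lib.Cores.CoprimeGen
import Cfsg.Agent.Lib.Cores.Basic
import Cfsg.Agent.Lib.Solvable.CoprimeAction
import Cfsg.Agent.Lib.LargeExtra.Symm

/-!
Solvable signalizer functors: the family, products, quotients, transitivity on maximal `q`-members.
-/

namespace CfsgLib.Signalizer

open Subgroup Cfsg
open scoped commutatorElement

variable {G : Type*} [Group G] [Finite G] {p : ℕ} [hp : Fact p.Prime] {A : Subgroup G} {θ : G → Subgroup G}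

omit hp in
theorem isPGroup_inf_normalizer_gt {q : ℕ} [Fact q.Prime] {P Q : Subgroup G} (hP : IsPGroup q P) (h : Q < P) :
    Q < P ⊓ normalizer (Q : Set G) := by
  refine lt_of_le_of_ne (le_inf h.le le_normalizer) fun he => ?_
  have : Group.IsNilpotent P := hP.isNilpotent
  have hlt : Q.subgroupOf P < normalizer ((Q.subgroupOf P : Subgroup P) : Set P) := by
    refine Group.normalizerCondition_of_isNilpotent _ (lt_top_iff_ne_top.2 ?_)
    rw [Ne, subgroupOf_eq_top]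
    exact h.not_ge
  refine hlt.not_ge fun x hx => ?_
  rw [mem_subgroupOf, he]
  refine ⟨x.2, CfsgLib.Solvable.mem_normalizer_of_conj_mem fun y hy => ?_⟩
  exact (mem_normalizer_iff.1 hx ⟨y, h.le hy⟩).1 hy

section Elementary

variable (hA : IsElementaryAbelian p A)
include hA

theorem coprime_card {U : Subgroup G} (hU : ¬ p ∣ Nat.card U) : (Nat.card A).Coprime (Nat.card U) := by
  obtain ⟨n, hn⟩ := PGroup.elemAb_card hA
  rw [hn]
  exact Nat.Coprime.pow_left n ((hp.out.coprime_iff_not_dvd).2 hU)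

omit [Finite G] hp in
theorem isSolvable_A : Group.IsSolvable A :=
  Group.isSolvable_of_comm fun a b => hA.1.is_comm.comm a b

omit [Finite G] hp in
theorem le_centralizer_of_le {B : Subgroup G} (hB : B ≤ A) : A ≤ centralizer (B : Set G) := fun a ha =>
  mem_centralizer_iff.2 fun b hb => PGroup.elemAb_comm hA (hB hb) ha

omit [Finite G] hp in
theorem le_normalizer_centralizer {B : Subgroup G} (hB : B ≤ A) :
    A ≤ normalizer ((centralizer (B : Set G) : Subgroup G) : Set G) :=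
  ((le_centralizer_of_le hA hB).trans (centralizer_le_normalizer _)).trans
    (Solvable.normalizer_le_normalizer_centralizer B)

omit [Finite G] hp in
theorem centralizer_singleton_eq {a : G} :
    centralizer ({a} : Set G) = centralizer (zpowers a : Set G) := by
  ext x
  rw [mem_centralizer_singleton_iff, mem_centralizer_iff]
  refine ⟨fun h y hy => ?_, fun h => (h a (mem_zpowers a)).symm⟩
  obtain ⟨i, rfl⟩ := hy
  exact ((show Commute a x from h.symm).zpow_left i).eq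

omit [Finite G] hp in
theorem le_normalizer_centralizer_singleton {a : G} (ha : a ∈ A) :
    A ≤ normalizer ((centralizer ({a} : Set G) : Subgroup G) : Set G) := by
  rw [centralizer_singleton_eq hA]
  exact le_normalizer_centralizer hA (zpowers_le.2 ha)

/-- Two subgroups of index at most `p` in a group of rank at least three meet nontrivially. -/
theorem exists_mem_inf {B₁ B₂ : Subgroup G} (hA3 : p ^ 3 ≤ Nat.card A) (h₁A : B₁ ≤ A) (h₁ : B₁.relIndex A ≤ p)
    (h₂ : B₂.relIndex A ≤ p) : ∃ a ∈ B₁ ⊓ B₂, a ≠ 1 := by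
  by_contra hcon
  push Not at hcon
  have hbot : B₁ ⊓ B₂ = ⊥ := (eq_bot_iff_forall _).2 hcon
  have h3 : Nat.card A ≤ p * p := by
    have h4 := relIndex_inf_le (H := B₁) (K := B₂) (L := A)
    rw [hbot, relIndex_bot_left] at h4
    exact h4.trans (Nat.mul_le_mul h₁ h₂)
  have h5 : p * p < p ^ 3 := by
    rw [pow_succ, pow_two]
    exact lt_mul_of_one_lt_right (Nat.mul_pos hp.out.pos hp.out.pos) hp.out.one_lt
  omega

theorem exists_mem_of_relIndex_le {B : Subgroup G} (hA2 : p ^ 2 ≤ Nat.card A) (hB : B.relIndex A ≤ p) :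
    ∃ b ∈ B, b ≠ 1 := by
  by_contra hcon
  push Not at hcon
  rw [(eq_bot_iff_forall B).2 hcon, relIndex_bot_left] at hB
  have h5 : p < p ^ 2 := lt_self_pow₀ hp.out.one_lt one_lt_two
  omega

/-- A `p'`-subgroup invariant under a noncyclic `A` is generated by its fixed points of nontrivial elements. -/
theorem le_of_fixed {U R : Subgroup G} (hA2 : p ^ 2 ≤ Nat.card A) (hU : ¬ p ∣ Nat.card U)
    (hAU : A ≤ normalizer (U : Set G)) (h : ∀ a ∈ A, a ≠ 1 → U ⊓ centralizer {a} ≤ R) : U ≤ R := by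
  refine Cores.le_of_hyperplanes hA ((Cores.coprime_iff_not_dvd hp.out _).2 hU) hAU fun B hBA hB => ?_
  obtain ⟨b, hb, hb1⟩ := exists_mem_of_relIndex_le hA hA2 hB
  exact (inf_le_inf_left U (centralizer_le (Set.singleton_subset_iff.2 hb))).trans (h b (hBA hb) hb1)

/-- Two `q`-subgroups invariant under `A` of rank three have a common fixed-point element outside their
intersection. -/
theorem exists_common_fixed (hA3 : p ^ 3 ≤ Nat.card A) {q : ℕ} [hq : Fact q.Prime] (hqp : q ≠ p)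
    {Q₁ Q₂ : Subgroup G} (h₁ : IsPGroup q Q₁) (h₂ : IsPGroup q Q₂) (hA₁ : A ≤ normalizer (Q₁ : Set G))
    (hA₂ : A ≤ normalizer (Q₂ : Set G)) (hD₁ : Q₁ ⊓ Q₂ ≠ Q₁) (hD₂ : Q₁ ⊓ Q₂ ≠ Q₂) :
    ∃ a ∈ A, a ≠ 1 ∧
      ¬ (normalizer ((Q₁ ⊓ Q₂ : Subgroup G) : Set G) ⊓ Q₁ ⊓ centralizer {a} ≤ Q₁ ⊓ Q₂) ∧
      ¬ (normalizer ((Q₁ ⊓ Q₂ : Subgroup G) : Set G) ⊓ Q₂ ⊓ centralizer {a} ≤ Q₁ ⊓ Q₂) := by
  set D := Q₁ ⊓ Q₂ with hD
  have hAD : A ≤ normalizer (D : Set G) := Solvable.le_normalizer_inf hA₁ hA₂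
  have key : ∀ Q : Subgroup G, IsPGroup q Q → A ≤ normalizer (Q : Set G) → D < Q →
      ∃ B ≤ A, B.relIndex A ≤ p ∧
        ¬ (normalizer (D : Set G) ⊓ Q ⊓ centralizer (B : Set G) ≤ D) := by
    intro Q hQ hAQ hlt
    by_contra hcon
    push Not at hcon
    set N := normalizer (D : Set G) ⊓ Q
    have hN : (Nat.card N).Coprime p := by
      obtain ⟨k, hk⟩ := IsPGroup.iff_card.1 (hQ.to_le (inf_le_right : N ≤ Q))
      rw [hk]
      exact Nat.Coprime.pow_left k ((Nat.coprime_primes hq.out hp.out).2 hqp)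
    have hNle : N ≤ D := Cores.le_of_hyperplanes hA hN
      (Solvable.le_normalizer_inf (hAD.trans le_normalizer) hAQ) hcon
    exact (isPGroup_inf_normalizer_gt hQ hlt).not_ge (inf_comm (normalizer (D : Set G)) Q ▸ hNle)
  obtain ⟨B₁, hB₁A, hB₁, hn₁⟩ := key Q₁ h₁ hA₁ (lt_of_le_of_ne inf_le_left hD₁)
  obtain ⟨B₂, hB₂A, hB₂, hn₂⟩ := key Q₂ h₂ hA₂ (lt_of_le_of_ne inf_le_right hD₂)
  obtain ⟨a, ha, ha1⟩ := exists_mem_inf hA hA3 hB₁A hB₁ hB₂
  exact ⟨a, hB₁A ha.1, ha1,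
    fun h => hn₁ ((inf_le_inf_left _ (centralizer_le (Set.singleton_subset_iff.2 ha.1))).trans h),
    fun h => hn₂ ((inf_le_inf_left _ (centralizer_le (Set.singleton_subset_iff.2 ha.2))).trans h)⟩

end Elementary

/-! ### The family -/

omit hp in
theorem le_normalizer_of_mem {U : Subgroup G} (hU : U ∈ signalizerFamily p A θ) : A ≤ normalizer (U : Set G) :=
  CfsgLib.Solvable.le_normalizer_of_conj_mem fun b hb u hu => hU.2.2.1 b hb u hu

omit hp in
theorem mem_of_le {U V : Subgroup G} (hV : V ∈ signalizerFamily p A θ) (hUV : U ≤ V)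
    (hAU : A ≤ normalizer (U : Set G)) : U ∈ signalizerFamily p A θ :=
  ⟨Solvable.isSolvable_of_le hV.1 hUV, fun h => hV.2.1 (h.trans (card_dvd_of_le hUV)),
    fun b hb u hu => (mem_normalizer_iff.1 (hAU hb) u).1 hu,
    fun a ha ha1 => (inf_le_inf_right _ hUV).trans (hV.2.2.2 a ha ha1)⟩

section Functor

variable (hθ : IsSolvableSignalizerFunctor p A θ)
include hθ

omit [Finite G] hp in
theorem theta_mem {a : G} (ha : a ∈ A) (ha1 : a ≠ 1) : θ a ∈ signalizerFamily p A θ :=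
  ⟨hθ.2 a ha ha1, hθ.1.2.1 a ha ha1, hθ.1.2.2.1 a ha ha1, fun b hb hb1 => hθ.1.2.2.2 a ha ha1 b hb hb1⟩

omit hp in
theorem le_normalizer_theta {a : G} (ha : a ∈ A) (ha1 : a ≠ 1) : A ≤ normalizer (θ a : Set G) :=
  le_normalizer_of_mem (theta_mem hθ ha ha1)

omit [Finite G] hp hθ in
theorem signalizerInf_le {B : Subgroup G} {b : G} (hb : b ∈ B) (hb1 : b ≠ 1) : signalizerInf B θ ≤ θ b :=
  iInf_le (fun a : {a : G // a ∈ B ∧ a ≠ 1} => θ (a : G)) ⟨b, hb, hb1⟩

omit [Finite G] hp hθ in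
theorem inf_centralizer_le_signalizerInf {B U : Subgroup G} (hB : B ≤ A) (hU : U ∈ signalizerFamily p A θ) :
    U ⊓ centralizer (B : Set G) ≤ signalizerInf B θ :=
  le_iInf fun b => (inf_le_inf_left U (centralizer_le (Set.singleton_subset_iff.2 b.2.1))).trans
    (hU.2.2.2 b (hB b.2.1) b.2.2)

omit [Finite G] hp in
theorem signalizerInf_le_centralizer {B : Subgroup G} (hB : B ≤ A) :
    signalizerInf B θ ≤ centralizer (B : Set G) := by
  intro x hx
  rw [mem_centralizer_iff]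
  intro b hb
  rcases eq_or_ne b 1 with rfl | hb1
  · rw [one_mul, mul_one]
  · exact (mem_centralizer_singleton_iff.1 (hθ.1.1 b (hB hb) hb1 (signalizerInf_le hb hb1 hx))).symm

omit hp in
theorem signalizerInf_mem {B : Subgroup G} (hB : B ≤ A) (hB1 : B ≠ ⊥) : signalizerInf B θ ∈ signalizerFamily p A θ := by
  obtain ⟨b, hb, hb1⟩ : ∃ b ∈ B, b ≠ 1 := by
    by_contra h
    push Not at h
    exact hB1 ((eq_bot_iff_forall B).2 h)
  refine mem_of_le (theta_mem hθ (hB hb) hb1) (signalizerInf_le hb hb1) fun c hc => ?_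
  refine CfsgLib.Solvable.mem_normalizer_of_conj_mem fun x hx => ?_
  simp only [signalizerInf, mem_iInf] at hx ⊢
  exact fun a => hθ.1.2.2.1 a (hB a.2.1) a.2.2 c hc x (hx a)

omit hp in
/-- The elements of `signalizerInf A θ` permute the family and centralize `A`. -/
theorem map_conj_mem {U : Subgroup G} (hU : U ∈ signalizerFamily p A θ) {c : G} (hc : c ∈ signalizerInf A θ) :
    U.map (MulAut.conj c).toMonoidHom ∈ signalizerFamily p A θ := by
  have hcA : ∀ b ∈ A, b * c = c * b := fun b hb =>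
    mem_centralizer_iff.1 (signalizerInf_le_centralizer hθ le_rfl hc) b hb
  refine ⟨?_, ?_, ?_, fun a ha ha1 => ?_⟩
  · haveI := hU.1
    exact Group.isSolvable_of_surjective (f := ((MulAut.conj c).toMonoidHom).subgroupMap U)
      (MonoidHom.subgroupMap_surjective _ _)
  · rw [← Nat.card_congr (equivMapOfInjective U _ (MulAut.conj c).injective).toEquiv]
    exact hU.2.1
  · rintro b hb _ ⟨u, hu, rfl⟩
    refine ⟨b * u * b⁻¹, hU.2.2.1 b hb u hu, ?_⟩
    show c * (b * u * b⁻¹) * c⁻¹ = b * (c * u * c⁻¹) * b⁻¹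
    calc c * (b * u * b⁻¹) * c⁻¹ = (c * b) * u * (c * b)⁻¹ := by group
      _ = (b * c) * u * (b * c)⁻¹ := by rw [hcA b hb]
      _ = _ := by group
  · rintro _ ⟨⟨u, hu, rfl⟩, hua⟩
    have hua' : u ∈ centralizer {a} := by
      rw [mem_centralizer_singleton_iff]
      have h1 : c * u * c⁻¹ * a = a * (c * u * c⁻¹) := mem_centralizer_singleton_iff.1 hua
      have h2 : c⁻¹ * a * c = a := by rw [mul_assoc, hcA a ha, inv_mul_cancel_left]
      calc u * a = c⁻¹ * (c * u * c⁻¹ * a) * c := by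
            rw [show c⁻¹ * (c * u * c⁻¹ * a) * c = u * (c⁻¹ * a * c) by group, h2]
        _ = c⁻¹ * (a * (c * u * c⁻¹)) * c := by rw [h1]
        _ = (c⁻¹ * a * c) * u := by group
        _ = a * u := by rw [h2]
    have h3 := hU.2.2.2 a ha ha1 ⟨hu, hua'⟩
    have hca : c ∈ θ a := signalizerInf_le ha ha1 hc
    exact (θ a).mul_mem ((θ a).mul_mem hca h3) ((θ a).inv_mem hca)

variable (hA : IsElementaryAbelian p A)
include hA

omit hθ hA hp [Finite G] in
theorem surjective_quotient {X Y : Subgroup G} (hn : Y ≤ normalizer (X : Set G))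
    [(X.subgroupOf (X ⊔ Y)).Normal] : Function.Surjective
      ((QuotientGroup.mk' (X.subgroupOf (X ⊔ Y))).comp (inclusion (le_sup_right : Y ≤ X ⊔ Y))) := fun w => by
  obtain ⟨⟨g, hg⟩, rfl⟩ := QuotientGroup.mk'_surjective _ w
  obtain ⟨x, hx, y, hy, rfl⟩ := Solvable.exists_mul_of_mem_sup hn hg
  refine ⟨⟨y, hy⟩, (QuotientGroup.eq (s := X.subgroupOf (X ⊔ Y))).2 ?_⟩
  show y⁻¹ * (x * y) ∈ X
  have := (mem_normalizer_iff.1 (inv_mem (hn hy)) x).1 hx
  simpa [mul_assoc] using this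

/-- Products of members normalizing each other stay in the family. -/
theorem sup_mem {X Y : Subgroup G} (hX : X ∈ signalizerFamily p A θ) (hY : Y ∈ signalizerFamily p A θ)
    (hn : Y ≤ normalizer (X : Set G)) : X ⊔ Y ∈ signalizerFamily p A θ := by
  have hAX := le_normalizer_of_mem hX
  have hAY := le_normalizer_of_mem hY
  refine ⟨?_, ?_, fun b hb u hu => ?_, fun a ha ha1 => ?_⟩
  · set S := X ⊔ Y
    haveI : (X.subgroupOf S).Normal :=
      (normal_subgroupOf_iff_le_normalizer le_sup_left).2 (sup_le le_normalizer hn)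
    have h1 : Group.IsSolvable (X.subgroupOf S) := by
      haveI := hX.1
      exact Group.isSolvable_of_surjective (f := (subgroupOfEquivOfLe (le_sup_left : X ≤ S)).symm.toMonoidHom)
        (subgroupOfEquivOfLe (le_sup_left : X ≤ S)).symm.surjective
    have h2 : Group.IsSolvable (↥S ⧸ X.subgroupOf S) := by
      haveI := hY.1
      exact Group.isSolvable_of_surjective (f := (QuotientGroup.mk' (X.subgroupOf S)).comp
        (inclusion (le_sup_right : Y ≤ S))) (surjective_quotient hn)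
    refine Group.isSolvable_of_ker_le_range (X.subgroupOf S).subtype (QuotientGroup.mk' (X.subgroupOf S)) ?_
    rw [QuotientGroup.ker_mk', range_subtype]
  · intro hdvd
    set S := X ⊔ Y
    haveI : (X.subgroupOf S).Normal :=
      (normal_subgroupOf_iff_le_normalizer le_sup_left).2 (sup_le le_normalizer hn)
    have h1 : Nat.card S ∣ Nat.card X * Nat.card Y := by
      rw [← card_mul_index (X.subgroupOf S), Nat.card_congr (subgroupOfEquivOfLe (le_sup_left : X ≤ S)).toEquiv]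
      exact Nat.mul_dvd_mul_left _ (card_dvd_of_surjective _ (surjective_quotient hn))
    exact (Nat.Prime.not_dvd_mul hp.out hX.2.1 hY.2.1) (hdvd.trans h1)
  · obtain ⟨x, hx, y, hy, rfl⟩ := Solvable.exists_mul_of_mem_sup hn hu
    rw [show b * (x * y) * b⁻¹ = (b * x * b⁻¹) * (b * y * b⁻¹) by group]
    exact Subgroup.mul_mem _ (mem_sup_left (hX.2.2.1 b hb x hx)) (mem_sup_right (hY.2.2.1 b hb y hy))
  · rintro g ⟨hg, hga⟩
    obtain ⟨x, hx, y, hy, rfl⟩ := Solvable.exists_mul_of_mem_sup hn hg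
    have hxy : a * (x * y) = (x * y) * a := (mem_centralizer_singleton_iff.1 hga).symm
    set D := X ⊓ Y
    have hBle : zpowers a ≤ A := zpowers_le.2 ha
    have hy' : ∀ b ∈ zpowers a, ⁅b, y⁆ ∈ D := by
      intro b hb
      obtain ⟨i, rfl⟩ := hb
      have hi : a ^ i ∈ A := zpow_mem ha i
      refine ⟨?_, ?_⟩
      · have h4 : a ^ i * (x * y) = (x * y) * a ^ i := ((show Commute a (x * y) from hxy).zpow_left i).eq
        rw [commutatorElement_def, show a ^ i * y * (a ^ i)⁻¹ * y⁻¹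
          = (a ^ i * x * (a ^ i)⁻¹)⁻¹ * (a ^ i * (x * y)) * (a ^ i)⁻¹ * y⁻¹ by group, h4]
        have := X.mul_mem (X.inv_mem (hX.2.2.1 _ hi x hx)) hx
        simpa [mul_assoc] using this
      · rw [commutatorElement_def]
        exact Y.mul_mem (hY.2.2.1 _ hi y hy) (Y.inv_mem hy)
    obtain ⟨n, hn', hfix⟩ := Solvable.exists_mul_mem_centralizer (zpowers a) D
      (hBle.trans (Solvable.le_normalizer_inf hAX hAY))
      ((coprime_card hA (fun h => hX.2.1 (h.trans (card_dvd_of_le inf_le_left)))).coprime_dvd_left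
        (card_dvd_of_le hBle))
      (Or.inl (Solvable.isSolvable_of_le (isSolvable_A hA) hBle)) y hy'
    rw [← centralizer_singleton_eq hA] at hfix
    have hfix1 : x * n⁻¹ ∈ centralizer ({a} : Set G) := by
      rw [show x * n⁻¹ = (x * y) * (n * y)⁻¹ by group]
      exact Subgroup.mul_mem _ hga (Subgroup.inv_mem _ hfix)
    rw [show x * y = (x * n⁻¹) * (n * y) by group]
    exact (θ a).mul_mem (hX.2.2.2 a ha ha1 ⟨X.mul_mem hx (X.inv_mem hn'.1), hfix1⟩)
      (hY.2.2.2 a ha ha1 ⟨Y.mul_mem hn'.2 hy, hfix⟩)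

/-- Balance passes to quotients by normal `p'`-subgroups. -/
theorem balance_quotient {N : Subgroup G} [N.Normal] (hN : ¬ p ∣ Nat.card N) {a b : G} (ha : a ∈ A) (ha1 : a ≠ 1)
    (hb : b ∈ A) (hb1 : b ≠ 1) :
    (θ a).map (QuotientGroup.mk' N) ⊓ centralizer {QuotientGroup.mk' N b} ≤ (θ b).map (QuotientGroup.mk' N) := by
  rintro _ ⟨⟨u, hu, rfl⟩, hub⟩
  set π := QuotientGroup.mk' N
  have hBle : zpowers b ≤ A := zpowers_le.2 hb
  have hu' : ∀ c ∈ zpowers b, ⁅c, u⁆ ∈ N ⊓ θ a := by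
    intro c hc
    obtain ⟨i, rfl⟩ := hc
    refine ⟨?_, ?_⟩
    · refine (QuotientGroup.eq_one_iff (N := N) _).1 ?_
      show π ⁅b ^ i, u⁆ = 1
      rw [map_commutatorElement, commutatorElement_eq_one_iff_mul_comm, map_zpow]
      exact ((show Commute (π b) (π u) from (mem_centralizer_singleton_iff.1 hub).symm).zpow_left i).eq
    · rw [commutatorElement_def]
      exact (θ a).mul_mem (hθ.1.2.2.1 a ha ha1 _ (zpow_mem hb i) u hu) ((θ a).inv_mem hu)
  have hAN : A ≤ normalizer (N : Set G) := le_top.trans (normalizer_eq_top_iff.2 inferInstance).ge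
  obtain ⟨n, hn, hfix⟩ := Solvable.exists_mul_mem_centralizer (zpowers b) (N ⊓ θ a)
    (hBle.trans (Solvable.le_normalizer_inf hAN (le_normalizer_theta hθ ha ha1)))
    ((coprime_card hA (fun h => hN (h.trans (card_dvd_of_le inf_le_left)))).coprime_dvd_left (card_dvd_of_le hBle))
    (Or.inl (Solvable.isSolvable_of_le (isSolvable_A hA) hBle)) u hu'
  rw [← centralizer_singleton_eq hA] at hfix
  refine ⟨n * u, hθ.1.2.2.2 a ha ha1 b hb hb1 ⟨(θ a).mul_mem hn.2 hu, hfix⟩, ?_⟩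
  show π (n * u) = π u
  rw [map_mul, show π n = 1 from (QuotientGroup.eq_one_iff n).2 hn.1, one_mul]

end Functor

/-! ### `q`-members -/

/-- `Q` is maximal among the `q`-subgroups in the family. -/
def IsMaxMember (p : ℕ) (A : Subgroup G) (θ : G → Subgroup G) (q : ℕ) (Q : Subgroup G) : Prop :=
  Q ∈ signalizerFamily p A θ ∧ IsPGroup q Q ∧
    ∀ R ∈ signalizerFamily p A θ, IsPGroup q R → Q ≤ R → R = Q

omit hp in
theorem exists_isMaxMember {q : ℕ} {U : Subgroup G} (hU : U ∈ signalizerFamily p A θ) (hq : IsPGroup q U) :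
    ∃ Q, IsMaxMember p A θ q Q ∧ U ≤ Q := by
  obtain ⟨Q, hle, ⟨hQ, hQq⟩, hmax⟩ := Finite.exists_le_maximal
    (p := fun V : Subgroup G => V ∈ signalizerFamily p A θ ∧ IsPGroup q V) (a := U) ⟨hU, hq⟩
  exact ⟨Q, ⟨hQ, hQq, fun R h1 h2 h3 => le_antisymm (hmax ⟨h1, h2⟩ h3) h3⟩, hle⟩

variable (hθ : IsSolvableSignalizerFunctor p A θ) (hA : IsElementaryAbelian p A)
include hθ hA

omit hA in
omit hp in
theorem IsMaxMember.map_conj {q : ℕ} {Q : Subgroup G} (hQ : IsMaxMember p A θ q Q) {c : G}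
    (hc : c ∈ signalizerInf A θ) : IsMaxMember p A θ q (Q.map (MulAut.conj c).toMonoidHom) := by
  have hcomp : ∀ (d : G) (R : Subgroup G),
      (R.map (MulAut.conj d).toMonoidHom).map (MulAut.conj d⁻¹).toMonoidHom = R := by
    intro d R
    rw [map_map]
    conv_rhs => rw [← Subgroup.map_id R]
    congr 1
    ext x
    simp [mul_assoc]
  refine ⟨map_conj_mem hθ hQ.1 hc, hQ.2.1.map _, fun R hR hRq hle => ?_⟩
  have h1 := hQ.2.2 _ (map_conj_mem hθ hR ((signalizerInf A θ).inv_mem hc)) (hRq.map _) (by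
    rw [← hcomp c Q]
    exact map_mono hle)
  have h2 := congrArg (Subgroup.map (MulAut.conj c).toMonoidHom) h1
  have h3 := hcomp c⁻¹ R
  rw [inv_inv] at h3
  rwa [h3] at h2

theorem exists_invariant_sylow_member {q : ℕ} [Fact q.Prime] {K : Subgroup G} (hK : K ∈ signalizerFamily p A θ)
    {U : Subgroup G} (hUK : U ≤ K) (hU : IsPGroup q U) (hAU : A ≤ normalizer (U : Set G)) :
    ∃ S : Sylow q K, U ≤ (S : Subgroup K).map K.subtype ∧
      A ≤ normalizer ((S : Subgroup K).map K.subtype : Set G) ∧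
      (S : Subgroup K).map K.subtype ∈ signalizerFamily p A θ ∧ IsPGroup q ((S : Subgroup K).map K.subtype) := by
  obtain ⟨S, hS1, hS2⟩ := Solvable.exists_invariant_sylow_ge (A := A) (K := K) (le_normalizer_of_mem hK)
    (coprime_card hA hK.2.1) (Or.inl (isSolvable_A hA)) q hUK hU hAU
  exact ⟨S, hS1, hS2, mem_of_le hK (map_subtype_le _) hS2, S.2.map _⟩

/-- The transitivity theorem. -/
theorem transitivity (hA3 : p ^ 3 ≤ Nat.card A) {q : ℕ} [hq' : Fact q.Prime]
    (hq : ∃ a ∈ A, a ≠ 1 ∧ q ∣ Nat.card (θ a)) {Q₁ Q₂ : Subgroup G} (h₁ : IsMaxMember p A θ q Q₁)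
    (h₂ : IsMaxMember p A θ q Q₂) : ∃ c ∈ signalizerInf A θ, Q₁.map (MulAut.conj c).toMonoidHom = Q₂ := by
  have hqp : q ≠ p := by
    obtain ⟨a, ha, ha1, hd⟩ := hq
    rintro rfl
    exact hθ.1.2.1 a ha ha1 hd
  have hcompose : ∀ (c d : G) (R : Subgroup G),
      (R.map (MulAut.conj c).toMonoidHom).map (MulAut.conj d).toMonoidHom = R.map (MulAut.conj (d * c)).toMonoidHom := by
    intro c d R
    rw [map_map]
    congr 1
    ext x
    simp [mul_assoc]
  let Conj : Subgroup G → Subgroup G → Prop := fun R R' =>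
    ∃ c ∈ signalizerInf A θ, R.map (MulAut.conj c).toMonoidHom = R'
  have hsymm : ∀ R R', Conj R R' → Conj R' R := by
    rintro R R' ⟨c, hc, rfl⟩
    refine ⟨c⁻¹, inv_mem hc, ?_⟩
    rw [hcompose, inv_mul_cancel]
    conv_rhs => rw [← Subgroup.map_id R]
    congr 1
    ext x
    simp
  have htrans : ∀ R R' R'', Conj R R' → Conj R' R'' → Conj R R'' := by
    rintro R R' R'' ⟨c, hc, rfl⟩ ⟨d, hd, rfl⟩
    exact ⟨d * c, mul_mem hd hc, (hcompose c d R).symm⟩
  by_contra hcon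
  obtain ⟨⟨R₁, R₂⟩, ⟨hR₁, hR₂, hne⟩, hmax⟩ := Set.exists_max_image
    {P : Subgroup G × Subgroup G | IsMaxMember p A θ q P.1 ∧ IsMaxMember p A θ q P.2 ∧ ¬ Conj P.1 P.2}
    (fun P => Nat.card ↥(P.1 ⊓ P.2)) (Set.toFinite _) ⟨(Q₁, Q₂), h₁, h₂, hcon⟩
  set D := R₁ ⊓ R₂ with hD
  have hrefl : ∀ R, Conj R R := fun R => ⟨1, one_mem _, by
    conv_rhs => rw [← Subgroup.map_id R]
    congr 1
    ext x
    simp⟩
  have hD₁ : D ≠ R₁ := fun h => hne (by
    rw [hR₁.2.2 R₂ hR₂.1 hR₂.2.1 (inf_eq_left.1 h)]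
    exact hrefl R₁)
  have hD₂ : D ≠ R₂ := fun h => hne (by
    rw [hR₂.2.2 R₁ hR₁.1 hR₁.2.1 (inf_eq_right.1 h)]
    exact hrefl R₂)
  obtain ⟨a, ha, ha1, hn₁, hn₂⟩ := exists_common_fixed hA hA3 hqp hR₁.2.1 hR₂.2.1
    (le_normalizer_of_mem hR₁.1) (le_normalizer_of_mem hR₂.1) hD₁ hD₂
  have hAD : A ≤ normalizer (D : Set G) :=
    Solvable.le_normalizer_inf (le_normalizer_of_mem hR₁.1) (le_normalizer_of_mem hR₂.1)
  have hDW : D ∈ signalizerFamily p A θ := mem_of_le hR₁.1 inf_le_left hAD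
  have hHW : θ a ⊓ normalizer (D : Set G) ∈ signalizerFamily p A θ := mem_of_le (theta_mem hθ ha ha1) inf_le_left
    (Solvable.le_normalizer_inf (le_normalizer_theta hθ ha ha1) (hAD.trans le_normalizer))
  set K := D ⊔ θ a ⊓ normalizer (D : Set G) with hK
  have hKW : K ∈ signalizerFamily p A θ := sup_mem hθ hA hDW hHW inf_le_right
  -- a Sylow subgroup of `K` extending each side
  have hext : ∀ R : Subgroup G, IsMaxMember p A θ q R → D ≤ R →
      ¬ (normalizer (D : Set G) ⊓ R ⊓ centralizer {a} ≤ D) →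
      ∃ S : Sylow q K, A ≤ normalizer ((S : Subgroup K).map K.subtype : Set G) ∧ D < R ⊓ (S : Subgroup K).map K.subtype ∧
        (S : Subgroup K).map K.subtype ∈ signalizerFamily p A θ ∧ IsPGroup q ((S : Subgroup K).map K.subtype) := by
    intro R hR hDR hn
    set U := D ⊔ (normalizer (D : Set G) ⊓ R ⊓ centralizer {a}) with hU
    have hUR : U ≤ R := sup_le hDR (inf_le_left.trans inf_le_right)
    have hUK : U ≤ K := sup_le le_sup_left (le_trans (fun x hx =>
      (⟨hR.1.2.2.2 a ha ha1 ⟨hx.1.2, hx.2⟩, hx.1.1⟩ : x ∈ θ a ⊓ normalizer (D : Set G))) le_sup_right)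
    have hAU : A ≤ normalizer (U : Set G) := by
      have hA2' := Solvable.le_normalizer_inf
        (Solvable.le_normalizer_inf (hAD.trans le_normalizer) (le_normalizer_of_mem hR.1))
        (le_normalizer_centralizer_singleton hA ha)
      intro b hb
      rw [mem_normalizer_iff_map_conj_eq, hU, Subgroup.map_sup, mem_normalizer_iff_map_conj_eq.1 (hAD hb),
        mem_normalizer_iff_map_conj_eq.1 (hA2' hb)]
    obtain ⟨S, hUS, hAS, hSW, hSq⟩ := exists_invariant_sylow_member hθ hA hKW hUK (hR.2.1.to_le hUR) hAU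
    refine ⟨S, hAS, lt_of_lt_of_le ?_ (le_inf hUR hUS), hSW, hSq⟩
    exact lt_of_le_of_ne le_sup_left fun h => hn (le_sup_right.trans h.ge)
  obtain ⟨S₁, hAS₁, hlt₁, hS₁W, hS₁q⟩ := hext R₁ hR₁ inf_le_left hn₁
  obtain ⟨S₂, hAS₂, hlt₂, hS₂W, hS₂q⟩ := hext R₂ hR₂ inf_le_right hn₂
  obtain ⟨c, hc, hcS⟩ := Solvable.exists_centralizer_conj_sylow A K (le_normalizer_of_mem hKW)
    (coprime_card hA hKW.2.1) (Or.inl (isSolvable_A hA)) S₁ S₂ hAS₁ hAS₂
  rw [Solvable.conj_smul_eq_map] at hcS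
  have hcθ : c ∈ signalizerInf A θ := inf_centralizer_le_signalizerInf le_rfl hKW hc
  obtain ⟨M₁, hM₁, hle₁⟩ := exists_isMaxMember hS₁W hS₁q
  obtain ⟨M₂, hM₂, hle₂⟩ := exists_isMaxMember hS₂W hS₂q
  have hbig : ∀ P P' : Subgroup G, IsMaxMember p A θ q P → IsMaxMember p A θ q P' → D < P ⊓ P' → Conj P P' := by
    intro P P' hP hP' hlt
    by_contra h
    exact (Set.Finite.card_lt_card (Set.toFinite _) (SetLike.coe_ssubset_coe.2 hlt)).not_ge
      (hmax (P, P') ⟨hP, hP', h⟩)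
  have k₁ : Conj R₁ M₁ := hbig _ _ hR₁ hM₁ (lt_of_lt_of_le hlt₁ (inf_le_inf_left _ hle₁))
  have k₂ : Conj R₂ M₂ := hbig _ _ hR₂ hM₂ (lt_of_lt_of_le hlt₂ (inf_le_inf_left _ hle₂))
  have k₃ : Conj M₁ M₂ := htrans _ _ _ ⟨c, hcθ, rfl⟩ (hbig _ _ (hM₁.map_conj hθ hcθ) hM₂ (by
    refine lt_of_lt_of_le (lt_of_lt_of_le hlt₂ inf_le_right) (le_inf ?_ hle₂)
    rw [← hcS]
    exact map_mono hle₁))
  exact hne (htrans _ _ _ k₁ (htrans _ _ _ k₃ (hsymm _ _ k₂)))

/-- A conjugate under `signalizerInf A θ` of a maximal `q`-member meets every member in a Sylow subgroup. -/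
theorem exists_sylow_inter (hA3 : p ^ 3 ≤ Nat.card A) {q : ℕ} [hq' : Fact q.Prime]
    (hq : ∃ a ∈ A, a ≠ 1 ∧ q ∣ Nat.card (θ a)) {Q H : Subgroup G} (hQ : IsMaxMember p A θ q Q)
    (hH : H ∈ signalizerFamily p A θ) :
    ∃ c ∈ signalizerInf A θ, ∃ S : Sylow q H,
      (S : Subgroup H).map H.subtype = Q.map (MulAut.conj c).toMonoidHom ⊓ H := by
  obtain ⟨S, -, -, hSW, hSq⟩ := exists_invariant_sylow_member (q := q) (U := ⊥) hθ hA hH bot_le IsPGroup.of_bot
    (le_top.trans (normalizer_eq_top_iff.2 inferInstance).ge)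
  obtain ⟨R, hR, hle⟩ := exists_isMaxMember hSW hSq
  obtain ⟨c, hc, rfl⟩ := transitivity hθ hA hA3 hq hQ hR
  refine ⟨c, hc, S, le_antisymm (le_inf hle (map_subtype_le _)) ?_⟩
  set V := Q.map (MulAut.conj c).toMonoidHom ⊓ H
  have h1 := S.3 (Q := V.subgroupOf H)
    ((hR.2.1.to_le inf_le_left).of_equiv (subgroupOfEquivOfLe (inf_le_right : V ≤ H)).symm)
    (fun x hx => ⟨hle ⟨x, hx, rfl⟩, x.2⟩)
  rw [← h1, map_subgroupOf_eq_of_le inf_le_right]

/-- `C_Q(B)` is a Sylow subgroup of the intersection over `B`. -/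
theorem exists_sylow_centralizer (hA3 : p ^ 3 ≤ Nat.card A) {q : ℕ} [hq' : Fact q.Prime]
    (hq : ∃ a ∈ A, a ≠ 1 ∧ q ∣ Nat.card (θ a)) {Q : Subgroup G} (hQ : IsMaxMember p A θ q Q) {B : Subgroup G}
    (hB : B ≤ A) (hB1 : B ≠ ⊥) :
    ∃ S : Sylow q ↥(signalizerInf B θ),
      (S : Subgroup ↥(signalizerInf B θ)).map (signalizerInf B θ).subtype = Q ⊓ centralizer (B : Set G) := by
  set H := signalizerInf B θ with hH
  have hHW : H ∈ signalizerFamily p A θ := signalizerInf_mem hθ hB hB1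
  have heq : Q ⊓ centralizer (B : Set G) = Q ⊓ H := le_antisymm
    (le_inf inf_le_left (inf_centralizer_le_signalizerInf hB hQ.1))
    (inf_le_inf_left _ (signalizerInf_le_centralizer hθ hB))
  obtain ⟨c, hc, S, hS⟩ := exists_sylow_inter hθ hA hA3 hq hQ hHW
  have hcH : c ∈ H := by
    rw [hH]
    simp only [signalizerInf, mem_iInf]
    exact fun b => signalizerInf_le (hB b.2.1) b.2.2 hc
  obtain ⟨T, hT⟩ := Solvable.exists_sylow_map_eq (inf_le_right : Q ⊓ H ≤ H) S (by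
    rw [← Solvable.card_sylow_map S, hS,
      Nat.card_congr (equivMapOfInjective (Q ⊓ H) (MulAut.conj c).toMonoidHom (MulAut.conj c).injective).toEquiv]
    congr 2
    have hHc : H.map (MulAut.conj c).toMonoidHom = H := mem_normalizer_iff_map_conj_eq.1 (le_normalizer hcH)
    rw [Subgroup.map_inf _ _ _ (MulAut.conj c).injective, hHc])
  exact ⟨T, hT.trans heq.symm⟩

/-- A solvable functor all of whose values are `q`-groups is complete. -/
theorem complete_of_single_prime (hA3 : p ^ 3 ≤ Nat.card A) {q : ℕ} [hq' : Fact q.Prime]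
    (hq : ∀ a ∈ A, a ≠ 1 → IsPGroup q (θ a)) :
    ∃ Q ∈ signalizerFamily p A θ, IsPGroup q Q ∧ ∀ a ∈ A, a ≠ 1 → Q ⊓ centralizer {a} = θ a := by
  have hbot : (⊥ : Subgroup G) ∈ signalizerFamily p A θ := by
    refine ⟨inferInstance, by rw [card_bot]; exact hp.out.not_dvd_one, ?_, fun a _ _ => by simp⟩
    intro b _ u hu
    rw [mem_bot] at hu ⊢
    rw [hu]
    group
  by_cases hall : ∀ a ∈ A, a ≠ 1 → θ a = ⊥
  · exact ⟨⊥, hbot, IsPGroup.of_bot, fun a ha ha1 => by rw [bot_inf_eq, hall a ha ha1]⟩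
  push Not at hall
  obtain ⟨a₀, ha₀, ha₀1, hne⟩ := hall
  have hdvd : ∃ a ∈ A, a ≠ 1 ∧ q ∣ Nat.card (θ a) := by
    refine ⟨a₀, ha₀, ha₀1, ?_⟩
    obtain ⟨k, hk⟩ := IsPGroup.iff_card.1 (hq a₀ ha₀ ha₀1)
    rw [hk]
    refine dvd_pow_self q fun h => hne ?_
    rw [h, pow_zero, card_eq_one] at hk
    exact hk
  obtain ⟨Q, hQ, -⟩ := exists_isMaxMember hbot (IsPGroup.of_bot (p := q))
  refine ⟨Q, hQ.1, hQ.2.1, fun a ha ha1 => le_antisymm (hQ.1.2.2.2 a ha ha1) ?_⟩
  set H := signalizerInf (zpowers a) θ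
  obtain ⟨S, hS⟩ : ∃ S : Sylow q H, (S : Subgroup H).map H.subtype = Q ⊓ centralizer (zpowers a : Set G) :=
    exists_sylow_centralizer hθ hA hA3 hdvd hQ (zpowers_le.2 ha) (by simpa using ha1)
  have hH : H = θ a := by
    refine le_antisymm (signalizerInf_le (mem_zpowers a) ha1) ?_
    intro x hx
    simp only [H, signalizerInf, mem_iInf]
    rintro ⟨b, ⟨i, rfl⟩, hb1⟩
    refine hθ.1.2.2.2 a ha ha1 _ (zpow_mem ha i) hb1 ⟨hx, ?_⟩
    refine mem_centralizer_singleton_iff.2 ?_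
    exact ((show Commute x a from mem_centralizer_singleton_iff.1 (hθ.1.1 a ha ha1 hx)).zpow_right i).eq
  have hSH : (S : Subgroup H) = ⊤ := S.3 (Q := ⊤) (IsPGroup.of_equiv (hH ▸ hq a ha ha1) topEquiv.symm) le_top
      |>.symm
  rw [hSH, ← MonoidHom.range_eq_map, range_subtype, hH, ← centralizer_singleton_eq hA] at hS
  exact hS.le

end CfsgLib.Signalizer
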