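import Cfsg.Agent.Lib.Signalizer.Main
import Cfsg.Agent.Lib.Cores.SignalizerConnected

/-!
The solvable signalizer functor theorem in the forms used elsewhere.
-/

set_option autoImplicit false

namespace CfsgLib.Signalizer

open Subgroup Cfsg

theorem solvableSignalizerTheorem (p : ℕ) [Fact p.Prime] (G : Type*) [Group G] [Finite G] :
    Cores.SolvableSignalizerTheorem p G := by
  intro A hc he hA3 θ hC hp' hinv hsol hbal
  obtain ⟨h1, h2⟩ := closure_mem (PGroup.isElementaryAbelian_mk hc he) hA3 ⟨⟨hC, hp', hinv, hbal⟩, hsol⟩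
  exact ⟨h1.2.1, h2⟩

end CfsgLib.Signalizer
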