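import Cfsg.Agent.Lib.LocalEven.CoreOf
import Cfsg.Agent.Lib.LocalEven.ChainStab
import Cfsg.Agent.Lib.Solvable.CoprimeAction
import Cfsg.Agent.Lib.Solvable.Fitting
import Cfsg.Agent.Lib.Cores.Coprime
import Cfsg.Agent.Lib.Cores.Fitting

/-!
Cores, layers and coprime commutators of subgroups, for the solvable signalizer functor theorem.
-/

set_option autoImplicit false
set_option linter.unusedSectionVars false
set_option linter.style.haveILetI false

namespace CfsgLib.Signalizer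

open Subgroup Cfsg
open scoped commutatorElement

universe u

variable {G : Type u} [Group G]

/-! ### Commutator subgroups with a cyclic group -/

theorem commutator_mul_right (x g h : G) : ⁅x, g * h⁆ = ⁅x, g⁆ * (g * ⁅x, h⁆ * g⁻¹) := by
  simp only [commutatorElement_def]; group

theorem commutator_mul_left (x y w : G) : ⁅x * y, w⁆ = x * ⁅y, w⁆ * x⁻¹ * ⁅x, w⁆ := by
  simp only [commutatorElement_def]; group

theorem conj_commutator (g x y : G) : g * ⁅x, y⁆ * g⁻¹ = ⁅g * x * g⁻¹, g * y * g⁻¹⁆ := by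
  simp only [commutatorElement_def]; group

/-- Commutators with a set of normalising elements extend to the subgroup it generates. -/
theorem commutator_le_of_forall {X K : Subgroup G} {S : Set G} (hS : S ⊆ normalizer (K : Set G))
    (h : ∀ x ∈ X, ∀ s ∈ S, ⁅x, s⁆ ∈ K) : ⁅X, closure S⁆ ≤ K := by
  let T : Subgroup G :=
    { carrier := {g | g ∈ normalizer (K : Set G) ∧ ∀ x ∈ X, ⁅x, g⁆ ∈ K}
      one_mem' := ⟨one_mem _, fun x _ => by rw [commutatorElement_one_right]; exact one_mem _⟩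
      mul_mem' := fun {a b} ha hb => ⟨mul_mem ha.1 hb.1, fun x hx => by
        rw [commutator_mul_right]
        exact mul_mem (ha.2 x hx) ((mem_normalizer_iff.1 ha.1 _).1 (hb.2 x hx))⟩
      inv_mem' := fun {a} ha => ⟨inv_mem ha.1, fun x hx => by
        rw [show ⁅x, a⁻¹⁆ = a⁻¹ * ⁅x, a⁆⁻¹ * a by simp only [commutatorElement_def]; group]
        exact (mem_normalizer_iff''.1 ha.1 _).1 (inv_mem (ha.2 x hx))⟩ }
  have hT : closure S ≤ T := (closure_le _).2 fun s hs => ⟨hS hs, fun x hx => h x hx s hs⟩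
  exact commutator_le.2 fun x hx g hg => (hT hg).2 x hx

theorem commutator_zpowers_le {X K : Subgroup G} {a : G} (ha : a ∈ normalizer (K : Set G))
    (h : ∀ x ∈ X, ⁅x, a⁆ ∈ K) : ⁅X, zpowers a⁆ ≤ K := by
  rw [zpowers_eq_closure]
  exact commutator_le_of_forall (Set.singleton_subset_iff.2 ha) fun x hx s hs => by
    rw [Set.mem_singleton_iff] at hs
    subst hs
    exact h x hx

theorem commutator_mem {X : Subgroup G} {a x : G} (hx : x ∈ X) : ⁅x, a⁆ ∈ ⁅X, zpowers a⁆ :=
  commutator_mem_commutator hx (mem_zpowers a)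

theorem commute_of_commutator_eq_one {a x : G} (h : ⁅x, a⁆ = 1) : x ∈ centralizer ({a} : Set G) :=
  mem_centralizer_singleton_iff.2 (commutatorElement_eq_one_iff_mul_comm.1 h)

theorem centralizer_singleton_eq_zpowers (a : G) :
    centralizer ({a} : Set G) = centralizer (zpowers a : Set G) := by
  rw [zpowers_eq_closure, centralizer_closure]

theorem commutator_zpowers_eq_bot_iff {X : Subgroup G} {a : G} :
    ⁅X, zpowers a⁆ = ⊥ ↔ X ≤ centralizer ({a} : Set G) := by
  rw [commutator_eq_bot_iff_le_centralizer, centralizer_singleton_eq_zpowers]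

theorem mem_normalizer_commutator_zpowers {X : Subgroup G} {a g : G}
    (hg : g ∈ normalizer (X : Set G)) (hc : g * a * g⁻¹ = a) :
    g ∈ normalizer ((⁅X, zpowers a⁆ : Subgroup G) : Set G) := by
  refine Solvable.normalizer_le_normalizer_commutator _ _ ⟨hg, ?_⟩
  show g ∈ normalizer ((zpowers a : Subgroup G) : Set G)
  rw [mem_normalizer_iff_map_conj_eq, MonoidHom.map_zpowers]
  exact congrArg zpowers hc

variable [Finite G]

theorem coprime_zpowers {X : Subgroup G} {a : G} (hc : (orderOf a).Coprime (Nat.card X)) :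
    (Nat.card (zpowers a)).Coprime (Nat.card X) := by rwa [Nat.card_zpowers]

theorem isSolvable_zpowers (a : G) : Group.IsSolvable (zpowers a) :=
  Group.isSolvable_of_comm fun x y => Subtype.ext (by
    obtain ⟨i, hi⟩ := x.2
    obtain ⟨j, hj⟩ := y.2
    show (x : G) * y = y * x
    rw [← hi, ← hj]
    exact ((Commute.refl a).zpow_zpow i j).eq)

theorem commutator_idem {X : Subgroup G} {a : G} (ha : a ∈ normalizer (X : Set G))
    (hc : (orderOf a).Coprime (Nat.card X)) : ⁅⁅X, zpowers a⁆, zpowers a⁆ = ⁅X, zpowers a⁆ :=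
  Solvable.commutator_commutator_self (zpowers_le.2 ha) (coprime_zpowers hc) (Or.inl (isSolvable_zpowers a))

theorem le_centralizer_of_commutator_centralized {X : Subgroup G} {a : G}
    (ha : a ∈ normalizer (X : Set G)) (hc : (orderOf a).Coprime (Nat.card X))
    (h : ⁅X, zpowers a⁆ ≤ centralizer ({a} : Set G)) : X ≤ centralizer ({a} : Set G) := by
  rw [← commutator_zpowers_eq_bot_iff, ← commutator_idem ha hc, commutator_zpowers_eq_bot_iff]
  exact h

theorem exists_commutator_mul_fixed {X : Subgroup G} {a x : G} (ha : a ∈ normalizer (X : Set G))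
    (hc : (orderOf a).Coprime (Nat.card X)) (hx : x ∈ X) :
    ∃ y ∈ ⁅X, zpowers a⁆, ∃ c ∈ X ⊓ centralizer ({a} : Set G), x = y * c := by
  rw [centralizer_singleton_eq_zpowers]
  exact Solvable.exists_commutator_mul_centralizer (zpowers_le.2 ha) (coprime_zpowers hc)
    (Or.inl (isSolvable_zpowers a)) hx

/-- A solvable group acted on coprimely is generated, modulo the hypothesis, by commutators of fixed points:
if `X` is generated by fixed points of the nontrivial elements of `B` in every invariant subgroup and `w`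
commutes with `B`, then `[X, w]` is generated by the `[C_X(b), w]`. -/
theorem commutator_le_of_fixed {X K : Subgroup G} (hX : Group.IsSolvable X) {B : Subgroup G}
    (hB : B ≤ normalizer (X : Set G)) {w : G} (hw : w ∈ normalizer (X : Set G))
    (hwB : ∀ b ∈ B, Commute w b) (hcop : (orderOf w).Coprime (Nat.card X))
    (hgen : ∀ Y : Subgroup G, Y ≤ X → B ≤ normalizer (Y : Set G) →
      ∀ R : Subgroup G, (∀ b ∈ B, b ≠ 1 → Y ⊓ centralizer {b} ≤ R) → Y ≤ R)
    (h : ∀ b ∈ B, b ≠ 1 → ∀ x ∈ X ⊓ centralizer {b}, ⁅x, w⁆ ∈ K) :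
    ⁅X, zpowers w⁆ ≤ K := by
  induction X using WellFoundedLT.induction with
  | _ X ih =>
  rcases eq_or_ne X ⊥ with rfl | hXne
  · rw [commutator_bot_left]; exact bot_le
  set X' := ⁅X, X⁆ with hX'
  have hlt : X' < X := Solvable.commutator_self_lt hX hXne
  have hnX : normalizer (X : Set G) ≤ normalizer (X' : Set G) :=
    (le_inf le_rfl le_rfl).trans (Solvable.normalizer_le_normalizer_commutator X X)
  have hih : ⁅X', zpowers w⁆ ≤ K := ih X' hlt (Solvable.isSolvable_of_le hX hlt.le) (hB.trans hnX) (hnX hw)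
    (hcop.coprime_dvd_right (card_dvd_of_le hlt.le)) (fun Y hY => hgen Y (hY.trans hlt.le))
    (fun b hb hb1 x hx => h b hb hb1 x ⟨hlt.le hx.1, hx.2⟩)
  set K₀ := closure {g : G | ∃ b ∈ B, b ≠ 1 ∧ ∃ x ∈ X ⊓ centralizer {b}, g = ⁅x, w⁆} ⊔ ⁅X', zpowers w⁆
    with hK₀
  have hK : K₀ ≤ K := sup_le ((closure_le _).2 (by rintro _ ⟨b, hb, hb1, x, hx, rfl⟩; exact h b hb hb1 x hx)) hih
  refine le_trans ?_ hK
  have hK₀X : K₀ ≤ X := by
    refine sup_le ((closure_le _).2 ?_) ((Solvable.commutator_le_of_le_normalizer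
      (zpowers_le.2 (hnX hw))).trans hlt.le)
    rintro _ ⟨b, -, -, x, hx, rfl⟩
    show x * w * x⁻¹ * w⁻¹ ∈ X
    rw [mul_assoc, mul_assoc, ← mul_assoc w x⁻¹ w⁻¹]
    exact mul_mem hx.1 ((mem_normalizer_iff.1 hw _).1 (inv_mem hx.1))
  have hwK₀ : w ∈ normalizer (K₀ : Set G) := by
    refine Solvable.mem_normalizer_of_conj_mem ?_
    suffices K₀ ≤ K₀.comap (MulAut.conj w).toMonoidHom from this
    refine sup_le ((closure_le _).2 ?_) fun y hy => mem_sup_right ?_
    · rintro _ ⟨b, hb, hb1, x, hx, rfl⟩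
      refine mem_sup_left (subset_closure ⟨b, hb, hb1, w * x * w⁻¹, ⟨(mem_normalizer_iff.1 hw _).1 hx.1, ?_⟩, ?_⟩)
      · refine mem_centralizer_singleton_iff.2 ?_
        have h1 : Commute x b := mem_centralizer_singleton_iff.1 hx.2
        exact (((hwB b hb).mul_left h1).mul_left (hwB b hb).inv_left).eq
      · show w * ⁅x, w⁆ * w⁻¹ = _
        rw [conj_commutator]
        group
    · exact (mem_normalizer_iff.1 (mem_normalizer_commutator_zpowers (hnX hw) (by group)) _).1 hy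
  -- elements whose commutator with `w` falls in `K₀ X'`
  have hT : ∀ x ∈ X, ⁅x, w⁆ ∈ K₀ ⊔ X' := by
    have hMn : ∀ g ∈ X, g ∈ normalizer ((K₀ ⊔ X' : Subgroup G) : Set G) := by
      intro g hg
      refine Solvable.mem_normalizer_of_conj_mem fun y hy => ?_
      have hyX : y ∈ X := sup_le hK₀X hlt.le hy
      rw [show g * y * g⁻¹ = ⁅g, y⁆ * y by simp only [commutatorElement_def]; group]
      exact mul_mem (mem_sup_right (commutator_mem_commutator hg hyX)) hy
    let S : Subgroup G :=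
      { carrier := {x | x ∈ X ∧ ⁅x, w⁆ ∈ K₀ ⊔ X'}
        one_mem' := ⟨one_mem _, by rw [commutatorElement_one_left]; exact one_mem _⟩
        mul_mem' := fun {a b} ha hb => ⟨mul_mem ha.1 hb.1, by
          rw [commutator_mul_left]
          exact mul_mem ((mem_normalizer_iff.1 (hMn a ha.1) _).1 hb.2) ha.2⟩
        inv_mem' := fun {a} ha => ⟨inv_mem ha.1, by
          rw [show ⁅a⁻¹, w⁆ = a⁻¹ * ⁅a, w⁆⁻¹ * a by simp only [commutatorElement_def]; group]
          exact (mem_normalizer_iff''.1 (hMn a ha.1) _).1 (inv_mem ha.2)⟩ }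
    have hXS : X ≤ S := hgen X le_rfl hB S fun b hb hb1 x hx =>
      ⟨hx.1, mem_sup_left (mem_sup_left (subset_closure ⟨b, hb, hb1, x, hx, rfl⟩))⟩
    exact fun x hx => (hXS hx).2
  have hn : normalizer (X : Set G) ⊓ normalizer (K₀ : Set G) ≤ normalizer ((K₀ ⊔ X' : Subgroup G) : Set G) := by
    intro g hg
    rw [mem_normalizer_iff_map_conj_eq, Subgroup.map_sup, mem_normalizer_iff_map_conj_eq.1 hg.2,
      mem_normalizer_iff_map_conj_eq.1 (hnX hg.1)]
  have h1 : ⁅X, zpowers w⁆ ≤ K₀ ⊔ X' := commutator_zpowers_le (hn ⟨hw, hwK₀⟩) hT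
  rw [← commutator_idem hw hcop]
  refine (commutator_mono h1 le_rfl).trans (commutator_zpowers_le hwK₀ fun y hy => ?_)
  obtain ⟨v, hv, k, hk, rfl⟩ := Solvable.exists_mul_of_mem_sup (K := X') (A := K₀)
    ((hK₀X.trans le_normalizer).trans hnX) (sup_comm K₀ X' ▸ hy)
  rw [show v * k = k * (k⁻¹ * v * k) by group, commutator_mul_left]
  have hv' : k⁻¹ * v * k ∈ X' := (mem_normalizer_iff''.1 (hnX (le_normalizer (hK₀X hk))) _).1 hv
  refine mul_mem (mul_mem (mul_mem hk (mem_sup_right (commutator_mem hv'))) (inv_mem hk)) ?_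
  have h2 : ⁅k, w⁆ = k * (w * k⁻¹ * w⁻¹) := by rw [commutatorElement_def]; group
  rw [h2]
  exact mul_mem hk ((mem_normalizer_iff.1 hwK₀ _).1 (inv_mem hk))

/-! ### Cores of subgroups -/

theorem normalizer_le_normalizer_map_char {X : Subgroup G} (H : Subgroup ↥X) [hH : H.Characteristic] :
    normalizer (X : Set G) ≤ normalizer ((H.map X.subtype : Subgroup G) : Set G) := fun g hg =>
  Solvable.mem_normalizer_of_conj_mem (by
    rintro _ ⟨x, hx, rfl⟩
    exact ⟨X.normalizerMonoidHom ⟨g, hg⟩ x,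
      (characteristic_iff_map_eq.1 hH (X.normalizerMonoidHom ⟨g, hg⟩)).le ⟨x, hx, rfl⟩, rfl⟩)

theorem normalizer_le_normalizer_pCoreOf (q : ℕ) (X : Subgroup G) :
    normalizer (X : Set G) ≤ normalizer ((pCoreOf q X : Subgroup G) : Set G) :=
  haveI := Cores.pCore_characteristic (G := X) q
  normalizer_le_normalizer_map_char _

theorem normalizer_le_normalizer_pPrimeCoreMap (q : ℕ) (X : Subgroup G) :
    normalizer (X : Set G) ≤ normalizer (((pPrimeCore q ↥X).map X.subtype : Subgroup G) : Set G) :=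
  haveI := Cores.pPrimeCore_characteristic (G := X) q
  normalizer_le_normalizer_map_char _

theorem characteristic_comap_mk' {X : Type u} [Group X] (N : Subgroup X) [hN : N.Characteristic]
    (H : Subgroup (X ⧸ N)) [hH : H.Characteristic] : (H.comap (QuotientGroup.mk' N)).Characteristic := by
  refine characteristic_iff_comap_le.2 fun φ x hx => ?_
  have h1 := characteristic_iff_comap_eq.1 hH
    (QuotientGroup.congr N N φ (characteristic_iff_map_eq.1 hN φ))
  show QuotientGroup.mk' N x ∈ H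
  rw [← h1]
  exact hx

/-- The preimage in `X` of the `s`-core of `X / O_q(X)`. -/
def layerOf (q s : ℕ) (X : Subgroup G) : Subgroup G :=
  ((pCore s (↥X ⧸ pCore q ↥X)).comap (QuotientGroup.mk' (pCore q ↥X))).map X.subtype

theorem layerOf_le (q s : ℕ) (X : Subgroup G) : layerOf q s X ≤ X := map_subtype_le _

theorem pCoreOf_le_layerOf (q s : ℕ) (X : Subgroup G) : pCoreOf q X ≤ layerOf q s X := by
  refine map_mono fun x hx => ?_
  show QuotientGroup.mk' (pCore q ↥X) x ∈ pCore s (↥X ⧸ pCore q ↥X)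
  rw [show QuotientGroup.mk' (pCore q ↥X) x = 1 from (QuotientGroup.eq_one_iff x).2 hx]
  exact one_mem _

theorem normalizer_le_normalizer_layerOf (q s : ℕ) (X : Subgroup G) :
    normalizer (X : Set G) ≤ normalizer ((layerOf q s X : Subgroup G) : Set G) := by
  haveI := Cores.pCore_characteristic (G := ↥X) q
  haveI := Cores.pCore_characteristic (G := ↥X ⧸ pCore q ↥X) s
  haveI := characteristic_comap_mk' (pCore q ↥X) (pCore s (↥X ⧸ pCore q ↥X))
  exact normalizer_le_normalizer_map_char _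

theorem mk'_mem_pCore_of_mem_layerOf {q s : ℕ} {X : Subgroup G} {l : G} (hl : l ∈ layerOf q s X) :
    QuotientGroup.mk' (pCore q ↥X) ⟨l, layerOf_le q s X hl⟩ ∈ pCore s (↥X ⧸ pCore q ↥X) := by
  obtain ⟨x, hx, rfl⟩ := hl
  exact hx

theorem mem_pCoreOf_of_mem_layerOf {q s : ℕ} [hq : Fact q.Prime] [hs : Fact s.Prime] (hsq : s ≠ q)
    {X : Subgroup G} {x : G} (hx : x ∈ layerOf q s X) (hxq : ∃ k, orderOf x = q ^ k) : x ∈ pCoreOf q X := by
  obtain ⟨k, hk⟩ := hxq
  have hm := mk'_mem_pCore_of_mem_layerOf hx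
  refine ⟨⟨x, layerOf_le q s X hx⟩, (QuotientGroup.eq_one_iff (N := pCore q ↥X) _).1 ?_, rfl⟩
  show QuotientGroup.mk' (pCore q ↥X) ⟨x, layerOf_le q s X hx⟩ = 1
  rw [← orderOf_eq_one_iff]
  obtain ⟨n, hn⟩ := Cores.card_pCore_eq_pow (G := ↥X ⧸ pCore q ↥X) s
  refine Nat.eq_one_of_dvd_coprimes (((Nat.coprime_primes hq.out hs.out).2 hsq.symm).pow k n) ?_
    (hn ▸ Subgroup.orderOf_dvd_natCard _ hm)
  rw [← hk]
  refine (orderOf_map_dvd _ _).trans ?_
  rw [Subgroup.orderOf_mk]

theorem isPGroup_inf_layerOf {q s : ℕ} [Fact q.Prime] [Fact s.Prime] (hsq : s ≠ q) {X Y : Subgroup G}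
    (hY : IsPGroup q Y) : Y ⊓ layerOf q s X ≤ pCoreOf q X := fun y hy =>
  mem_pCoreOf_of_mem_layerOf hsq hy.2 (by
    obtain ⟨k, hk⟩ := IsPGroup.iff_orderOf.1 hY ⟨y, hy.1⟩
    exact ⟨k, by rwa [Subgroup.orderOf_mk] at hk⟩)

/-- The criterion: a `q`-subgroup centralising every layer modulo `O_q(X)` lies in `O_q(X)`. -/
theorem le_pCoreOf_of_layers {q : ℕ} [hq : Fact q.Prime] {X Y : Subgroup G} (hX : Group.IsSolvable X)
    (hYX : Y ≤ X) (hY : IsPGroup q Y)
    (h : ∀ s : ℕ, s.Prime → s ≠ q → ∀ l ∈ layerOf q s X, ∀ y ∈ Y, ⁅l, y⁆ ∈ pCoreOf q X) :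
    Y ≤ pCoreOf q X := by
  intro y hy
  haveI := hX
  haveI : Group.IsSolvable (↥X ⧸ pCore q ↥X) :=
    Group.isSolvable_of_surjective (f := QuotientGroup.mk' (pCore q ↥X)) (QuotientGroup.mk'_surjective _)
  set π := QuotientGroup.mk' (pCore q ↥X)
  have hcent : π ⟨y, hYX hy⟩ ∈ centralizer (fittingSubgroup (↥X ⧸ pCore q ↥X) : Set (↥X ⧸ pCore q ↥X)) := by
    have hle : fittingSubgroup (↥X ⧸ pCore q ↥X) ≤ centralizer {π ⟨y, hYX hy⟩} := by
      rw [Cores.fittingSubgroup_eq_iSup_pCore]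
      refine iSup_le fun s => ?_
      haveI : Fact (s : ℕ).Prime := ⟨Nat.prime_of_mem_primeFactors s.2⟩
      by_cases hsq : (s : ℕ) = q
      · rw [hsq, Cores.pCore_quotient_self]; exact bot_le
      · intro z hz
        obtain ⟨⟨l, hlX⟩, rfl⟩ := QuotientGroup.mk'_surjective (pCore q ↥X) z
        have hl : l ∈ layerOf q s X := ⟨⟨l, hlX⟩, hz, rfl⟩
        obtain ⟨c, hc, hceq⟩ := h s Fact.out hsq l hl y hy
        refine mem_centralizer_singleton_iff.2 ?_
        have h1 : π ⁅(⟨l, hlX⟩ : X), ⟨y, hYX hy⟩⁆ = 1 := by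
          refine (QuotientGroup.eq_one_iff _).2 ?_
          rwa [show ⁅(⟨l, hlX⟩ : X), (⟨y, hYX hy⟩ : X)⁆ = c from Subtype.ext hceq.symm]
        rw [map_commutatorElement, commutatorElement_eq_one_iff_mul_comm] at h1
        exact h1
    exact mem_centralizer_iff.2 fun z hz => mem_centralizer_singleton_iff.1 (hle hz)
  have hF := Solvable.centralizer_fittingSubgroup_le hcent
  have hcop : (Nat.card (fittingSubgroup (↥X ⧸ pCore q ↥X))).Coprime q := by
    rw [Cores.coprime_iff_not_dvd hq.out]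
    intro hd
    obtain ⟨z, hz⟩ := exists_prime_orderOf_dvd_card' q hd
    haveI : Group.IsNilpotent (fittingSubgroup (↥X ⧸ pCore q ↥X)) := Cores.isNilpotent_fittingSubgroup
    have hn := Cores.fittingSubgroup_normal (G := ↥X ⧸ pCore q ↥X)
    obtain ⟨S, hS⟩ := (IsPGroup.of_card (n := 1) (by rw [Nat.card_zpowers, hz, pow_one]) :
      IsPGroup q (zpowers z)).exists_le_sylow
    haveI : (S : Subgroup (fittingSubgroup (↥X ⧸ pCore q ↥X))).Normal := inferInstance
    have h2 := ((map_mono ((hS (mem_zpowers z)) |> fun hz' => show zpowers z ≤ pCore q _ from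
      (zpowers_le.2 hz').trans (Cores.le_pCore S.2))).trans
        (Cores.map_subtype_pCore_le_of_normal q _)) ⟨z, mem_zpowers z, rfl⟩
    rw [Cores.pCore_quotient_self, mem_bot] at h2
    rw [← Subgroup.orderOf_coe, show (z : ↥X ⧸ pCore q ↥X) = 1 from h2, orderOf_one] at hz
    exact hq.out.ne_one hz.symm
  obtain ⟨k, hk⟩ := IsPGroup.iff_orderOf.1 hY ⟨y, hy⟩
  rw [Subgroup.orderOf_mk] at hk
  have h1 : π ⟨y, hYX hy⟩ = 1 := by
    rw [← orderOf_eq_one_iff]
    refine Nat.eq_one_of_dvd_coprimes (hcop.symm.pow_left k) ?_ (Subgroup.orderOf_dvd_natCard _ hF)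
    rw [← hk]
    exact (orderOf_map_dvd _ _).trans (by rw [Subgroup.orderOf_mk])
  exact ⟨⟨y, hYX hy⟩, (QuotientGroup.eq_one_iff _).1 h1, rfl⟩

/-- Cores for different primes commute. -/
theorem commute_pCoreOf {q s : ℕ} [Fact q.Prime] [Fact s.Prime] (h : q ≠ s) {X : Subgroup G} {x y : G}
    (hx : x ∈ pCoreOf q X) (hy : y ∈ pCoreOf s X) : Commute x y := by
  obtain ⟨x, hx, rfl⟩ := hx
  obtain ⟨y, hy, rfl⟩ := hy
  exact (Cores.commute_pCore_of_ne h hx hy).map X.subtype

theorem eq_one_of_isPGroup {q s : ℕ} [hq : Fact q.Prime] [hs : Fact s.Prime] (h : q ≠ s) {H K : Subgroup G}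
    (hH : IsPGroup q H) (hK : IsPGroup s K) {x : G} (hxH : x ∈ H) (hxK : x ∈ K) : x = 1 :=
  mem_bot.1 ((disjoint_iff.1 (IsPGroup.disjoint_of_ne q s h H K hH hK)) ▸ ⟨hxH, hxK⟩)

theorem normalizer_le_normalizer_sylow_part {q : ℕ} [Fact q.Prime] {X Y : Subgroup G}
    (hXY : Y ≤ X) (hn : X ≤ normalizer (Y : Set G)) : pCoreOf q Y ≤ pCoreOf q X :=
  LocalEven.le_pCoreOf ((LocalEven.pCoreOf_le q Y).trans hXY) (LocalEven.isPGroup_pCoreOf q Y)
    (hn.trans (normalizer_le_normalizer_pCoreOf q Y))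

theorem pCoreOf_inf_le {q : ℕ} {M X : Subgroup G} (hXM : X ≤ M) : pCoreOf q M ⊓ X ≤ pCoreOf q X :=
  LocalEven.le_pCoreOf inf_le_right ((LocalEven.isPGroup_pCoreOf q M).to_le inf_le_left)
    (Solvable.le_normalizer_inf (hXM.trans (LocalEven.le_normalizer_pCoreOf q M)) le_normalizer)

/-- A `q`-subgroup centralising every `O_t(X)` lies in `O_q(X)`. -/
theorem le_pCoreOf_of_centralizes_cores {q : ℕ} [hq : Fact q.Prime] {X Y : Subgroup G}
    (hX : Group.IsSolvable X) (hYX : Y ≤ X) (hY : IsPGroup q Y)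
    (h : ∀ t : ℕ, t.Prime → pCoreOf t X ≤ centralizer (Y : Set G)) : Y ≤ pCoreOf q X := by
  intro y hy
  haveI := hX
  have hcent : (⟨y, hYX hy⟩ : X) ∈ centralizer (fittingSubgroup ↥X : Set ↥X) := by
    have hle : fittingSubgroup ↥X ≤ centralizer {(⟨y, hYX hy⟩ : X)} := by
      rw [Cores.fittingSubgroup_eq_iSup_pCore]
      refine iSup_le fun t z hz => mem_centralizer_singleton_iff.2 (Subtype.ext ?_)
      exact (mem_centralizer_iff.1 (h t (Nat.prime_of_mem_primeFactors t.2) ⟨z, hz, rfl⟩) y hy).symm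
    exact mem_centralizer_iff.2 fun z hz => mem_centralizer_singleton_iff.1 (hle hz)
  have hF := Solvable.centralizer_fittingSubgroup_le hcent
  haveI : Group.IsNilpotent (fittingSubgroup ↥X) := Cores.isNilpotent_fittingSubgroup
  have hn := Cores.fittingSubgroup_normal (G := ↥X)
  obtain ⟨k, hk⟩ := IsPGroup.iff_orderOf.1 hY ⟨y, hy⟩
  rw [Subgroup.orderOf_mk] at hk
  set f : fittingSubgroup ↥X := ⟨⟨y, hYX hy⟩, hF⟩
  obtain ⟨S, hS⟩ := (IsPGroup.of_card (n := k) (by
    rw [Nat.card_zpowers, ← hk, Subgroup.orderOf_mk, Subgroup.orderOf_mk]) :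
      IsPGroup q (zpowers f)).exists_le_sylow
  haveI : (S : Subgroup (fittingSubgroup ↥X)).Normal := inferInstance
  exact ⟨_, Cores.map_subtype_pCore_le_of_normal q (fittingSubgroup ↥X)
    ⟨f, Cores.le_pCore S.2 (hS (mem_zpowers f)), rfl⟩, rfl⟩

/-- The part of a layer centralising `O_q(X)` lies in the Fitting subgroup. -/
theorem layerOf_inf_centralizer_le {q s : ℕ} [Fact q.Prime] [hs : Fact s.Prime]
    (X : Subgroup G) :
    layerOf q s X ⊓ centralizer (pCoreOf q X : Set G) ≤ pCoreOf q X ⊔ pCoreOf s X := by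
  set N := layerOf q s X ⊓ centralizer (pCoreOf q X : Set G) with hN
  have hNX : N ≤ X := inf_le_left.trans (layerOf_le q s X)
  have hXN : X ≤ normalizer (N : Set G) := Solvable.le_normalizer_inf
    (le_normalizer.trans (normalizer_le_normalizer_layerOf q s X))
    ((LocalEven.le_normalizer_pCoreOf q X).trans (Solvable.normalizer_le_normalizer_centralizer _))
  -- `N` is a central extension of an `s`-group
  set f : N →* ↥X ⧸ pCore q ↥X := (QuotientGroup.mk' (pCore q ↥X)).comp (inclusion hNX)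
  have hker : f.ker ≤ center N := by
    intro n hn
    have h1 : inclusion hNX n ∈ pCore q ↥X := (QuotientGroup.eq_one_iff _).1 hn
    refine mem_center_iff.2 fun m => Subtype.ext ?_
    exact (mem_centralizer_iff.1 m.2.2 (n : G) ⟨_, h1, rfl⟩).symm
  have hr : Group.IsNilpotent f.range := (((Cores.isPGroup_pCore s).to_le (by
    rintro _ ⟨n, rfl⟩
    exact mk'_mem_pCore_of_mem_layerOf n.2.1)) : IsPGroup s f.range).isNilpotent
  haveI := hr
  haveI : Group.IsNilpotent N := Subgroup.isNilpotent_of_ker_le_center f.rangeRestrict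
    (by rwa [MonoidHom.ker_rangeRestrict])
  intro x hx
  obtain ⟨a, b, hab, ha, hb, ⟨k, hk⟩, hbc⟩ := Cores.exists_pow_mul_pow s x
  have haN : a ∈ N := zpowers_le.2 hx ha
  have hbN : b ∈ N := zpowers_le.2 hx hb
  rw [hab]
  refine mul_mem (mem_sup_right ?_) (mem_sup_left ?_)
  · obtain ⟨S, hS⟩ := (IsPGroup.of_card (n := k) (by rw [Nat.card_zpowers, Subgroup.orderOf_mk, hk]) :
      IsPGroup s (zpowers (⟨a, haN⟩ : N))).exists_le_sylow
    haveI : (S : Subgroup N).Normal := inferInstance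
    exact normalizer_le_normalizer_sylow_part hNX hXN
      ⟨⟨a, haN⟩, Cores.le_pCore S.2 (hS (mem_zpowers _)), rfl⟩
  · have hm := mk'_mem_pCore_of_mem_layerOf hbN.1
    refine ⟨⟨b, hNX hbN⟩, (QuotientGroup.eq_one_iff (N := pCore q ↥X) _).1 ?_, rfl⟩
    show QuotientGroup.mk' (pCore q ↥X) ⟨b, hNX hbN⟩ = 1
    rw [← orderOf_eq_one_iff]
    obtain ⟨n, hn⟩ := Cores.card_pCore_eq_pow (G := ↥X ⧸ pCore q ↥X) s
    refine Nat.eq_one_of_dvd_coprimes (hbc.pow_right n) ?_ (hn ▸ Subgroup.orderOf_dvd_natCard _ hm)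
    exact (orderOf_map_dvd _ _).trans (by rw [Subgroup.orderOf_mk])

end CfsgLib.Signalizer
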