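import Cfsg.Agent.Lib.Signalizer.Ambient
import Cfsg.Agent.Lib.OddLocal.BGAction
import Cfsg.Agent.Lib.Solvable.AbelianAction
import Cfsg.Agent.Lib.LocalEven.Coprime
import Cfsg.Agent.Lib.PGroup.Basic

/-!
Commutators with an element of prime order acting coprimely: the module lemma, and its consequences for cores.
-/

set_option autoImplicit false
set_option linter.unusedSectionVars false
set_option linter.style.haveILetI false

namespace CfsgLib.Signalizer

open Subgroup Cfsg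
open scoped commutatorElement

universe u

/-- Quotient by a normalised subgroup, for use with elements of its normaliser. -/
theorem mk'_eq_one_iff {G : Type u} [Group G] {R N : Subgroup G} [(R.subgroupOf N).Normal] (x : N) :
    QuotientGroup.mk' (R.subgroupOf N) x = 1 ↔ (x : G) ∈ R :=
  QuotientGroup.eq_one_iff x

variable {G : Type u} [Group G] [Finite G] {p q : ℕ} [hp : Fact p.Prime] [hq : Fact q.Prime]

theorem coprime_of_pow_eq_one {x : G} (hx : x ^ p = 1) {V : Subgroup G} (hpV : ¬ p ∣ Nat.card V) :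
    (orderOf x).Coprime (Nat.card V) :=
  ((hp.out.coprime_iff_not_dvd).2 hpV).coprime_dvd_left (orderOf_dvd_of_pow_eq_one hx)

theorem coprime_card_of_isPGroup {Y V : Subgroup G} (hY : IsPGroup q Y) (hqV : ¬ q ∣ Nat.card V) :
    (Nat.card Y).Coprime (Nat.card V) := by
  obtain ⟨k, hk⟩ := IsPGroup.iff_card.1 hY
  rw [hk]
  exact ((hq.out.coprime_iff_not_dvd).2 hqV).pow_left k

/-- A `q`-group `Y` (abelian, or `q` odd) and an element of prime order without fixed points on `V`: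
the commutator centralises `V`. -/
theorem commutator_le_centralizer_of_fpf {Y V : Subgroup G} {x : G} (hqp : q ≠ p) (hx : x ^ p = 1)
    (hxY : x ∈ normalizer (Y : Set G)) (hY : IsPGroup q Y) (hYV : Y ≤ normalizer (V : Set G))
    (hxV : x ∈ normalizer (V : Set G)) (hV : Group.IsNilpotent V) (hpV : ¬ p ∣ Nat.card V)
    (hqV : ¬ q ∣ Nat.card V) (hfix : V ⊓ centralizer {x} = ⊥) (hcase : q ≠ 2 ∨ IsMulCommutative Y) :
    ⁅Y, zpowers x⁆ ≤ centralizer (V : Set G) := by
  by_cases hp2 : p = 2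
  · subst hp2
    have hinv := LocalEven.inverts_of_fixedPointFree (A := V) (z := x) (by rwa [← pow_two]) hxV
      fun v hv h => mem_bot.1 (hfix ▸ (⟨hv, mem_centralizer_singleton_iff.2 h.symm⟩ :
        v ∈ V ⊓ centralizer {x}))
    refine commutator_zpowers_le (Solvable.normalizer_le_normalizer_centralizer V hxV) fun y hy =>
      mem_centralizer_iff.2 fun v hv => ?_
    have hyv : y⁻¹ * v * y ∈ V := (mem_normalizer_iff''.1 (hYV hy) v).1 hv
    have h1 : x⁻¹ * (y⁻¹ * v * y) * x = (y⁻¹ * v * y)⁻¹ := by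
      have h := hinv _ (inv_mem hyv)
      rw [inv_inv] at h
      calc x⁻¹ * (y⁻¹ * v * y) * x = x⁻¹ * (x * (y⁻¹ * v * y)⁻¹ * x⁻¹) * x := by rw [h]
        _ = (y⁻¹ * v * y)⁻¹ := by group
    have h2 : x * v⁻¹ * x⁻¹ = v := by rw [hinv _ (inv_mem hv), inv_inv]
    have h3 : ⁅y, x⁆⁻¹ * v * ⁅y, x⁆ = v := by
      calc ⁅y, x⁆⁻¹ * v * ⁅y, x⁆ = x * y * (x⁻¹ * (y⁻¹ * v * y) * x) * y⁻¹ * x⁻¹ := by
            rw [commutatorElement_def]; group
        _ = x * y * (y⁻¹ * v * y)⁻¹ * y⁻¹ * x⁻¹ := by rw [h1]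
        _ = x * v⁻¹ * x⁻¹ := by group
        _ = v := h2
    calc v * ⁅y, x⁆ = ⁅y, x⁆ * (⁅y, x⁆⁻¹ * v * ⁅y, x⁆) := by group
      _ = ⁅y, x⁆ * v := by rw [h3]
  rcases hcase with hq2 | hc
  · exact OddLocal.BG.commutator_le_centralizer_of_fpf hp2 hq2 hqp hx hxY hY hYV hxV hV hpV hqV hfix
  haveI := hc
  rcases eq_or_ne x 1 with rfl | hx1
  · rw [zpowers_one_eq_bot, commutator_bot_right]; exact bot_le
  set U := ⁅Y, zpowers x⁆ with hUdef
  have hUY : U ≤ Y := Solvable.commutator_le_of_le_normalizer (zpowers_le.2 hxY)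
  haveI : IsMulCommutative U := ⟨⟨fun a b => Subtype.ext
    (congrArg Subtype.val (hc.is_comm.comm (⟨a, hUY a.2⟩ : Y) ⟨b, hUY b.2⟩) :)⟩⟩
  have hord : orderOf x = p := orderOf_eq_prime hx hx1
  have hcY : (Nat.card (zpowers x)).Coprime (Nat.card Y) := by
    obtain ⟨k, hk⟩ := IsPGroup.iff_card.1 hY
    rw [Nat.card_zpowers, hord, hk]
    exact ((Nat.coprime_primes hp.out hq.out).2 hqp.symm).pow_right k
  have hUfix : U ⊓ centralizer (zpowers x : Set G) = ⊥ := by
    rw [← le_bot_iff, ← Solvable.inf_centralizer_inf_commutator (zpowers x) Y (zpowers_le.2 hxY) hcY]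
    exact le_inf (inf_le_inf_right _ hUY) inf_le_left
  have hE : ∀ e ∈ zpowers x, e ≠ 1 → zpowers e = zpowers x := by
    intro e he he1
    refine eq_of_le_of_card_ge (zpowers_le.2 he) ?_
    rw [Nat.card_zpowers, Nat.card_zpowers, hord]
    rcases (Nat.dvd_prime hp.out).1 (hord ▸ orderOf_dvd_of_mem_zpowers he) with h | h
    · exact absurd (orderOf_eq_one_iff.1 h) he1
    · exact h.ge
  refine le_centralizer_iff.1 (OddLocal.BG.frobenius_kernel_centralizes (U := U) (E := zpowers x) (H := V)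
    (hY.to_le hUY).isNilpotent (Solvable.le_normalizer_commutator_right (zpowers_le.2 hxY)) (fun e he he1 => ?_)
    (hUY.trans hYV) (zpowers_le.2 hxV) (haveI := hV; inferInstance)
    (Nat.Coprime.mul_right ((coprime_card_of_isPGroup (hY.to_le hUY) hqV).symm)
      (coprime_zpowers (coprime_of_pow_eq_one hx hpV)).symm) ?_)
  · rw [centralizer_singleton_eq_zpowers e, hE e he he1, hUfix]
  · rw [← centralizer_singleton_eq_zpowers, hfix]

/-- The same when `Y` centralises the fixed points of `x` in the abelian group `V`. -/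
theorem commutator_le_centralizer_abelian {Y V : Subgroup G} {x : G} [IsMulCommutative V] (hqp : q ≠ p)
    (hx : x ^ p = 1) (hxY : x ∈ normalizer (Y : Set G)) (hY : IsPGroup q Y)
    (hYV : Y ≤ normalizer (V : Set G)) (hxV : x ∈ normalizer (V : Set G)) (hpV : ¬ p ∣ Nat.card V)
    (hqV : ¬ q ∣ Nat.card V) (hfix : V ⊓ centralizer {x} ≤ centralizer (Y : Set G))
    (hcase : q ≠ 2 ∨ IsMulCommutative Y) : ⁅Y, zpowers x⁆ ≤ centralizer (V : Set G) := by
  set H := Y ⊔ zpowers x with hH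
  have hHV : H ≤ normalizer (V : Set G) := sup_le hYV (zpowers_le.2 hxV)
  have hcop : (Nat.card H).Coprime (Nat.card V) := by
    have hd : Y ⊓ zpowers x = ⊥ := Solvable.disjoint_of_coprime (by
      obtain ⟨k, hk⟩ := IsPGroup.iff_card.1 hY
      rw [Nat.card_zpowers, hk]
      exact (((Nat.coprime_primes hq.out hp.out).2 hqp).coprime_dvd_right
        (orderOf_dvd_of_pow_eq_one hx)).pow_left k)
    rw [hH, Solvable.card_sup_of_disjoint (zpowers_le.2 hxY) hd]
    exact (coprime_card_of_isPGroup hY hqV).mul_left (coprime_zpowers (coprime_of_pow_eq_one hx hpV))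
  have hs : Group.IsSolvable V := Group.isSolvable_of_comm fun a b => IsMulCommutative.is_comm.comm a b
  set V₁ := ⁅V, H⁆ with hV₁
  have hV₁V : V₁ ≤ V := Solvable.commutator_le_of_le_normalizer hHV
  haveI : IsMulCommutative V₁ := ⟨⟨fun a b => Subtype.ext
    (congrArg Subtype.val (IsMulCommutative.is_comm.comm (⟨a, hV₁V a.2⟩ : V) ⟨b, hV₁V b.2⟩) :)⟩⟩
  have hnV₁ : H ≤ normalizer (V₁ : Set G) := Solvable.le_normalizer_commutator_right hHV
  have hfix₁ : V₁ ⊓ centralizer {x} = ⊥ := by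
    rw [← le_bot_iff, ← Solvable.inf_centralizer_inf_commutator H V hHV hcop]
    refine le_inf (le_inf (inf_le_left.trans hV₁V) fun v hv => ?_) inf_le_left
    have h1 : H ≤ centralizer {v} := sup_le
      (fun y hy => mem_centralizer_singleton_iff.2
        (mem_centralizer_iff.1 (hfix ⟨hV₁V hv.1, hv.2⟩) y hy))
      (zpowers_le.2 (mem_centralizer_singleton_iff.2 (mem_centralizer_singleton_iff.1 hv.2).symm))
    exact mem_centralizer_iff.2 fun h hh => mem_centralizer_singleton_iff.1 (h1 hh)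
  have h1 := commutator_le_centralizer_of_fpf (Y := Y) (V := V₁) hqp hx hxY hY
    ((le_sup_left : Y ≤ H).trans hnV₁) (hnV₁ (mem_sup_right (mem_zpowers x)))
    (letI : CommGroup V₁ := { (inferInstance : Group V₁) with mul_comm := fun a b => IsMulCommutative.is_comm.comm a b }
     inferInstance)
    (fun h => hpV (h.trans (card_dvd_of_le hV₁V))) (fun h => hqV (h.trans (card_dvd_of_le hV₁V))) hfix₁ hcase
  have h2 : ⁅Y, zpowers x⁆ ≤ H := (Solvable.commutator_le_of_le_normalizer (zpowers_le.2 hxY)).trans le_sup_left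
  rw [le_centralizer_iff, ← Solvable.commutator_sup_centralizer hHV hcop (Or.inr hs)]
  exact sup_le (le_centralizer_iff.1 h1) (inf_le_right.trans (centralizer_le h2))

/-- The same for an `r`-group `V`. -/
theorem commutator_le_centralizer_of_fixed {r : ℕ} [hr : Fact r.Prime] {Y V : Subgroup G} {x : G} (hqp : q ≠ p)
    (hx : x ^ p = 1) (hxY : x ∈ normalizer (Y : Set G)) (hY : IsPGroup q Y)
    (hYV : Y ≤ normalizer (V : Set G)) (hxV : x ∈ normalizer (V : Set G)) (hV : IsPGroup r V)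
    (hrp : r ≠ p) (hrq : r ≠ q) (hfix : V ⊓ centralizer {x} ≤ centralizer (Y : Set G))
    (hcase : q ≠ 2 ∨ IsMulCommutative Y) : ⁅Y, zpowers x⁆ ≤ centralizer (V : Set G) := by
  have hndvd : ∀ {X : Type u} [Group X] [Finite X] {W : Subgroup X}, IsPGroup r W →
      ∀ n : ℕ, n.Prime → r ≠ n → ¬ n ∣ Nat.card W := by
    intro X _ _ W hW n hn hne hd
    obtain ⟨k, hk⟩ := IsPGroup.iff_card.1 hW
    rw [hk] at hd
    exact hne ((Nat.prime_dvd_prime_iff_eq hn hr.out).1 (hn.dvd_of_dvd_pow hd)).symm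
  set Φ : Subgroup G := (frattini V).map V.subtype with hΦ
  set N := normalizer (Φ : Set G) with hN
  have hVN : V ≤ N := le_normalizer.trans (normalizer_le_normalizer_map_char (frattini V))
  have hnV : normalizer (V : Set G) ≤ N := normalizer_le_normalizer_map_char (frattini V)
  haveI hΦn : (Φ.subgroupOf N).Normal := normal_in_normalizer
  set f := QuotientGroup.mk' (Φ.subgroupOf N)
  set V' := (V.subgroupOf N).map f with hV'
  set Y' := (Y.subgroupOf N).map f with hY'
  have hxN : x ∈ N := hnV hxV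
  set x' := f ⟨x, hxN⟩
  have hV'p : IsPGroup r V' := (hV.comap_subtype (K := N)).map f
  have hY'p : IsPGroup q Y' := (hY.comap_subtype (K := N)).map f
  haveI : IsMulCommutative V' := by
    refine ⟨⟨?_⟩⟩
    rintro ⟨_, ⟨a, ha, rfl⟩⟩ ⟨_, ⟨b, hb, rfl⟩⟩
    refine Subtype.ext (commutatorElement_eq_one_iff_mul_comm.1 ?_)
    show ⁅f a, f b⁆ = 1
    rw [← map_commutatorElement]
    refine (mk'_eq_one_iff _).2 ⟨⁅(⟨a, ha⟩ : V), ⟨b, hb⟩⁆, ?_, rfl⟩
    exact CfsgLib.PGroup.commutator_le_frattini hV (commutator_mem_commutator (mem_top _) (mem_top _))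
  have hmemN : ∀ {g : G} {K : Subgroup G} (hg : g ∈ N), g ∈ normalizer (K : Set G) →
      f ⟨g, hg⟩ ∈ normalizer (((K.subgroupOf N).map f : Subgroup _) : Set _) := by
    intro g K hg hgK
    refine Solvable.mem_normalizer_of_conj_mem ?_
    rintro _ ⟨y, hy, rfl⟩
    exact ⟨⟨g, hg⟩ * y * ⟨g, hg⟩⁻¹, (mem_normalizer_iff.1 hgK _).1 hy, by simp⟩
  have hfix' : V' ⊓ centralizer {x'} ≤ centralizer (Y' : Set _) := by
    rintro _ ⟨⟨v, hv, rfl⟩, hvx⟩
    have hvx' : ∀ a ∈ zpowers x, ⁅a, (v : G)⁆ ∈ Φ := by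
      rintro a ⟨i, rfl⟩
      have h1 : Commute x' (f v) := (mem_centralizer_singleton_iff.1 hvx).symm
      have h2 : f ⁅(⟨x, hxN⟩ : N) ^ i, v⁆ = 1 := by
        rw [map_commutatorElement, map_zpow]
        exact commutatorElement_eq_one_iff_commute.2 (h1.zpow_left i)
      exact (mk'_eq_one_iff _).1 h2
    obtain ⟨n, hn, hfixn⟩ := Solvable.exists_mul_mem_centralizer (zpowers x) Φ
      (zpowers_le.2 hxN)
      (coprime_zpowers ((coprime_of_pow_eq_one hx (hndvd hV p hp.out hrp)).coprime_dvd_right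
        (card_dvd_of_le (map_subtype_le _)))) (Or.inl (isSolvable_zpowers x)) (v : G) hvx'
    rw [← centralizer_singleton_eq_zpowers] at hfixn
    have hnV' : n * (v : G) ∈ V := mul_mem (map_subtype_le _ hn) hv
    rw [mem_centralizer_iff]
    rintro _ ⟨y, hy, rfl⟩
    have h3 := mem_centralizer_iff.1 (hfix ⟨hnV', hfixn⟩) (y : G) hy
    have h4 : f v = f ⟨n * v, hVN hnV'⟩ := by
      have e : (⟨n * v, hVN hnV'⟩ : N) = ⟨n, hVN (map_subtype_le _ hn)⟩ * v := rfl
      rw [e, map_mul, (mk'_eq_one_iff (⟨n, hVN (map_subtype_le _ hn)⟩ : N)).2 hn, one_mul]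
    rw [h4, ← map_mul, ← map_mul]
    exact congrArg f (Subtype.ext h3)
  have hmain := commutator_le_centralizer_abelian (Y := Y') (V := V') (x := x') hqp
    (by rw [← map_pow, show (⟨x, hxN⟩ : N) ^ p = 1 from Subtype.ext hx, map_one]) (hmemN hxN hxY) hY'p
    (by rintro _ ⟨y, hy, rfl⟩; exact hmemN y.2 (hYV hy)) (hmemN hxN hxV) (hndvd hV'p p hp.out hrp)
    (hndvd hV'p q hq.out hrq) hfix'
    (hcase.imp_right fun h => ⟨⟨by
      rintro ⟨_, ⟨a, ha, rfl⟩⟩ ⟨_, ⟨b, hb, rfl⟩⟩
      refine Subtype.ext ?_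
      show f a * f b = f b * f a
      rw [← map_mul, ← map_mul]
      exact congrArg f (Subtype.ext (congrArg Subtype.val (h.is_comm.comm (⟨a, ha⟩ : Y) ⟨b, hb⟩) :))⟩⟩)
  set D := ⁅Y, zpowers x⁆ with hD
  have hDY : D ≤ Y := Solvable.commutator_le_of_le_normalizer (zpowers_le.2 hxY)
  have hcopD : (Nat.card D).Coprime (Nat.card V) :=
    (coprime_card_of_isPGroup hY (hndvd hV q hq.out hrq)).coprime_dvd_left (card_dvd_of_le hDY)
  -- `D` centralizes `V` modulo `Φ`
  have hcl : ⁅V, D⁆ ≤ Φ := by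
    have hDmap : D ≤ ((⁅Y', zpowers x'⁆).comap f).map N.subtype := by
      rw [hD, commutator_le]
      rintro y hy _ ⟨i, rfl⟩
      refine ⟨⁅(⟨y, hnV (hYV hy)⟩ : N), (⟨x, hxN⟩ : N) ^ i⁆, ?_, rfl⟩
      rw [SetLike.mem_coe, mem_comap, map_commutatorElement, map_zpow]
      exact commutator_mem_commutator (mem_map_of_mem f hy) (zpow_mem (mem_zpowers x') i)
    rw [commutator_le]
    intro v hv d hd
    obtain ⟨e, he, rfl⟩ := hDmap hd
    have h1 := mem_centralizer_iff.1 (hmain he) (f ⟨v, hVN hv⟩) (mem_map_of_mem f hv)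
    refine (mk'_eq_one_iff ⁅(⟨v, hVN hv⟩ : N), e⁆).1 ?_
    rw [map_commutatorElement, commutatorElement_eq_one_iff_mul_comm]
    exact h1
  have htop : (V ⊓ centralizer (D : Set G)).subgroupOf V = ⊤ := by
    refine frattini_nongenerating (top_le_iff.1 fun v _ => ?_)
    have hsup := Solvable.commutator_sup_centralizer (A := D) (K := V) (hDY.trans hYV) hcopD
      (Or.inr (haveI := hV.isNilpotent; inferInstance))
    have h5 : (v : G) ∈ Φ ⊔ (V ⊓ centralizer (D : Set G)) :=
      sup_le (hcl.trans le_sup_left) le_sup_right (hsup.ge v.2)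
    have h6 : ((V ⊓ centralizer (D : Set G)).subgroupOf V ⊔ frattini V).map V.subtype =
        Φ ⊔ (V ⊓ centralizer (D : Set G)) := by
      rw [Subgroup.map_sup, map_subgroupOf_eq_of_le inf_le_left, sup_comm]
    rw [← h6] at h5
    exact (Subgroup.mem_map_iff_mem V.subtype_injective).1 h5
  exact le_centralizer_iff.1 fun v hv => ((subgroupOf_eq_top.1 htop) hv).2

end CfsgLib.Signalizer
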