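import Cfsg.Agent.Lib.Signalizer.Action

/-!
Consequences of the module lemma for the cores of an `A`-invariant solvable subgroup.
-/

set_option autoImplicit false
set_option linter.unusedSectionVars false
set_option linter.style.haveILetI false

namespace CfsgLib.Signalizer

open Subgroup Cfsg
open scoped commutatorElement

universe u

variable {G : Type u} [Group G] [Finite G] {p q : ℕ} [hp : Fact p.Prime] [hq : Fact q.Prime]

/-- The layer of `X` modulo `R = O_q(X)`, in the normaliser of `R`. -/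
theorem isPGroup_map_layerOf {s : ℕ} [hs : Fact s.Prime] (q : ℕ) [Fact q.Prime] (X : Subgroup G)
    [((pCoreOf q X).subgroupOf (normalizer (pCoreOf q X : Set G))).Normal] :
    IsPGroup s (((layerOf q s X).subgroupOf (normalizer (pCoreOf q X : Set G))).map
      (QuotientGroup.mk' ((pCoreOf q X).subgroupOf (normalizer (pCoreOf q X : Set G))))) := by
  rintro ⟨_, ⟨z, hz, rfl⟩⟩
  obtain ⟨k, hk⟩ := Cores.isPGroup_pCore (G := ↥X ⧸ pCore q ↥X) s ⟨_, mk'_mem_pCore_of_mem_layerOf hz⟩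
  have hk' : QuotientGroup.mk' (pCore q ↥X) (⟨(z : G), layerOf_le q s X hz⟩ ^ (s ^ k)) = 1 := by
    rw [map_pow]; exact congrArg Subtype.val hk
  refine ⟨k, Subtype.ext ?_⟩
  show (QuotientGroup.mk' _ z) ^ (s ^ k) = 1
  rw [← map_pow]
  exact (mk'_eq_one_iff _).2 ⟨_, (QuotientGroup.eq_one_iff _).1 hk', rfl⟩

/-- If the fixed points of `a` on each layer centralise `Y` modulo `O_q(X)`, then `[Y, a] ≤ O_q(X)`
(`q` odd or `Y` abelian). -/
theorem commutator_le_pCoreOf {X Y : Subgroup G} {a : G} (hX : Group.IsSolvable X) (hpX : ¬ p ∣ Nat.card X)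
    (hap : a ^ p = 1) (haX : a ∈ normalizer (X : Set G)) (haY : a ∈ normalizer (Y : Set G)) (hYX : Y ≤ X)
    (hY : IsPGroup q Y) (hqp : q ≠ p) (hcase : q ≠ 2 ∨ IsMulCommutative Y)
    (h : ∀ s : ℕ, s.Prime → s ≠ q → ∀ l ∈ layerOf q s X ⊓ centralizer {a}, ∀ y ∈ Y, ⁅l, y⁆ ∈ pCoreOf q X) :
    ⁅Y, zpowers a⁆ ≤ pCoreOf q X := by
  have hDY : ⁅Y, zpowers a⁆ ≤ Y := Solvable.commutator_le_of_le_normalizer (zpowers_le.2 haY)
  refine le_pCoreOf_of_layers hX (hDY.trans hYX) (hY.to_le hDY) fun s hs hsq l hl d hd => ?_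
  haveI := Fact.mk hs
  set R := pCoreOf q X with hR
  set N := normalizer (R : Set G) with hN
  set L := layerOf q s X with hL
  have hXN : X ≤ N := LocalEven.le_normalizer_pCoreOf q X
  have hLN : L ≤ N := (layerOf_le q s X).trans hXN
  have haN : a ∈ N := normalizer_le_normalizer_pCoreOf q X haX
  have haL : a ∈ normalizer (L : Set G) := normalizer_le_normalizer_layerOf q s X haX
  haveI hRn : (R.subgroupOf N).Normal := normal_in_normalizer
  set f := QuotientGroup.mk' (R.subgroupOf N)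
  by_cases hsp : s = p
  · have h1 : l ∈ R := by
      have hm := mk'_mem_pCore_of_mem_layerOf hl
      refine ⟨⟨l, layerOf_le q s X hl⟩, (QuotientGroup.eq_one_iff (N := pCore q ↥X) _).1 ?_, rfl⟩
      show QuotientGroup.mk' (pCore q ↥X) ⟨l, layerOf_le q s X hl⟩ = 1
      obtain ⟨n, hn⟩ := Cores.card_pCore_eq_pow (G := ↥X ⧸ pCore q ↥X) s
      rw [← orderOf_eq_one_iff]
      refine Nat.eq_one_of_dvd_coprimes (((Cores.coprime_iff_not_dvd hp.out _).2 hpX).pow_right n) ?_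
        ((hn.trans (by rw [hsp])) ▸ Subgroup.orderOf_dvd_natCard _ hm)
      exact (orderOf_map_dvd _ _).trans (orderOf_dvd_natCard _)
    rw [commutatorElement_def, mul_assoc, mul_assoc, ← mul_assoc d l⁻¹ d⁻¹]
    exact mul_mem h1 ((mem_normalizer_iff.1 (hXN (hYX (hDY hd))) _).1 (inv_mem h1))
  set V' := (L.subgroupOf N).map f
  set Y' := (Y.subgroupOf N).map f
  set a' := f ⟨a, haN⟩
  have hmemN : ∀ {g : G} {K : Subgroup G} (hg : g ∈ N), g ∈ normalizer (K : Set G) →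
      f ⟨g, hg⟩ ∈ normalizer (((K.subgroupOf N).map f : Subgroup _) : Set _) := by
    intro g K hg hgK
    refine Solvable.mem_normalizer_of_conj_mem ?_
    rintro _ ⟨y, hy, rfl⟩
    exact ⟨⟨g, hg⟩ * y * ⟨g, hg⟩⁻¹, (mem_normalizer_iff.1 hgK _).1 hy, by simp⟩
  have hmain : ⁅Y', zpowers a'⁆ ≤ centralizer (V' : Set _) := by
    refine commutator_le_centralizer_of_fixed (r := s) hqp
      (by rw [← map_pow, show (⟨a, haN⟩ : N) ^ p = 1 from Subtype.ext hap, map_one]) (hmemN haN haY)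
      ((hY.comap_subtype (K := N)).map f) ?_ (hmemN haN haL) (isPGroup_map_layerOf q X) hsp hsq ?_
      (hcase.imp_right fun hc => ⟨⟨?_⟩⟩)
    · rintro _ ⟨y, hy, rfl⟩
      exact hmemN y.2 (normalizer_le_normalizer_layerOf q s X (le_normalizer (hYX hy)))
    · rintro _ ⟨⟨v, hv, rfl⟩, hva⟩
      have hv' : ∀ b ∈ zpowers a, ⁅b, (v : G)⁆ ∈ R := by
        rintro b ⟨i, rfl⟩
        have h1 : Commute a' (f v) := (mem_centralizer_singleton_iff.1 hva).symm
        have h2 : f ⁅(⟨a, haN⟩ : N) ^ i, v⁆ = 1 := by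
          rw [map_commutatorElement, map_zpow]
          exact commutatorElement_eq_one_iff_commute.2 (h1.zpow_left i)
        exact (mk'_eq_one_iff _).1 h2
      have hRX : R ≤ X := LocalEven.pCoreOf_le q X
      obtain ⟨n, hn, hfixn⟩ := Solvable.exists_mul_mem_centralizer (zpowers a) R (zpowers_le.2 haN)
        (coprime_zpowers ((coprime_of_pow_eq_one hap hpX).coprime_dvd_right (card_dvd_of_le hRX)))
        (Or.inl (isSolvable_zpowers a)) (v : G) hv'
      rw [← centralizer_singleton_eq_zpowers] at hfixn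
      rw [mem_centralizer_iff]
      rintro _ ⟨y, hy, rfl⟩
      have h3 := h s hs hsq (n * v) ⟨mul_mem (pCoreOf_le_layerOf q s X hn) hv, hfixn⟩ y hy
      have h4 : f ⁅(⟨n, hXN (hRX hn)⟩ : N) * v, y⁆ = 1 := (mk'_eq_one_iff _).2 h3
      rw [map_commutatorElement, map_mul, (mk'_eq_one_iff (⟨n, hXN (hRX hn)⟩ : N)).2 hn, one_mul,
        commutatorElement_eq_one_iff_mul_comm] at h4
      exact h4.symm
    · rintro ⟨_, ⟨u, hu, rfl⟩⟩ ⟨_, ⟨w, hw, rfl⟩⟩
      refine Subtype.ext ?_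
      show f u * f w = f w * f u
      rw [← map_mul, ← map_mul]
      exact congrArg f (Subtype.ext (congrArg Subtype.val (hc.is_comm.comm (⟨u, hu⟩ : Y) ⟨w, hw⟩) :))
  obtain ⟨e, he, rfl⟩ : d ∈ ((⁅Y', zpowers a'⁆).comap f).map N.subtype := by
    refine (?_ : ⁅Y, zpowers a⁆ ≤ _) hd
    rw [commutator_le]
    rintro y hy _ ⟨i, rfl⟩
    refine ⟨⁅(⟨y, hXN (hYX hy)⟩ : N), (⟨a, haN⟩ : N) ^ i⁆, ?_, rfl⟩
    rw [SetLike.mem_coe, mem_comap, map_commutatorElement, map_zpow]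
    exact commutator_mem_commutator (mem_map_of_mem f hy) (zpow_mem (mem_zpowers a') i)
  have h1 := mem_centralizer_iff.1 (hmain he) (f ⟨l, hLN hl⟩) (mem_map_of_mem f hl)
  refine (mk'_eq_one_iff ⁅(⟨l, hLN hl⟩ : N), e⁆).1 ?_
  rw [map_commutatorElement, commutatorElement_eq_one_iff_mul_comm]
  exact h1

/-- If `y` centralises a normalised `s`-subgroup `L₀` containing `[b, l]`, `[b, y⁻¹ly]`, then `[y, b]`
centralises `l`, when its order is prime to `s`. -/
theorem commute_commutator_of_moved {H : Type u} [Group H] {y b l : H} {L₀ : Subgroup H} {s : ℕ} [Fact s.Prime]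
    (hb : b ∈ normalizer (L₀ : Set H)) (hy : ∀ m ∈ L₀, Commute y m) (h₁ : ⁅b⁻¹, l⁆ ∈ L₀)
    (h₂ : ⁅b, y⁻¹ * l * y⁆ ∈ L₀) (hs : IsPGroup s L₀) (hz : (orderOf ⁅y, b⁆).Coprime s) :
    Commute ⁅y, b⁆ l := by
  set z := ⁅y, b⁆ with hzdef
  have hfix : ∀ m ∈ L₀, Commute z m := by
    intro m hm
    have hm' : b⁻¹ * m * b ∈ L₀ := (mem_normalizer_iff''.1 hb m).1 hm
    have h3 : z * m * z⁻¹ = m := by
      calc z * m * z⁻¹ = y * (b * (y⁻¹ * (b⁻¹ * m * b) * y) * b⁻¹) * y⁻¹ := by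
            rw [hzdef, commutatorElement_def]; group
        _ = y * m * y⁻¹ := by rw [mul_assoc y⁻¹ _ y, ← (hy _ hm').eq]; group
        _ = m := by rw [(hy m hm).eq, mul_inv_cancel_right]
    exact mul_inv_eq_iff_eq_mul.1 h3
  have hμ : b * ⁅b⁻¹, l⁆ * b⁻¹ * ⁅b, y⁻¹ * l * y⁆ ∈ L₀ := mul_mem ((mem_normalizer_iff.1 hb _).1 h₁) h₂
  set μ := b * ⁅b⁻¹, l⁆ * b⁻¹ * ⁅b, y⁻¹ * l * y⁆ with hμdef
  have hact : z * l * z⁻¹ = μ * l := by
    calc z * l * z⁻¹ = y * (b * (y⁻¹ * ⁅b⁻¹, l⁆ * l * y) * b⁻¹) * y⁻¹ := by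
          rw [hzdef]; simp only [commutatorElement_def]; group
      _ = y * μ * (y⁻¹ * l) := by
          rw [((hy _ h₁).inv_left).eq, hμdef]; simp only [commutatorElement_def]; group
      _ = μ * l := by rw [(hy μ hμ).eq]; group
  have hn : ∀ n : ℕ, z ^ n * l * (z ^ n)⁻¹ = μ ^ n * l := by
    intro n
    induction n with
    | zero => simp
    | succ n ih =>
      calc z ^ (n + 1) * l * (z ^ (n + 1))⁻¹ = z * (z ^ n * l * (z ^ n)⁻¹) * z⁻¹ := by rw [pow_succ']; group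
        _ = (z * μ ^ n * z⁻¹) * (z * l * z⁻¹) := by rw [ih]; group
        _ = μ ^ (n + 1) * l := by
          rw [((hfix μ hμ).pow_right n).eq, mul_inv_cancel_right, hact, ← mul_assoc (μ ^ n), ← pow_succ]
  have h1 := hn (orderOf z)
  rw [pow_orderOf_eq_one, one_mul, inv_one, mul_one, eq_comm, mul_eq_right] at h1
  obtain ⟨k, hk⟩ := IsPGroup.iff_orderOf.1 hs ⟨μ, hμ⟩
  rw [Subgroup.orderOf_mk] at hk
  have h3 : μ = 1 := orderOf_eq_one_iff.1
    (Nat.eq_one_of_dvd_coprimes (hz.pow_right k) (orderOf_dvd_of_pow_eq_one h1) (hk ▸ dvd_rfl))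
  rw [h3, one_mul] at hact
  exact mul_inv_eq_iff_eq_mul.1 hact

/-- If `Y` centralises `[L, b]` modulo `O_q(X)` for each layer `L`, then `[Y, b] ≤ O_q(X)`. -/
theorem commutator_le_pCoreOf_of_moved {X Y : Subgroup G} {b : G} (hX : Group.IsSolvable X)
    (hbX : b ∈ normalizer (X : Set G)) (hbY : b ∈ normalizer (Y : Set G)) (hYX : Y ≤ X) (hY : IsPGroup q Y)
    (h : ∀ s : ℕ, s.Prime → s ≠ q → ∀ l ∈ ⁅layerOf q s X, zpowers b⁆, ∀ y ∈ Y, ⁅l, y⁆ ∈ pCoreOf q X) :
    ⁅Y, zpowers b⁆ ≤ pCoreOf q X := by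
  set R := pCoreOf q X with hR
  set N := normalizer (R : Set G) with hN
  have hXN : X ≤ N := LocalEven.le_normalizer_pCoreOf q X
  have hbN : b ∈ N := normalizer_le_normalizer_pCoreOf q X hbX
  haveI hRn : (R.subgroupOf N).Normal := normal_in_normalizer
  set f := QuotientGroup.mk' (R.subgroupOf N)
  have hDY : ⁅Y, zpowers b⁆ ≤ Y := Solvable.commutator_le_of_le_normalizer (zpowers_le.2 hbY)
  refine le_pCoreOf_of_layers hX (hDY.trans hYX) (hY.to_le hDY) fun s hs hsq => ?_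
  haveI := Fact.mk hs
  set L := layerOf q s X with hL
  set L₀ := ⁅L, zpowers b⁆ with hL₀
  have hbL : b ∈ normalizer (L : Set G) := normalizer_le_normalizer_layerOf q s X hbX
  have hL₀L : L₀ ≤ L := Solvable.commutator_le_of_le_normalizer (zpowers_le.2 hbL)
  have hbL₀ : b ∈ normalizer (L₀ : Set G) :=
    Solvable.le_normalizer_commutator_right (zpowers_le.2 hbL) (mem_zpowers b)
  -- the elements centralizing `L` modulo `R` form a subgroup
  let T : Subgroup G :=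
    { carrier := {d | d ∈ X ∧ ∀ l ∈ L, ⁅l, d⁆ ∈ R}
      one_mem' := ⟨one_mem _, fun l _ => by rw [commutatorElement_one_right]; exact one_mem _⟩
      mul_mem' := fun {u w} hu hw => ⟨mul_mem hu.1 hw.1, fun l hl => by
        rw [commutator_mul_right]
        exact mul_mem (hu.2 l hl) ((mem_normalizer_iff.1 (hXN hu.1) _).1 (hw.2 l hl))⟩
      inv_mem' := fun {u} hu => ⟨inv_mem hu.1, fun l hl => by
        rw [show ⁅l, u⁻¹⁆ = u⁻¹ * ⁅l, u⁆⁻¹ * u by simp only [commutatorElement_def]; group]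
        exact (mem_normalizer_iff''.1 (hXN hu.1) _).1 (inv_mem (hu.2 l hl))⟩ }
  have hbT : b ∈ normalizer (T : Set G) := by
    refine Solvable.mem_normalizer_of_conj_mem fun d hd => ⟨(mem_normalizer_iff.1 hbX _).1 hd.1, fun l hl => ?_⟩
    have h1 := (mem_normalizer_iff.1 hbN _).1 (hd.2 _ ((mem_normalizer_iff''.1 hbL l).1 hl))
    rw [conj_commutator] at h1
    rwa [show b * (b⁻¹ * l * b) * b⁻¹ = l by group] at h1
  refine fun l hl d hd => ((commutator_zpowers_le (X := Y) (K := T) hbT fun y hy => ?_) hd).2 l hl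
  have hyX := hYX hy
  have hyb : ⁅y, b⁆ ∈ Y := hDY (commutator_mem hy)
  refine ⟨hYX hyb, fun l hl => ?_⟩
  let l' : N := ⟨l, hXN (layerOf_le q s X hl)⟩
  let y' : N := ⟨y, hXN hyX⟩
  let b' : N := ⟨b, hbN⟩
  have hmem : ∀ g ∈ zpowers b, ∀ m ∈ L, ⁅g, m⁆ ∈ L₀ := fun g hg m hm => by
    rw [← commutatorElement_inv]; exact inv_mem (commutator_mem_commutator hm hg)
  have hwL : y⁻¹ * l * y ∈ L :=
    (mem_normalizer_iff''.1 (normalizer_le_normalizer_layerOf q s X (le_normalizer hyX)) l).1 hl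
  have hcomm := commute_commutator_of_moved (y := f y') (b := f b') (l := f l') (s := s)
    (L₀ := (L₀.subgroupOf N).map f) ?_ ?_ ?_ ?_
    ((isPGroup_map_layerOf q X).to_le (map_mono fun x hx => hL₀L hx)) ?_
  · refine (mk'_eq_one_iff ⁅l', ⁅y', b'⁆⁆).1 ?_
    rw [map_commutatorElement, map_commutatorElement, commutatorElement_eq_one_iff_mul_comm]
    exact hcomm.symm
  · refine Solvable.mem_normalizer_of_conj_mem ?_
    rintro _ ⟨m, hm, rfl⟩
    exact ⟨b' * m * b'⁻¹, (mem_normalizer_iff.1 hbL₀ _).1 hm, by simp⟩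
  · rintro _ ⟨m, hm, rfl⟩
    have h1 : f ⁅m, y'⁆ = 1 := (mk'_eq_one_iff _).2 (h s hs hsq _ hm y hy)
    rw [map_commutatorElement, commutatorElement_eq_one_iff_mul_comm] at h1
    exact h1.symm
  · refine ⟨⁅b'⁻¹, l'⁆, hmem _ (inv_mem (mem_zpowers b)) l hl, ?_⟩
    rw [map_commutatorElement, map_inv]
  · refine ⟨⁅b', y'⁻¹ * l' * y'⁆, hmem _ (mem_zpowers b) _ hwL, ?_⟩
    simp only [map_commutatorElement, map_mul, map_inv]
  · obtain ⟨k, hk⟩ := IsPGroup.iff_orderOf.1 hY ⟨⁅y, b⁆, hyb⟩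
    rw [Subgroup.orderOf_mk] at hk
    have h2 : orderOf (⁅y', b'⁆ : N) = q ^ k := by rw [← Subgroup.orderOf_coe]; exact hk
    rw [← map_commutatorElement]
    refine Nat.Coprime.coprime_dvd_left (orderOf_map_dvd f _) ?_
    rw [h2]
    exact (((Nat.coprime_primes hq.out hs).2 hsq.symm)).pow_left k

/-- An element centralising a Sylow `q`-subgroup of `X` has `[X, a] ≤ O_{q'}(X)`. -/
theorem commutator_le_qPrimeCore {X : Subgroup G} {a : G} (hX : Group.IsSolvable X)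
    (haX : a ∈ normalizer (X : Set G)) (hcop : (orderOf a).Coprime (Nat.card X)) (S : Sylow q X)
    (hS : (S : Subgroup X).map X.subtype ≤ centralizer {a}) :
    ⁅X, zpowers a⁆ ≤ (pPrimeCore q ↥X).map X.subtype := by
  set R := (pPrimeCore q ↥X).map X.subtype with hR
  haveI := Cores.pPrimeCore_characteristic (G := ↥X) q
  haveI := Cores.pCore_characteristic (G := ↥X ⧸ pPrimeCore q ↥X) q
  haveI := characteristic_comap_mk' (pPrimeCore q ↥X) (pCore q (↥X ⧸ pPrimeCore q ↥X))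
  set π := QuotientGroup.mk' (pPrimeCore q ↥X)
  set L := (pCore q (↥X ⧸ pPrimeCore q ↥X)).comap π with hL
  set L' := L.map X.subtype
  have hXR : X ≤ normalizer (R : Set G) := le_normalizer.trans (normalizer_le_normalizer_map_char _)
  have haR : a ∈ normalizer (R : Set G) := normalizer_le_normalizer_map_char _ haX
  have haL : a ∈ normalizer (L' : Set G) := normalizer_le_normalizer_map_char _ haX
  -- `a` centralizes `L` modulo `R`
  have hLa : ∀ l ∈ L', ⁅l, a⁆ ∈ R := by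
    rintro _ ⟨l, hl, rfl⟩
    have hle : pCore q (↥X ⧸ pPrimeCore q ↥X) ≤ (S : Subgroup X).map π := by
      have h1 := Cores.pCore_le_sylow (S.mapSurjective (QuotientGroup.mk'_surjective (pPrimeCore q ↥X)))
      rwa [Sylow.coe_mapSurjective] at h1
    obtain ⟨s, hs, hsl⟩ := hle hl
    have hr : l * s⁻¹ ∈ pPrimeCore q ↥X := by
      rw [← QuotientGroup.eq_one_iff, ← QuotientGroup.mk'_apply, map_mul, map_inv, hsl, mul_inv_cancel]
    show ⁅(l : G), a⁆ ∈ R
    have hsa : ⁅(s : G), a⁆ = 1 :=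
      commutatorElement_eq_one_iff_mul_comm.2 (mem_centralizer_singleton_iff.1 (hS ⟨s, hs, rfl⟩))
    rw [show (l : G) = (l * s⁻¹ : X) * (s : X) by simp, commutator_mul_left, hsa,
      mul_one, mul_inv_cancel, one_mul, commutatorElement_def, mul_assoc, mul_assoc,
      ← mul_assoc a _ a⁻¹]
    exact mul_mem ⟨_, hr, rfl⟩ ((mem_normalizer_iff.1 haR _).1 (inv_mem ⟨_, hr, rfl⟩))
  -- commutators lie in `L`
  have hXL : ∀ x ∈ X, ⁅x, a⁆ ∈ L' := by
    intro x hx
    have hu : ⁅x, a⁆ ∈ X := Solvable.commutator_le_of_le_normalizer (zpowers_le.2 haX) (commutator_mem hx)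
    refine ⟨⟨_, hu⟩, ?_, rfl⟩
    haveI := hX
    haveI : Group.IsSolvable (↥X ⧸ pPrimeCore q ↥X) :=
      Group.isSolvable_of_surjective (f := π) (QuotientGroup.mk'_surjective _)
    refine Solvable.centralizer_pCore_le q (Cores.pPrimeCore_quotient_self q) (mem_centralizer_iff.2 ?_)
    intro t ht
    obtain ⟨l, rfl⟩ := QuotientGroup.mk'_surjective (pPrimeCore q ↥X) t
    haveI hRn : (R.subgroupOf (normalizer (R : Set G))).Normal := normal_in_normalizer
    set f := QuotientGroup.mk' (R.subgroupOf (normalizer (R : Set G)))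
    have ha1 : ∀ m : ↥(normalizer (R : Set G)), (m : G) ∈ L' → Commute (f ⟨a, haR⟩) (f m) := by
      intro m hm
      have h1 : f ⁅m, ⟨a, haR⟩⁆ = 1 := (mk'_eq_one_iff _).2 (hLa _ hm)
      rw [map_commutatorElement, commutatorElement_eq_one_iff_mul_comm] at h1
      exact h1.symm
    let x' : ↥(normalizer (R : Set G)) := ⟨x, hXR hx⟩
    let l' : ↥(normalizer (R : Set G)) := ⟨l, hXR l.2⟩
    have hlL : (l : G) ∈ L' := ⟨l, ht, rfl⟩
    have hnL : x ∈ normalizer (L' : Set G) := normalizer_le_normalizer_map_char _ (le_normalizer hx)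
    have c1 : Commute (f ⟨a, haR⟩) (f l') := ha1 l' hlL
    have c2 : Commute (f ⟨a, haR⟩) ((f x')⁻¹ * f l' * f x') := by
      rw [← map_inv, ← map_mul, ← map_mul]
      exact ha1 _ ((mem_normalizer_iff''.1 hnL _).1 hlL)
    have hcomm : Commute (f ⁅x', ⟨a, haR⟩⁆) (f l') := by
      rw [map_commutatorElement, commutatorElement_def]
      have c3 : Commute (f x' * f ⟨a, haR⟩ * (f x')⁻¹) (f l') := by
        have := c2
        unfold Commute SemiconjBy at this ⊢
        calc f x' * f ⟨a, haR⟩ * (f x')⁻¹ * f l'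
            = f x' * (f ⟨a, haR⟩ * ((f x')⁻¹ * f l' * f x')) * (f x')⁻¹ := by group
          _ = f x' * ((f x')⁻¹ * f l' * f x' * f ⟨a, haR⟩) * (f x')⁻¹ := by rw [this]
          _ = _ := by group
      exact c3.mul_left c1.inv_left
    have h5 : f ⁅l', ⁅x', ⟨a, haR⟩⁆⁆ = 1 := by
      rw [map_commutatorElement, commutatorElement_eq_one_iff_mul_comm]
      exact hcomm.symm
    obtain ⟨c, hc, hceq⟩ := (mk'_eq_one_iff _).1 h5
    have h7 : π ⁅l, ⟨⁅x, a⁆, hu⟩⁆ = 1 := by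
      refine (QuotientGroup.eq_one_iff _).2 ?_
      rwa [show ⁅l, (⟨⁅x, a⁆, hu⟩ : X)⁆ = c from Subtype.ext hceq.symm]
    rw [map_commutatorElement, commutatorElement_eq_one_iff_mul_comm] at h7
    exact h7
  have h1 : ⁅X, zpowers a⁆ ≤ L' := commutator_zpowers_le haL hXL
  rw [← commutator_idem haX hcop]
  exact (commutator_mono h1 le_rfl).trans (commutator_zpowers_le haR hLa)

end CfsgLib.Signalizer
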