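import Cfsg.Agent.Lib.Signalizer.Minimal

/-!
The groups generated by the intersections over planes of the cores `O_q(θ b)`.
-/

set_option autoImplicit false
set_option linter.unusedSectionVars false
set_option linter.style.haveILetI false

namespace CfsgLib.Signalizer

open Subgroup Cfsg
open scoped commutatorElement

universe u

variable {G : Type u} [Group G]

/-- The intersection of the `O_q(θ b)` over the nontrivial elements of `B`. -/
def corePi (θ : G → Subgroup G) (q : ℕ) (B : Subgroup G) : Subgroup G :=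
  ⨅ b : {b : G // b ∈ B ∧ b ≠ 1}, pCoreOf q (θ (b : G))

/-- The group generated by the `corePi` over the planes. -/
def coreSum (p : ℕ) (A : Subgroup G) (θ : G → Subgroup G) (q : ℕ) : Subgroup G :=
  ⨆ B : {B : Subgroup G // IsPlane p A B}, corePi θ q (B : Subgroup G)

/-- The intersection of the maximal `q`-members. -/
def maxInf (p : ℕ) (A : Subgroup G) (θ : G → Subgroup G) (q : ℕ) : Subgroup G :=
  ⨅ Q : {Q : Subgroup G // IsMaxMember p A θ q Q}, (Q : Subgroup G)

/-- Some member contains both `θ b` and `coreSum q`. -/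
def GoodFor (p : ℕ) (A : Subgroup G) (θ : G → Subgroup G) (q : ℕ) (b : G) : Prop :=
  ∃ U ∈ signalizerFamily p A θ, θ b ≤ U ∧ coreSum p A θ q ≤ U

/-- The elements of `X` commuting with `Y` modulo `O_q(X)`. -/
def commKer (q : ℕ) (X Y : Subgroup G) : Subgroup G where
  carrier := {l | l ∈ X ∧ ∀ y ∈ Y, ⁅l, y⁆ ∈ pCoreOf q X}
  one_mem' := ⟨one_mem _, fun y _ => by rw [commutatorElement_one_left]; exact one_mem _⟩
  mul_mem' := fun {u w} hu hw => ⟨mul_mem hu.1 hw.1, fun y hy => by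
    rw [commutator_mul_left]
    exact mul_mem ((mem_normalizer_iff.1 (LocalEven.le_normalizer_pCoreOf q X hu.1) _).1 (hw.2 y hy)) (hu.2 y hy)⟩
  inv_mem' := fun {u} hu => ⟨inv_mem hu.1, fun y hy => by
    rw [show ⁅u⁻¹, y⁆ = u⁻¹ * ⁅u, y⁆⁻¹ * u by simp only [commutatorElement_def]; group]
    exact (mem_normalizer_iff''.1 (LocalEven.le_normalizer_pCoreOf q X hu.1) _).1 (inv_mem (hu.2 y hy))⟩

variable [Finite G] {p q : ℕ} [hp : Fact p.Prime] [hq : Fact q.Prime] {A : Subgroup G} {θ : G → Subgroup G}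

theorem le_pCoreOf_of_commKer {X Y : Subgroup G} (hX : Group.IsSolvable X) (hYX : Y ≤ X) (hY : IsPGroup q Y)
    (h : ∀ s : ℕ, s.Prime → s ≠ q → layerOf q s X ≤ commKer q X Y) : Y ≤ pCoreOf q X :=
  le_pCoreOf_of_layers hX hYX hY fun s hs hsq _ hl y hy => (h s hs hsq hl).2 y hy

/-- An element of a layer normalising a `q`-group maps each of its elements in `X` to itself modulo `O_q(X)`. -/
theorem commutator_mem_pCoreOf {s : ℕ} [Fact s.Prime] (hsq : s ≠ q) {X K : Subgroup G} (hK : IsPGroup q K)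
    {l y : G} (hl : l ∈ layerOf q s X) (hyX : y ∈ X) (hlK : l ∈ normalizer (K : Set G)) (hyK : y ∈ K) :
    ⁅l, y⁆ ∈ pCoreOf q X := by
  refine isPGroup_inf_layerOf hsq hK (mem_inf.2 ⟨?_, ?_⟩)
  · rw [commutatorElement_def]
    exact mul_mem ((mem_normalizer_iff.1 hlK y).1 hyK) (inv_mem hyK)
  · rw [commutatorElement_def, mul_assoc, mul_assoc, ← mul_assoc y l⁻¹ y⁻¹]
    exact mul_mem hl
      ((mem_normalizer_iff.1 (normalizer_le_normalizer_layerOf q s X (le_normalizer hyX)) _).1 (inv_mem hl))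

/-- `Y` lies in `O_q(X)` if for each `b` some `q`-group containing `Y` is normalised by `C_X(b)`. -/
theorem le_pCoreOf_of_plane (hA : IsElementaryAbelian p A) {B X Y : Subgroup G} (hB : IsPlane p A B)
    (hX : Group.IsSolvable X) (hpX : ¬ p ∣ Nat.card X) (hBX : B ≤ normalizer (X : Set G)) (hYX : Y ≤ X)
    (hY : IsPGroup q Y)
    (h : ∀ b ∈ B, b ≠ 1 → ∃ K : Subgroup G, IsPGroup q K ∧ Y ≤ K ∧ X ⊓ centralizer {b} ≤ normalizer (K : Set G)) :
    Y ≤ pCoreOf q X := by
  refine le_pCoreOf_of_commKer hX hYX hY fun s hs hsq => ?_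
  haveI := Fact.mk hs
  refine le_of_plane_fixed hA hB (fun hd => hpX (hd.trans (card_dvd_of_le (layerOf_le q s X))))
    (hBX.trans (normalizer_le_normalizer_layerOf q s X)) fun b hb hb1 l hl => ⟨layerOf_le q s X hl.1, fun y hy => ?_⟩
  obtain ⟨K, hK, hYK, hn⟩ := h b hb hb1
  exact commutator_mem_pCoreOf hsq hK hl.1 (hYX hy) (hn ⟨layerOf_le q s X hl.1, hl.2⟩) (hYK hy)

omit [Finite G] hp hq in
theorem corePi_le {B : Subgroup G} {b : G} (hb : b ∈ B) (hb1 : b ≠ 1) : corePi θ q B ≤ pCoreOf q (θ b) :=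
  iInf_le (fun b : {b : G // b ∈ B ∧ b ≠ 1} => pCoreOf q (θ (b : G))) ⟨b, hb, hb1⟩

omit [Finite G] hp hq in
theorem corePi_le_coreSum {B : Subgroup G} (hB : IsPlane p A B) : corePi θ q B ≤ coreSum p A θ q :=
  le_iSup (fun B : {B : Subgroup G // IsPlane p A B} => corePi θ q (B : Subgroup G)) ⟨B, hB⟩

omit [Finite G] hp hq in
theorem mem_corePi {B : Subgroup G} {x : G} (h : ∀ b ∈ B, b ≠ 1 → x ∈ pCoreOf q (θ b)) : x ∈ corePi θ q B :=
  mem_iInf.2 fun b => h b b.2.1 b.2.2

theorem signalizerInf_le_normalizer_corePi {B : Subgroup G} :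
    signalizerInf B θ ≤ normalizer (corePi θ q B : Set G) :=
  le_normalizer_iInf' fun b => (signalizerInf_le b.2.1 b.2.2).trans (LocalEven.le_normalizer_pCoreOf q _)

namespace Minimal

variable (S : Minimal p A θ)
include S

theorem le_maxMember {V : Subgroup G} (hV : V ∈ signalizerFamily p A θ) (hVq : IsPGroup q V)
    (hT : signalizerInf A θ ≤ normalizer (V : Set G)) {Q : Subgroup G} (hQ : IsMaxMember p A θ q Q) : V ≤ Q := by
  rcases eq_or_ne V ⊥ with rfl | hne
  · exact bot_le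
  obtain ⟨Q₁, hQ₁, hle⟩ := exists_isMaxMember hV hVq
  obtain ⟨c, hc, rfl⟩ := transitivity S.functor S.elemAb S.hA3 (S.exists_dvd_theta hV hVq hne) hQ₁ hQ
  rw [← mem_normalizer_iff_map_conj_eq.1 (hT hc)]
  exact map_mono hle

theorem corePi_mem {B : Subgroup G} (hB : IsPlane p A B) : corePi θ q B ∈ signalizerFamily p A θ := by
  obtain ⟨b, hb, hb1⟩ := hB.exists_ne
  refine mem_of_le (theta_mem S.functor (hB.1 hb) hb1) ((corePi_le hb hb1).trans (LocalEven.pCoreOf_le q _)) ?_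
  exact le_normalizer_iInf' fun c =>
    (le_normalizer_theta S.functor (hB.1 c.2.1) c.2.2).trans (normalizer_le_normalizer_pCoreOf q _)

theorem coreSum_le_maxMember {Q : Subgroup G} (hQ : IsMaxMember p A θ q Q) : coreSum p A θ q ≤ Q := by
  refine iSup_le fun ⟨B, hB⟩ => ?_
  obtain ⟨b, hb, hb1⟩ := hB.exists_ne
  refine S.le_maxMember (S.corePi_mem hB) ((LocalEven.isPGroup_pCoreOf q _).to_le (corePi_le hb hb1))
    (le_normalizer_iInf' fun c => (S.signalizerInf_self_le (hB.1 c.2.1) c.2.2).trans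
      (LocalEven.le_normalizer_pCoreOf q _)) hQ

theorem le_normalizer_coreSum : A ≤ normalizer (coreSum p A θ q : Set G) :=
  le_normalizer_iSup' fun B => le_normalizer_of_mem (S.corePi_mem B.2)

theorem signalizerInf_le_normalizer_coreSum : signalizerInf A θ ≤ normalizer (coreSum p A θ q : Set G) :=
  le_normalizer_iSup' fun B => le_normalizer_iInf' fun c =>
    (S.signalizerInf_self_le (B.2.1 c.2.1) c.2.2).trans (LocalEven.le_normalizer_pCoreOf q _)

theorem coreSum_mem : coreSum p A θ q ∈ signalizerFamily p A θ := by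
  obtain ⟨Q, hQ, -⟩ := exists_isMaxMember (θ := θ) (bot_mem (p := p) (A := A)) (IsPGroup.of_bot (p := q))
  exact mem_of_le hQ.1 (S.coreSum_le_maxMember hQ) S.le_normalizer_coreSum

theorem isPGroup_coreSum : IsPGroup q (coreSum p A θ q) := by
  obtain ⟨Q, hQ, -⟩ := exists_isMaxMember (θ := θ) (bot_mem (p := p) (A := A)) (IsPGroup.of_bot (p := q))
  exact hQ.2.1.to_le (S.coreSum_le_maxMember hQ)

theorem coreSum_le_centralizer {r : ℕ} [Fact r.Prime] (h : q ≠ r) :
    coreSum p A θ r ≤ centralizer (coreSum p A θ q : Set G) := by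
  refine iSup_le fun C => ?_
  rw [le_centralizer_iff]
  refine iSup_le fun B => ?_
  obtain ⟨a, ha, ha1⟩ := IsPlane.exists_mem_inter S.elemAb S.card_eq B.2 C.2
  intro x hx
  refine mem_centralizer_iff.2 fun y hy => ?_
  exact (commute_pCoreOf h (corePi_le ha.1 ha1 hx) (corePi_le ha.2 ha1 hy)).symm.eq

theorem coreSum_le_pCoreOf {X : Subgroup G} (hX : X ∈ signalizerFamily p A θ)
    (h : coreSum p A θ q ≤ X) : coreSum p A θ q ≤ pCoreOf q X := by
  refine iSup_le fun ⟨B, hB⟩ => ?_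
  obtain ⟨b₀, hb₀, hb₀1⟩ := hB.exists_ne
  refine le_pCoreOf_of_plane S.elemAb hB hX.1 hX.2.1 (hB.1.trans (le_normalizer_of_mem hX))
    ((corePi_le_coreSum hB).trans h) ((LocalEven.isPGroup_pCoreOf q _).to_le (corePi_le hb₀ hb₀1))
    fun b hb hb1 => ⟨_, LocalEven.isPGroup_pCoreOf q (θ b), corePi_le hb hb1,
      (hX.2.2.2 b (hB.1 hb) hb1).trans (LocalEven.le_normalizer_pCoreOf q _)⟩

theorem coreSum_self_eq_bot {V : Subgroup G} (hV : V ∈ signalizerFamily p A θ) (hVp : IsPGroup p V) : V = ⊥ := by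
  obtain ⟨k, hk⟩ := IsPGroup.iff_card.1 hVp
  rcases Nat.eq_zero_or_pos k with rfl | hk0
  · exact card_eq_one.1 (by rw [hk, pow_zero])
  · exact absurd (hk ▸ dvd_pow_self p hk0.ne') hV.2.1

theorem ne_of_ne_bot {V : Subgroup G} (hV : V ∈ signalizerFamily p A θ) (hVq : IsPGroup q V) (hne : V ≠ ⊥) :
    q ≠ p := by
  rintro rfl
  exact hne (S.coreSum_self_eq_bot hV hVq)

/-- A `q`-member normalised by `θ b` has `[V, b]` in `coreSum q` (`q` odd or `V` abelian). -/
theorem commutator_le_coreSum {V : Subgroup G} (hV : V ∈ signalizerFamily p A θ) (hVq : IsPGroup q V) {b : G}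
    (hb : b ∈ A) (hb1 : b ≠ 1) (hn : θ b ≤ normalizer (V : Set G)) (hcase : q ≠ 2 ∨ IsMulCommutative V) :
    ⁅V, zpowers b⁆ ≤ coreSum p A θ q := by
  rcases eq_or_ne V ⊥ with rfl | hne
  · rw [commutator_bot_left]; exact bot_le
  have hqp := S.ne_of_ne_bot hV hVq hne
  have hbA : ∀ a ∈ A, Commute b a := fun a ha => PGroup.elemAb_comm S.elemAb hb ha
  refine commutator_le_of_planes S.elemAb S.card_eq hV.1 hV.2.1 (le_normalizer_of_mem hV)
    (le_normalizer_of_mem hV hb) hbA (coprime_of_pow_eq_one (S.elemAb.2 b hb) hV.2.1)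
    fun P hP x hx => corePi_le_coreSum hP (mem_corePi fun e he he1 => ?_)
  have heA := hP.1 he
  have hY : V ⊓ centralizer {e} ≤ θ e := hV.2.2.2 e heA he1
  refine commutator_le_pCoreOf (Y := V ⊓ centralizer {e}) (a := b) (S.functor.2 e heA he1)
    (S.not_dvd_theta heA he1) (S.elemAb.2 b hb) (le_normalizer_theta S.functor heA he1 hb)
    (Solvable.le_normalizer_inf (le_normalizer_of_mem hV) (le_normalizer_centralizer_singleton S.elemAb heA) hb)
    hY (hVq.to_le inf_le_left) hqp (hcase.imp_right fun (hc : IsMulCommutative V) => ⟨⟨fun u w => Subtype.ext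
      (congrArg Subtype.val (hc.is_comm.comm (⟨u, u.2.1⟩ : V) ⟨w, w.2.1⟩) :)⟩⟩) ?_
    (commutator_mem (⟨hx.1, centralizer_le (Set.singleton_subset_iff.2 he) hx.2⟩ : x ∈ V ⊓ centralizer {e}))
  intro s hs hsq l hl y hy
  haveI := Fact.mk hs
  have hle : l ∈ θ e := layerOf_le q s _ hl.1
  have hlb : l ∈ θ b := S.mem_theta_of_commute heA he1 hb hb1 hle (mem_centralizer_singleton_iff.1 hl.2)
  refine commutator_mem_pCoreOf hsq (hVq.to_le (inf_le_left : V ⊓ centralizer {e} ≤ V)) hl.1 (hY hy) ?_ hy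
  exact Solvable.le_normalizer_inf (zpowers_le.2 (hn hlb))
    ((zpowers_le.2 (S.theta_le_centralizer heA he1 hle)).trans le_normalizer) (mem_zpowers l)

/-- The core lemma. -/
theorem coreSum_le_pCoreOf_of_maximal {H : Subgroup G} (hH : H ∈ signalizerFamily p A θ)
    (hmax : ∀ W ∈ signalizerFamily p A θ, H ≤ W → W = H) (hT : signalizerInf A θ ≤ H)
    (hne : pCoreOf q H ≠ ⊥) : coreSum p A θ q ≤ pCoreOf q H := by
  set R := pCoreOf q H with hR
  have hRm := pCoreOf_mem hH q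
  have hRq : IsPGroup q R := LocalEven.isPGroup_pCoreOf q H
  set P := maxInf p A θ q with hP
  have hleP : ∀ {V : Subgroup G}, V ∈ signalizerFamily p A θ → IsPGroup q V →
      signalizerInf A θ ≤ normalizer (V : Set G) → V ≤ P := fun hV hVq hn =>
    le_iInf fun Q => S.le_maxMember hV hVq hn Q.2
  have hRP : R ≤ P := hleP hRm hRq (hT.trans (LocalEven.le_normalizer_pCoreOf q H))
  obtain ⟨Q, hQ, -⟩ := exists_isMaxMember (θ := θ) (bot_mem (p := p) (A := A)) (IsPGroup.of_bot (p := q))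
  have hPQ : P ≤ Q := iInf_le (fun Q : {Q : Subgroup G // IsMaxMember p A θ q Q} => (Q : Subgroup G)) ⟨Q, hQ⟩
  have hPm : P ∈ signalizerFamily p A θ :=
    mem_of_le hQ.1 hPQ (le_normalizer_iInf' fun Q => le_normalizer_of_mem Q.2.1)
  set Z := (center P).map P.subtype with hZ
  have hZm : Z ∈ signalizerFamily p A θ := map_char_mem hPm _
  have hZc : Z ≤ centralizer (P : Set G) := by
    rintro _ ⟨z, hz, rfl⟩
    exact mem_centralizer_iff.2 fun y hy => congrArg Subtype.val (mem_center_iff.1 hz ⟨y, hy⟩)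
  have hZne : Z ≠ ⊥ := by
    haveI : Nontrivial P := (nontrivial_iff_ne_bot P).2 fun h => hne (le_bot_iff.1 (h ▸ hRP))
    haveI := (hQ.2.1.to_le hPQ).center_nontrivial
    intro h
    rw [hZ, map_eq_bot_iff_of_injective _ P.subtype_injective] at h
    exact (nontrivial_iff_ne_bot (center P)).1 inferInstance h
  have hWR := S.normMax_pCoreOf_eq hH hmax hne
  have hZH : Z ≤ H := hWR ▸ S.le_normMax hZm
    ((hZc.trans (centralizer_le hRP)).trans (centralizer_le_normalizer _))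
  -- the groups attached to the planes
  let T : Subgroup G → Subgroup G := fun B => R ⊔ ⨆ b : {b : G // b ∈ B ∧ b ≠ 1}, pCoreOf q (θ (b : G))
  let SB : Subgroup G → Subgroup G := fun B => H ⊓ centralizer (T B : Set G)
  have hSm : ∀ {B}, IsPlane p A B → SB B ∈ signalizerFamily p A θ := fun {B} hB => mem_of_le hH inf_le_left
    (Solvable.le_normalizer_inf (le_normalizer_of_mem hH) ((le_normalizer_sup' (le_normalizer_of_mem hRm)
      (le_normalizer_iSup' fun b => (le_normalizer_theta S.functor (hB.1 b.2.1) b.2.2).trans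
        (normalizer_le_normalizer_pCoreOf q _))).trans (Solvable.normalizer_le_normalizer_centralizer _)))
  have hTP : ∀ {B}, IsPlane p A B → T B ≤ P := fun {B} hB => sup_le hRP <| iSup_le fun b =>
    hleP (pCoreOf_mem (theta_mem S.functor (hB.1 b.2.1) b.2.2) q) (LocalEven.isPGroup_pCoreOf q _)
      ((S.signalizerInf_self_le (hB.1 b.2.1) b.2.2).trans (LocalEven.le_normalizer_pCoreOf q _))
  have hSne : ∀ {B}, IsPlane p A B → SB B ≠ ⊥ := fun {B} hB h =>
    hZne (le_bot_iff.1 (h ▸ le_inf hZH (hZc.trans (centralizer_le (hTP hB)))))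
  let WB : Subgroup G → Subgroup G := fun B => normMax p A θ (SB B)
  have hWm : ∀ {B}, IsPlane p A B → WB B ∈ signalizerFamily p A θ := fun {B} hB =>
    (S.normMax_spec (hSm hB) (hSne hB)).1
  have hRW : ∀ {B}, IsPlane p A B → R ≤ WB B := fun {B} _ => S.le_normMax hRm
    ((le_centralizer_iff.2 (inf_le_right.trans (centralizer_le (le_sup_left : R ≤ T B)))).trans
      (centralizer_le_normalizer _))
  have hDW : ∀ {B}, IsPlane p A B → coreSum p A θ q ≤ WB B := fun {B} hB => by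
    refine S.le_normMax S.coreSum_mem (le_trans ?_ (centralizer_le_normalizer _))
    refine iSup_le fun C => ?_
    obtain ⟨a, ha, ha1⟩ := IsPlane.exists_mem_inter S.elemAb S.card_eq hB C.2
    refine le_centralizer_iff.2 (inf_le_right.trans (centralizer_le ?_))
    exact (corePi_le ha.2 ha1).trans ((le_iSup (fun b : {b : G // b ∈ B ∧ b ≠ 1} => pCoreOf q (θ (b : G)))
      ⟨a, ha.1, ha1⟩).trans le_sup_right)
  have hCW : ∀ {B}, IsPlane p A B → H ⊓ centralizer (B : Set G) ≤ WB B := fun {B} hB => by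
    refine S.le_normMax (inf_centralizer_mem S.elemAb hH hB.1) (Solvable.le_normalizer_inf
      (inf_le_left.trans le_normalizer) (le_trans ?_ (Solvable.normalizer_le_normalizer_centralizer _)))
    refine le_normalizer_sup' (inf_le_left.trans (LocalEven.le_normalizer_pCoreOf q H))
      (le_normalizer_iSup' fun b => le_trans ?_ (LocalEven.le_normalizer_pCoreOf q _))
    exact (inf_le_inf_left H (centralizer_le (Set.singleton_subset_iff.2 b.2.1))).trans
      (hH.2.2.2 b (hB.1 b.2.1) b.2.2)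
  set E := ⨅ B : {B : Subgroup G // IsPlane p A B}, pCoreOf q (WB (B : Subgroup G)) with hE
  have hDE : coreSum p A θ q ≤ E := le_iInf fun B => S.coreSum_le_pCoreOf (hWm B.2) (hDW B.2)
  have hEle : ∀ {B}, IsPlane p A B → E ≤ pCoreOf q (WB B) := fun {B} hB =>
    iInf_le (fun B : {B : Subgroup G // IsPlane p A B} => pCoreOf q (WB (B : Subgroup G))) ⟨B, hB⟩
  have hRE : R ≤ normalizer (E : Set G) :=
    le_normalizer_iInf' fun B => (hRW B.2).trans (LocalEven.le_normalizer_pCoreOf q _)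
  obtain ⟨B₀, hB₀, -⟩ := exists_plane_le' S.elemAb le_rfl
    ((Nat.pow_le_pow_right hp.out.pos (by norm_num)).trans S.hA3)
  have hEq : IsPGroup q E := (LocalEven.isPGroup_pCoreOf q _).to_le (hEle hB₀)
  have hEm : E ∈ signalizerFamily p A θ := mem_of_le (pCoreOf_mem (hWm hB₀) q) (hEle hB₀)
    (le_normalizer_iInf' fun B => le_normalizer_of_mem (pCoreOf_mem (hWm B.2) q))
  have hEH : E ⊓ H ≤ R := by
    refine le_pCoreOf_of_commKer hH.1 inf_le_right (hEq.to_le inf_le_left) fun s hs hsq => ?_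
    haveI := Fact.mk hs
    refine le_of_planes S.elemAb S.card_eq (not_dvd_of_le hH (layerOf_le q s H))
      ((le_normalizer_of_mem hH).trans (normalizer_le_normalizer_layerOf q s H))
      fun B hB l hl => ⟨layerOf_le q s H hl.1, fun y hy => ?_⟩
    exact commutator_mem_pCoreOf hsq (LocalEven.isPGroup_pCoreOf q (WB B)) hl.1 hy.2
      (LocalEven.le_normalizer_pCoreOf q _ (hCW hB ⟨layerOf_le q s H hl.1, hl.2⟩)) (hEle hB hy.1)
  have hNE : E ⊓ normalizer (R : Set G) ≤ R := by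
    refine le_trans (le_inf inf_le_left ?_) hEH
    rw [← hWR]
    exact S.le_normMax (mem_of_le hEm inf_le_left (Solvable.le_normalizer_inf (le_normalizer_of_mem hEm)
      ((le_normalizer_of_mem hRm).trans le_normalizer))) inf_le_right
  refine hDE.trans ?_
  by_contra hER
  have hlt : R < R ⊔ E := lt_of_le_of_ne le_sup_left fun h => hER (h.ge.trans' le_sup_right)
  have hsup : IsPGroup q ↥(R ⊔ E) := IsPGroup.to_sup_of_normal_right' hRq hEq hRE
  obtain ⟨-, x, hx, hxR⟩ := SetLike.lt_iff_le_and_exists.1 (isPGroup_inf_normalizer_gt hsup hlt)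
  obtain ⟨e, he, r, hr, rfl⟩ := Solvable.exists_mul_of_mem_sup (K := E) (A := R) hRE (sup_comm R E ▸ hx.1)
  have hrR : r ∈ normalizer (R : Set G) := le_normalizer hr
  exact hxR (mul_mem (hNE ⟨he, by simpa using (normalizer (R : Set G)).mul_mem hx.2 ((normalizer (R : Set G)).inv_mem hrR)⟩) hr)

/-- A maximal member over `θ b` with `O_q` nontrivial is good for `q`. -/
theorem goodFor_of_core {U : Subgroup G} (hU : U ∈ signalizerFamily p A θ)
    (hmax : ∀ W ∈ signalizerFamily p A θ, U ≤ W → W = U) {b : G} (hb : b ∈ A) (hb1 : b ≠ 1) (hbU : θ b ≤ U)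
    (hne : pCoreOf q U ≠ ⊥) : GoodFor p A θ q b :=
  ⟨U, hU, hbU, (S.coreSum_le_pCoreOf_of_maximal hU hmax ((S.signalizerInf_self_le hb hb1).trans hbU) hne).trans
    (LocalEven.pCoreOf_le q U)⟩

/-- A member over `θ b` with an odd core, for another prime, moved by `b`, is good for `q`. -/
theorem goodFor_of_moved {t : ℕ} [Fact t.Prime] (ht2 : t ≠ 2) (htq : t ≠ q) {U : Subgroup G}
    (hU : U ∈ signalizerFamily p A θ) {b : G} (hb : b ∈ A) (hb1 : b ≠ 1) (hbU : θ b ≤ U)
    (hne : ¬ pCoreOf t U ≤ centralizer {b}) : GoodFor p A θ q b := by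
  have hOt := pCoreOf_mem hU t
  have hθn : θ b ≤ normalizer (pCoreOf t U : Set G) := hbU.trans (LocalEven.le_normalizer_pCoreOf t U)
  set V := ⁅pCoreOf t U, zpowers b⁆
  have hVm : V ∈ signalizerFamily p A θ := commutator_mem_family hOt (le_normalizer_of_mem hOt hb)
    fun a ha => PGroup.elemAb_comm S.elemAb hb ha
  have hVne : V ≠ ⊥ := fun h => hne (commutator_zpowers_eq_bot_iff.1 h)
  refine ⟨normMax p A θ V, (S.normMax_spec hVm hVne).1, S.le_normMax (theta_mem S.functor hb hb1) ?_,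
    S.le_normMax S.coreSum_mem ?_⟩
  · intro c hc
    refine mem_normalizer_commutator_zpowers (hθn hc) ?_
    rw [mem_centralizer_singleton_iff.1 (S.theta_le_centralizer hb hb1 hc), mul_inv_cancel_right]
  · have hVD := S.commutator_le_coreSum hOt (LocalEven.isPGroup_pCoreOf t U) hb hb1 hθn (Or.inl ht2)
    exact ((S.coreSum_le_centralizer htq).trans (centralizer_le hVD)).trans (centralizer_le_normalizer _)

/-- A line with no good member lies in no plane with `corePi` nontrivial. -/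
theorem corePi_eq_bot {B : Subgroup G} (hB : IsPlane p A B) {b : G} (hb : b ∈ B) (hb1 : b ≠ 1)
    (hnb : ¬ GoodFor p A θ q b) : corePi θ q B = ⊥ := by
  have hbA := hB.1 hb
  obtain ⟨U, hU, hbU, hmax⟩ := exists_maximal_member (theta_mem S.functor hbA hb1)
  have hOq : pCoreOf q U = ⊥ := by
    by_contra h
    exact hnb (S.goodFor_of_core hU hmax hbA hb1 hbU h)
  have hPU : corePi θ q B ≤ U := ((corePi_le hb hb1).trans (LocalEven.pCoreOf_le q _)).trans hbU
  refine le_bot_iff.1 (hOq ▸ le_pCoreOf_of_centralizes_cores hU.1 hPU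
    ((LocalEven.isPGroup_pCoreOf q _).to_le (corePi_le hb hb1)) fun t ht => ?_)
  haveI := Fact.mk ht
  by_cases htq : t = q
  · subst htq
    rw [hOq]; exact bot_le
  refine le_of_planes S.elemAb S.card_eq (pCoreOf_mem hU t).2.1 (le_normalizer_of_mem (pCoreOf_mem hU t))
    fun P hP w hw => mem_centralizer_iff.2 fun x hx => ?_
  obtain ⟨g, hg, hg1⟩ := IsPlane.exists_mem_inter S.elemAb S.card_eq hB hP
  have hwθ : w ∈ θ g := (pCoreOf_mem hU t).2.2.2 g (hB.1 hg.1) hg1
    ⟨hw.1, centralizer_le (Set.singleton_subset_iff.2 hg.2) hw.2⟩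
  refine commutatorElement_eq_one_iff_mul_comm.1 ?_
  have hxg := corePi_le hg.1 hg1 hx
  refine eq_one_of_isPGroup (Ne.symm htq) (LocalEven.isPGroup_pCoreOf q (θ g)) (LocalEven.isPGroup_pCoreOf t U) ?_ ?_
  · rw [commutatorElement_def, mul_assoc, mul_assoc, ← mul_assoc w x⁻¹ w⁻¹]
    exact mul_mem hxg ((mem_normalizer_iff.1 (LocalEven.le_normalizer_pCoreOf q _ hwθ) _).1 (inv_mem hxg))
  · rw [commutatorElement_def]
    exact mul_mem ((mem_normalizer_iff.1 (LocalEven.le_normalizer_pCoreOf t U (hPU hx)) _).1 hw.1) (inv_mem hw.1)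

theorem exists_good_plane (hD : coreSum p A θ q ≠ ⊥) :
    ∃ B, IsPlane p A B ∧ ∀ b ∈ B, b ≠ 1 → GoodFor p A θ q b := by
  by_contra hc
  push Not at hc
  refine hD (le_bot_iff.1 (iSup_le fun B => ?_))
  obtain ⟨b, hb, hb1, hnb⟩ := hc B B.2
  exact (S.corePi_eq_bot B.2 hb hb1 hnb).le

theorem coreSum_inf_centralizer_le {g : G} (hg : g ∈ A) (hg1 : g ≠ 1) :
    coreSum p A θ q ⊓ centralizer {g} ≤ pCoreOf q (θ g) := by
  rcases eq_or_ne (coreSum p A θ q) ⊥ with hD | hD
  · rw [hD, bot_inf_eq]; exact bot_le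
  obtain ⟨B, hB, hgood⟩ := S.exists_good_plane hD
  refine le_pCoreOf_of_plane S.elemAb hB (S.functor.2 g hg hg1) (S.not_dvd_theta hg hg1)
    (hB.1.trans (le_normalizer_theta S.functor hg hg1)) (S.coreSum_mem.2.2.2 g hg hg1)
    (S.isPGroup_coreSum.to_le inf_le_left) fun b hb hb1 => ?_
  obtain ⟨U, hU, hbU, hDU⟩ := hgood b hb hb1
  exact ⟨pCoreOf q U, LocalEven.isPGroup_pCoreOf q U, inf_le_left.trans (S.coreSum_le_pCoreOf hU hDU),
    ((S.functor.1.2.2.2 g hg hg1 b (hB.1 hb) hb1).trans hbU).trans (LocalEven.le_normalizer_pCoreOf q U)⟩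

/-- An element without good member has no fixed points on `coreSum q`. -/
theorem coreSum_inf_centralizer_eq_bot {b : G} (hb : b ∈ A) (hb1 : b ≠ 1) (hnb : ¬ GoodFor p A θ q b) :
    coreSum p A θ q ⊓ centralizer {b} = ⊥ := by
  refine le_bot_iff.1 (le_of_planes_at S.elemAb S.card_eq (not_dvd_of_le S.coreSum_mem inf_le_left)
    (Solvable.le_normalizer_inf S.le_normalizer_coreSum (le_normalizer_centralizer_singleton S.elemAb hb))
    hb hb1 inf_le_right fun P hP hbP => ?_)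
  rw [← S.corePi_eq_bot hP hbP hb1 hnb]
  exact fun x hx => mem_corePi fun e he he1 =>
    S.coreSum_inf_centralizer_le (hP.1 he) he1 ⟨hx.1.1, centralizer_le (Set.singleton_subset_iff.2 he) hx.2⟩

theorem plane_normalizes_of_all_good {B : Subgroup G} (hB : IsPlane p A B)
    (hgood : ∀ b ∈ B, b ≠ 1 → GoodFor p A θ q b) :
    signalizerInf B θ ≤ normalizer (coreSum p A θ q : Set G) := by
  choose U hU hbU hDU using hgood
  set K := ⨅ b : {b : G // b ∈ B ∧ b ≠ 1}, pCoreOf q (U b b.2.1 b.2.2) with hK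
  have hKle : ∀ b (hb : b ∈ B) (hb1 : b ≠ 1), K ≤ pCoreOf q (U b hb hb1) := fun b hb hb1 =>
    iInf_le (fun b : {b : G // b ∈ B ∧ b ≠ 1} => pCoreOf q (U b b.2.1 b.2.2)) ⟨b, hb, hb1⟩
  obtain ⟨b₀, hb₀, hb₀1⟩ := hB.exists_ne
  have hKm : K ∈ signalizerFamily p A θ := mem_of_le (pCoreOf_mem (hU b₀ hb₀ hb₀1) q) (hKle b₀ hb₀ hb₀1)
    (le_normalizer_iInf' fun b => le_normalizer_of_mem (pCoreOf_mem (hU b b.2.1 b.2.2) q))
  have hKq : IsPGroup q K := (LocalEven.isPGroup_pCoreOf q _).to_le (hKle b₀ hb₀ hb₀1)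
  have heq : K = coreSum p A θ q := by
    refine le_antisymm (le_of_planes S.elemAb S.card_eq hKm.2.1 (le_normalizer_of_mem hKm) fun P hP x hx =>
      corePi_le_coreSum hP (mem_corePi fun e he he1 => ?_))
      (le_iInf fun b => S.coreSum_le_pCoreOf (hU b b.2.1 b.2.2) (hDU b b.2.1 b.2.2))
    have heA := hP.1 he
    refine le_pCoreOf_of_plane (Y := K ⊓ centralizer {e}) S.elemAb hB (S.functor.2 e heA he1)
      (S.not_dvd_theta heA he1) (hB.1.trans (le_normalizer_theta S.functor heA he1)) (hKm.2.2.2 e heA he1)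
      (hKq.to_le inf_le_left) (fun b hb hb1 => ⟨_, LocalEven.isPGroup_pCoreOf q (U b hb hb1),
        inf_le_left.trans (hKle b hb hb1), ?_⟩) ⟨hx.1, centralizer_le (Set.singleton_subset_iff.2 he) hx.2⟩
    exact ((S.functor.1.2.2.2 e heA he1 b (hB.1 hb) hb1).trans (hbU b hb hb1)).trans
      (LocalEven.le_normalizer_pCoreOf q _)
  rw [← heq]
  exact le_normalizer_iInf' fun b => ((signalizerInf_le b.2.1 b.2.2).trans (hbU b b.2.1 b.2.2)).trans
    (LocalEven.le_normalizer_pCoreOf q _)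

theorem plane_normalizes_of_two_good (hq2 : q ≠ 2) {B : Subgroup G} (hB : IsPlane p A B) {h₁ h₂ : G}
    (hh₁ : h₁ ∈ B) (hh₁1 : h₁ ≠ 1) (hh₂ : h₂ ∈ B) (hne : h₂ ∉ zpowers h₁)
    (hg₁ : GoodFor p A θ q h₁) (hg₂ : GoodFor p A θ q h₂) :
    signalizerInf B θ ≤ normalizer (coreSum p A θ q : Set G) := by
  by_cases hall : ∀ b ∈ B, b ≠ 1 → GoodFor p A θ q b
  · exact S.plane_normalizes_of_all_good hB hall
  push Not at hall
  obtain ⟨b, hb, hb1, hnb⟩ := hall
  obtain ⟨U₁, hU₁, hθ₁, hD₁⟩ := hg₁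
  obtain ⟨U₂, hU₂, hθ₂, hD₂⟩ := hg₂
  have hh₂1 : h₂ ≠ 1 := fun h => hne (h ▸ one_mem _)
  set K := pCoreOf q U₁ ⊓ pCoreOf q U₂ with hK
  have hKm : K ∈ signalizerFamily p A θ := mem_of_le (pCoreOf_mem hU₁ q) inf_le_left
    (Solvable.le_normalizer_inf (le_normalizer_of_mem (pCoreOf_mem hU₁ q))
      (le_normalizer_of_mem (pCoreOf_mem hU₂ q)))
  set D := coreSum p A θ q with hD
  have hDK : D ≤ K := le_inf (S.coreSum_le_pCoreOf hU₁ hD₁) (S.coreSum_le_pCoreOf hU₂ hD₂)
  have hKh : ∀ h ∈ ({h₁, h₂} : Set G), ⁅K, zpowers h⁆ ≤ D := by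
    rintro h (rfl | rfl)
    · exact (commutator_mono inf_le_left le_rfl).trans (S.commutator_le_coreSum (pCoreOf_mem hU₁ q)
        (LocalEven.isPGroup_pCoreOf q _) (hB.1 hh₁) hh₁1 (hθ₁.trans (LocalEven.le_normalizer_pCoreOf q _))
        (Or.inl hq2))
    · exact (commutator_mono inf_le_right le_rfl).trans (S.commutator_le_coreSum (pCoreOf_mem hU₂ q)
        (LocalEven.isPGroup_pCoreOf q _) (hB.1 hh₂) hh₂1 (hθ₂.trans (LocalEven.le_normalizer_pCoreOf q _))
        (Or.inl hq2))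
  have hcl : zpowers b ≤ closure {h₁, h₂} := by
    rw [zpowers_le]
    refine ((hB.eq_sup S.elemAb hh₁ hh₂ hh₁1 hne) ▸ (sup_le ?_ ?_ : zpowers h₁ ⊔ zpowers h₂ ≤ _)) hb
    · exact zpowers_le.2 (subset_closure (by simp))
    · exact zpowers_le.2 (subset_closure (by simp))
  have hKb : ⁅K, zpowers b⁆ ≤ D := by
    refine (commutator_mono le_rfl hcl).trans (commutator_le_of_forall ?_ fun x hx s hs =>
      hKh s hs (commutator_mem hx))
    rintro h (rfl | rfl)
    · exact S.le_normalizer_coreSum (hB.1 hh₁)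
    · exact S.le_normalizer_coreSum (hB.1 hh₂)
  have hDb : D = ⁅D, zpowers b⁆ := by
    have h1 := Solvable.commutator_sup_centralizer (K := D) (zpowers_le.2 (S.le_normalizer_coreSum (hB.1 hb)))
      (coprime_zpowers (coprime_of_pow_eq_one (S.elemAb.2 b (hB.1 hb)) S.coreSum_mem.2.1))
      (Or.inl (isSolvable_zpowers b))
    rw [← centralizer_singleton_eq_zpowers, S.coreSum_inf_centralizer_eq_bot (hB.1 hb) hb1 hnb, sup_bot_eq] at h1
    exact h1.symm
  have heq : D = ⁅K, zpowers b⁆ := le_antisymm (hDb.le.trans (commutator_mono hDK le_rfl)) hKb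
  rw [heq]
  intro c hc
  refine mem_normalizer_commutator_zpowers (Solvable.le_normalizer_inf
    (((signalizerInf_le hh₁ hh₁1).trans hθ₁).trans (LocalEven.le_normalizer_pCoreOf q _))
    (((signalizerInf_le hh₂ hh₂1).trans hθ₂).trans (LocalEven.le_normalizer_pCoreOf q _)) hc) ?_
  rw [← mem_centralizer_iff.1 (signalizerInf_le_centralizer S.functor hB.1 hc) b hb, mul_inv_cancel_right]

/-- A plane normalises `coreSum q` unless a single line of it is good. -/
theorem plane_normalizes_or_thin (hq2 : q ≠ 2) (hD : coreSum p A θ q ≠ ⊥) {B : Subgroup G}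
    (hB : IsPlane p A B) :
    signalizerInf B θ ≤ normalizer (coreSum p A θ q : Set G) ∨ ∃ c ∈ B, ∃ b ∈ B, c ≠ 1 ∧ b ≠ 1 ∧
      ¬ GoodFor p A θ q b ∧ coreSum p A θ q ≤ centralizer {c} ∧
      ∀ h ∈ B, h ≠ 1 → GoodFor p A θ q h → h ∈ zpowers c := by
  by_cases hall : ∀ b ∈ B, b ≠ 1 → GoodFor p A θ q b
  · exact Or.inl (S.plane_normalizes_of_all_good hB hall)
  push Not at hall
  obtain ⟨b, hb, hb1, hnb⟩ := hall
  by_cases htwo : ∃ h₁ ∈ B, h₁ ≠ 1 ∧ ∃ h₂ ∈ B, h₂ ∉ zpowers h₁ ∧ GoodFor p A θ q h₁ ∧ GoodFor p A θ q h₂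
  · obtain ⟨h₁, hh₁, hh₁1, h₂, hh₂, hne, hg₁, hg₂⟩ := htwo
    exact Or.inl (S.plane_normalizes_of_two_good hq2 hB hh₁ hh₁1 hh₂ hne hg₁ hg₂)
  push Not at htwo
  refine Or.inr ?_
  have hone : ∃ c ∈ B, c ≠ 1 ∧ GoodFor p A θ q c := by
    by_contra hno
    push Not at hno
    refine hD (le_bot_iff.1 (le_of_plane_fixed S.elemAb hB S.coreSum_mem.2.1
      (hB.1.trans S.le_normalizer_coreSum) fun x hx hx1 => ?_))
    exact (S.coreSum_inf_centralizer_eq_bot (hB.1 hx) hx1 (hno x hx hx1)).le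
  obtain ⟨c, hc, hc1, hgc⟩ := hone
  have hzp : ∀ h ∈ B, h ≠ 1 → GoodFor p A θ q h → h ∈ zpowers c := fun h hh _ hg => by
    by_contra hn
    exact htwo c hc hc1 h hh hn hgc hg
  refine ⟨c, hc, b, hb, hc1, hb1, hnb, ?_, hzp⟩
  refine le_of_plane_fixed S.elemAb hB S.coreSum_mem.2.1 (hB.1.trans S.le_normalizer_coreSum) fun x hx hx1 => ?_
  by_cases hgx : GoodFor p A θ q x
  · refine inf_le_right.trans ?_
    rw [centralizer_singleton_eq_zpowers x, centralizer_singleton_eq_zpowers c]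
    exact centralizer_le (zpowers_le.2 (mem_zpowers_symm S.elemAb (hB.1 hc) hc1 hx1 (hzp x hx hx1 hgx)))
  · rw [S.coreSum_inf_centralizer_eq_bot (hB.1 hx) hx1 hgx]; exact bot_le

end Minimal

end CfsgLib.Signalizer
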