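import Cfsg.Agent.Lib.Signalizer.CoreSum
import Cfsg.Agent.Lib.PGroup.Basic

/-!
The elements moving only the `2`-core of a maximal member, and the end of the proof.
-/

set_option autoImplicit false
set_option linter.unusedSectionVars false
set_option linter.style.haveILetI false

namespace CfsgLib.Signalizer

open Subgroup Cfsg
open scoped commutatorElement

universe u

variable {G : Type u} [Group G]

/-- If `a` centralises `K` and `u` normalises it, then `[u, a]` centralises `K`. -/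
theorem commutator_mem_centralizer {K : Subgroup G} {u a : G} (ha : a ∈ centralizer (K : Set G))
    (hu : u ∈ normalizer (K : Set G)) : ⁅u, a⁆ ∈ centralizer (K : Set G) := by
  refine mem_centralizer_iff.2 fun y hy => ?_
  have hy' : u⁻¹ * y * u ∈ K := (mem_normalizer_iff''.1 hu y).1 hy
  have e1 : Commute a (u⁻¹ * y * u) := (mem_centralizer_iff.1 ha _ hy').symm
  have e2 : Commute a y := (mem_centralizer_iff.1 ha _ hy).symm
  have e3 : Commute (u * a * u⁻¹) y := by
    have h := e1.map (MulAut.conj u).toMonoidHom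
    rwa [show (MulAut.conj u).toMonoidHom (u⁻¹ * y * u) = y by simp [mul_assoc]] at h
  exact (show Commute y ⁅u, a⁆ from (e3.mul_left e2.inv_left).symm).eq

theorem mul_commutator_mem {K : Subgroup G} {x b : G} (hx : x ∈ K) (hb : b ∈ normalizer (K : Set G)) :
    ⁅x, b⁆ ∈ K := by
  rw [commutatorElement_def, mul_assoc, mul_assoc, ← mul_assoc b x⁻¹ b⁻¹]
  exact mul_mem hx ((mem_normalizer_iff.1 hb _).1 (inv_mem hx))

/-- Only the `2`-core of a maximal member containing `θ b` is moved by `b`. -/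
def BadFor (p : ℕ) (A : Subgroup G) (θ : G → Subgroup G) (b : G) : Prop :=
  ∀ U ∈ signalizerFamily p A θ, θ b ≤ U → (∀ W ∈ signalizerFamily p A θ, U ≤ W → W = U) →
    ∀ t : ℕ, t.Prime → t ≠ 2 → pCoreOf t U ≤ centralizer {b}

variable [Finite G]

/-- The odd part of the core for a prime other than `2`. -/
theorem le_oddCoreMap {X N : Subgroup G} (hNX : N ≤ X) (hn : X ≤ normalizer (N : Set G))
    (hodd : ¬ 2 ∣ Nat.card N) : N ≤ (pPrimeCore 2 ↥X).map X.subtype := by
  haveI : (N.subgroupOf X).Normal := Subgroup.normal_subgroupOf_of_le_normalizer hn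
  haveI : Fact (Nat.Prime 2) := ⟨Nat.prime_two⟩
  rw [← map_subgroupOf_eq_of_le hNX]
  refine map_mono (Cores.le_pPrimeCore_of_not_dvd ?_)
  rwa [Nat.card_congr (subgroupOfEquivOfLe hNX).toEquiv]

theorem pCoreOf_le_oddCoreMap {t : ℕ} [ht : Fact t.Prime] (ht2 : t ≠ 2) (X : Subgroup G) :
    pCoreOf t X ≤ (pPrimeCore 2 ↥X).map X.subtype := by
  refine le_oddCoreMap (LocalEven.pCoreOf_le t X) (LocalEven.le_normalizer_pCoreOf t X) fun hd => ?_
  obtain ⟨k, hk⟩ := IsPGroup.iff_card.1 (LocalEven.isPGroup_pCoreOf t X)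
  rw [hk] at hd
  exact ht2 ((Nat.prime_dvd_prime_iff_eq Nat.prime_two ht.out).1 (Nat.prime_two.dvd_of_dvd_pow hd)).symm

variable {p q : ℕ} [hp : Fact p.Prime] [hq : Fact q.Prime] {A : Subgroup G} {θ : G → Subgroup G}

namespace Minimal

variable (S : Minimal p A θ)
include S

theorem goodFor_two {b : G} (hb : b ∈ A) (hb1 : b ≠ 1) : GoodFor p A θ 2 b := by
  haveI : Fact (Nat.Prime 2) := ⟨Nat.prime_two⟩
  obtain ⟨U, hU, hbU, hmax⟩ := exists_maximal_member (theta_mem S.functor hb hb1)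
  obtain ⟨t, ht, hmv⟩ := S.exists_moved hU hmax hb hb1
  haveI := Fact.mk ht
  by_cases ht2 : t = 2
  · subst ht2
    exact S.goodFor_of_core hU hmax hb hb1 hbU fun h => hmv (h ▸ bot_le)
  · exact S.goodFor_of_moved ht2 ht2 hU hb hb1 hbU hmv

theorem coreSum_two_eq_bot : coreSum p A θ 2 = ⊥ :=
  haveI : Fact (Nat.Prime 2) := ⟨Nat.prime_two⟩
  S.eq_bot_of_planes S.coreSum_mem fun _ hB => S.plane_normalizes_of_all_good hB fun _ hb hb1 =>
    S.goodFor_two (hB.1 hb) hb1

theorem goodFor_of_not_bad {b : G} (hb : b ∈ A) (hb1 : b ≠ 1) (h : ¬ BadFor p A θ b) : GoodFor p A θ q b := by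
  unfold BadFor at h
  push Not at h
  obtain ⟨U, hU, hbU, hmax, t, ht, ht2, hmv⟩ := h
  haveI := Fact.mk ht
  by_cases htq : t = q
  · subst htq
    exact S.goodFor_of_core hU hmax hb hb1 hbU fun h => hmv (h ▸ bot_le)
  · exact S.goodFor_of_moved ht2 htq hU hb hb1 hbU hmv

theorem exists_odd_ne_bot {b : G} (hb : b ∈ A) (hb1 : b ≠ 1) (h : ¬ BadFor p A θ b) :
    ∃ t : ℕ, t.Prime ∧ t ≠ 2 ∧ coreSum p A θ t ≠ ⊥ := by
  unfold BadFor at h
  push Not at h
  obtain ⟨U, hU, hbU, hmax, t, ht, ht2, hmv⟩ := h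
  haveI := Fact.mk ht
  refine ⟨t, ht, ht2, fun h0 => hmv (commutator_zpowers_eq_bot_iff.1 (le_bot_iff.1 (h0 ▸ ?_)))⟩
  exact S.commutator_le_coreSum (pCoreOf_mem hU t) (LocalEven.isPGroup_pCoreOf t U) hb hb1
    (hbU.trans (LocalEven.le_normalizer_pCoreOf t U)) (Or.inl ht2)

theorem coreSum_le_centralizer_of_bad {s : ℕ} (hs : s.Prime) {b : G} (hbad : BadFor p A θ b)
    (hg : GoodFor p A θ s b) : coreSum p A θ s ≤ centralizer {b} := by
  haveI := Fact.mk hs
  by_cases hs2 : s = 2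
  · subst hs2
    rw [S.coreSum_two_eq_bot]; exact bot_le
  obtain ⟨U, hU, hbU, hDU⟩ := hg
  obtain ⟨V, hV, hUV, hmax⟩ := exists_maximal_member hU
  exact (S.coreSum_le_pCoreOf hV (hDU.trans hUV)).trans (hbad V hV (hbU.trans hUV) hmax s hs hs2)

/-- The centre of a maximal `2`-member is centralised by the bad elements. -/
theorem center_le_centralizer_of_bad [Fact (Nat.Prime 2)] {Q : Subgroup G} (hQ : IsMaxMember p A θ 2 Q) {b : G}
    (hb : b ∈ A) (hb1 : b ≠ 1) (hbad : BadFor p A θ b) : (center Q).map Q.subtype ≤ centralizer {b} := by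
  obtain ⟨U, hU, hbU, hmax⟩ := exists_maximal_member (theta_mem S.functor hb hb1)
  obtain ⟨t, ht, hmv⟩ := S.exists_moved hU hmax hb hb1
  have ht2 : t = 2 := by
    by_contra h
    exact hmv (hbad U hU hbU hmax t ht h)
  subst ht2
  set R := pCoreOf 2 U with hR
  have hRne : R ≠ ⊥ := fun h => hmv (h ▸ bot_le)
  have hRQ : R ≤ Q := S.le_maxMember (pCoreOf_mem hU 2) (LocalEven.isPGroup_pCoreOf 2 U)
    (((S.signalizerInf_self_le hb hb1).trans hbU).trans (LocalEven.le_normalizer_pCoreOf 2 U)) hQ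
  set Z := (center Q).map Q.subtype with hZ
  have hZm : Z ∈ signalizerFamily p A θ := map_char_mem hQ.1 _
  have hZc : Z ≤ centralizer (Q : Set G) := by
    rintro _ ⟨z, hz, rfl⟩
    exact mem_centralizer_iff.2 fun y hy => congrArg Subtype.val (mem_center_iff.1 hz ⟨y, hy⟩)
  have hZU : Z ≤ U := (S.normMax_pCoreOf_eq hU hmax hRne) ▸ S.le_normMax hZm
    ((hZc.trans (centralizer_le hRQ)).trans (centralizer_le_normalizer _))
  have hbZ : b ∈ normalizer (Z : Set G) := le_normalizer_of_mem hZm hb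
  have hcop : (orderOf b).Coprime (Nat.card Z) := coprime_of_pow_eq_one (S.elemAb.2 b hb) hZm.2.1
  set Y := ⁅Z, zpowers b⁆ with hY
  have hYZ : Y ≤ Z := Solvable.commutator_le_of_le_normalizer (zpowers_le.2 hbZ)
  have hZ2 : IsPGroup 2 Z := hQ.2.1.to_le (map_subtype_le _)
  have hYR : Y ≤ R := by
    refine le_pCoreOf_of_centralizes_cores hU.1 (hYZ.trans hZU) (hZ2.to_le hYZ) fun t ht => ?_
    by_cases ht2 : t = 2
    · subst ht2
      exact hRQ.trans (le_centralizer_iff.1 (hYZ.trans hZc))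
    rw [le_centralizer_iff]
    refine commutator_zpowers_le ?_ fun z hz => ?_
    · exact Solvable.normalizer_le_normalizer_centralizer _
        (normalizer_le_normalizer_pCoreOf t U (le_normalizer_of_mem hU hb))
    · refine commutator_mem_centralizer (mem_centralizer_iff.2 fun y hy => ?_)
        (LocalEven.le_normalizer_pCoreOf t U (hZU hz))
      exact mem_centralizer_singleton_iff.1 (hbad U hU hbU hmax t ht ht2 hy)
  set ZR := (center R).map R.subtype with hZR
  have hYZR : Y ≤ ZR := fun y hy => ⟨⟨y, hYR hy⟩, mem_center_iff.2 fun r => Subtype.ext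
    (mem_centralizer_iff.1 (hZc (hYZ hy)) r (hRQ r.2)), rfl⟩
  haveI : IsMulCommutative ZR := ⟨⟨by
    rintro ⟨_, x, hx, rfl⟩ ⟨_, y, hy, rfl⟩
    exact Subtype.ext (congrArg Subtype.val (mem_center_iff.1 hy x) :)⟩⟩
  refine le_centralizer_of_commutator_centralized hbZ hcop ?_
  rw [← commutator_zpowers_eq_bot_iff, ← le_bot_iff]
  refine (commutator_mono hYZR le_rfl).trans (le_of_le_of_eq ?_ S.coreSum_two_eq_bot)
  exact S.commutator_le_coreSum (map_char_mem (pCoreOf_mem hU 2) _)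
    ((LocalEven.isPGroup_pCoreOf 2 U).to_le (map_subtype_le _)) hb hb1
    (((hbU.trans (LocalEven.le_normalizer_pCoreOf 2 U))).trans (normalizer_le_normalizer_map_char _))
    (Or.inr inferInstance)

/-- In a plane with a single good line, the plane still normalises `coreSum q`. -/
theorem thin_normalizes (hq2 : q ≠ 2) (hD : coreSum p A θ q ≠ ⊥) {M : Subgroup G}
    (hM : M ∈ signalizerFamily p A θ) {B : Subgroup G} (hB : IsPlane p A B) {c b : G} (hc : c ∈ B) (hb : b ∈ B)
    (hc1 : c ≠ 1) (hb1 : b ≠ 1) (hnb : ¬ GoodFor p A θ q b) (hDc : coreSum p A θ q ≤ centralizer {c})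
    {Y : Subgroup G} (hYM : Y ≤ M) (hYc : Y ≤ pCoreOf q (θ c)) (hAY : A ≤ normalizer (Y : Set G))
    (hOY : ⁅pCoreOf q (θ c), zpowers b⁆ ≤ Y) (hcM : pCoreOf q M ≤ centralizer {c})
    (hMb : ∀ s : ℕ, s.Prime → ⁅pCoreOf s M, zpowers b⁆ ≤ coreSum p A θ s)
    (hYn : ∀ s : ℕ, s.Prime → Y ≤ normalizer (coreSum p A θ s : Set G)) :
    signalizerInf B θ ≤ normalizer (coreSum p A θ q : Set G) := by
  have hbA := hB.1 hb
  have hcA := hB.1 hc
  have hbad : BadFor p A θ b := by
    by_contra h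
    exact hnb (S.goodFor_of_not_bad hbA hb1 h)
  have hqp : q ≠ p := S.ne_of_ne_bot S.coreSum_mem S.isPGroup_coreSum hD
  have hbp := S.elemAb.2 b hbA
  set O := pCoreOf q (θ c) with hO
  have hOm : O ∈ signalizerFamily p A θ := pCoreOf_mem (theta_mem S.functor hcA hc1) q
  have hOq : IsPGroup q O := LocalEven.isPGroup_pCoreOf q _
  have hYm : Y ∈ signalizerFamily p A θ := mem_of_le hOm hYc hAY
  have hYq : IsPGroup q Y := hOq.to_le hYc
  set Y1 := ⁅Y, zpowers b⁆ with hY1
  have hY1Y : Y1 ≤ Y := Solvable.commutator_le_of_le_normalizer (zpowers_le.2 (hAY hbA))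
  have hY1idem : ⁅Y1, zpowers b⁆ = Y1 := commutator_idem (hAY hbA) (coprime_of_pow_eq_one hbp hYm.2.1)
  -- `Y1` centralises the other cores of `M`
  have hother : ∀ s : ℕ, s.Prime → s ≠ q → pCoreOf s M ≤ centralizer (Y1 : Set G) := by
    intro s hs hsq
    haveI := Fact.mk hs
    set O' := pCoreOf s M with hO'
    have hO'm := pCoreOf_mem hM s
    have hbO' : b ∈ normalizer (O' : Set G) := le_normalizer_of_mem hO'm hbA
    set L₀ := ⁅O', zpowers b⁆ with hL₀
    have hL₀O : L₀ ≤ O' := Solvable.commutator_le_of_le_normalizer (zpowers_le.2 hbO')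
    have hY1L : Y1 ≤ centralizer (L₀ : Set G) := by
      by_cases hg : GoodFor p A θ s b
      · have h0 : L₀ = ⊥ := by
          rw [hL₀, ← commutator_idem hbO' (coprime_of_pow_eq_one hbp hO'm.2.1), ← le_bot_iff]
          refine (commutator_mono (hMb s hs) le_rfl).trans (le_of_eq ?_)
          exact commutator_zpowers_eq_bot_iff.2 (S.coreSum_le_centralizer_of_bad hs hbad hg)
        rw [h0]
        exact le_centralizer_iff.1 bot_le
      · by_cases hD0 : coreSum p A θ s = ⊥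
        · have h0 : L₀ = ⊥ := le_bot_iff.1 (hD0 ▸ hMb s hs)
          rw [h0]
          exact le_centralizer_iff.1 bot_le
        refine le_trans ?_ (centralizer_le (hMb s hs))
        exact commutator_le_centralizer_of_fixed hqp hbp (hAY hbA) hYq (hYn s hs) (S.le_normalizer_coreSum hbA)
          S.isPGroup_coreSum (S.ne_of_ne_bot S.coreSum_mem S.isPGroup_coreSum hD0) hsq
          ((S.coreSum_inf_centralizer_eq_bot hbA hb1 hg).trans_le bot_le) (Or.inl hq2)
    rw [le_centralizer_iff, ← hY1idem]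
    refine commutator_zpowers_le (Solvable.normalizer_le_normalizer_centralizer _ hbO') fun y hy =>
      mem_centralizer_iff.2 fun l hl => ?_
    refine (commute_commutator_of_moved (L₀ := L₀) (s := s)
      (Solvable.le_normalizer_commutator_right (zpowers_le.2 hbO') (mem_zpowers b))
      (fun m hm => (mem_centralizer_iff.1 (hY1L hy) m hm).symm) ?_ ?_
      ((LocalEven.isPGroup_pCoreOf s M).to_le hL₀O) ?_).symm.eq
    · rw [← commutatorElement_inv]
      exact inv_mem (commutator_mem_commutator hl (inv_mem (mem_zpowers b)))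
    · rw [← commutatorElement_inv]
      exact inv_mem (commutator_mem ((mem_normalizer_iff''.1
        (LocalEven.le_normalizer_pCoreOf s M (hYM (hY1Y hy))) _).1 hl))
    · have hm : ⁅y, b⁆ ∈ Y := mul_commutator_mem (hY1Y hy) (hAY hbA)
      obtain ⟨k, hk⟩ := IsPGroup.iff_orderOf.1 hYq ⟨_, hm⟩
      rw [Subgroup.orderOf_mk] at hk
      rw [hk]
      exact ((Nat.coprime_primes hq.out hs).2 hsq.symm).pow_left k
  -- so it lies in `O_q(M)`
  set R := pCoreOf q M with hR
  have hY1R : Y1 ≤ R := by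
    refine le_pCoreOf_of_commKer hM.1 (hY1Y.trans hYM) (hYq.to_le hY1Y) fun s hs hsq => ?_
    haveI := Fact.mk hs
    set L := layerOf q s M with hL
    have hcL : c ∈ normalizer (L : Set G) := normalizer_le_normalizer_layerOf q s M (le_normalizer_of_mem hM hcA)
    have hLM : L ≤ M := layerOf_le q s M
    refine le_trans (Solvable.commutator_sup_centralizer (K := L) (zpowers_le.2 hcL)
      (coprime_zpowers (coprime_of_pow_eq_one (S.elemAb.2 c hcA) (not_dvd_of_le hM hLM)))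
      (Or.inl (isSolvable_zpowers c))).ge (sup_le ?_ ?_)
    · have hle : ⁅L, zpowers c⁆ ≤ R ⊔ pCoreOf s M := by
        refine le_trans ?_ (layerOf_inf_centralizer_le M)
        refine le_inf (Solvable.commutator_le_of_le_normalizer (zpowers_le.2 hcL)) ?_
        refine commutator_zpowers_le (Solvable.normalizer_le_normalizer_centralizer _
          (normalizer_le_normalizer_pCoreOf q M (le_normalizer_of_mem hM hcA))) fun l hl => ?_
        refine commutator_mem_centralizer (mem_centralizer_iff.2 fun r hr => ?_)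
          (LocalEven.le_normalizer_pCoreOf q M (hLM hl))
        exact mem_centralizer_singleton_iff.1 (hcM hr)
      refine hle.trans (sup_le (fun r hr => ⟨LocalEven.pCoreOf_le q M hr, fun y hy => ?_⟩)
        fun l hl => ⟨LocalEven.pCoreOf_le s M hl, fun y hy => ?_⟩)
      · exact mul_commutator_mem hr (LocalEven.le_normalizer_pCoreOf q M (hYM (hY1Y hy)))
      · rw [commutatorElement_eq_one_iff_mul_comm.2 (mem_centralizer_iff.1 (hother s hs hsq hl) y hy).symm]
        exact one_mem _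
    · rintro l ⟨hl, hlc⟩
      rw [← centralizer_singleton_eq_zpowers] at hlc
      refine ⟨hLM hl, fun y hy => commutator_mem_pCoreOf hsq hOq hl (hYM (hY1Y hy)) ?_ (hYc (hY1Y hy))⟩
      exact LocalEven.le_normalizer_pCoreOf q _ (hM.2.2.2 c hcA hc1 ⟨hLM hl, hlc⟩)
  set D := coreSum p A θ q with hDdef
  have hY1D : Y1 ≤ D := by
    rw [← hY1idem]
    exact (commutator_mono hY1R le_rfl).trans (hMb q hq.out)
  have hbO : b ∈ normalizer (O : Set G) := le_normalizer_of_mem hOm hbA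
  have hOD : ⁅O, zpowers b⁆ ≤ D := by
    rw [← commutator_idem hbO (coprime_of_pow_eq_one hbp hOm.2.1)]
    exact (commutator_mono hOY le_rfl).trans hY1D
  have hDO : D ≤ O := (le_inf le_rfl hDc).trans (S.coreSum_inf_centralizer_le hcA hc1)
  have hDb : D = ⁅D, zpowers b⁆ := by
    have h1 := Solvable.commutator_sup_centralizer (K := D) (zpowers_le.2 (S.le_normalizer_coreSum hbA))
      (coprime_zpowers (coprime_of_pow_eq_one hbp S.coreSum_mem.2.1)) (Or.inl (isSolvable_zpowers b))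
    rw [← centralizer_singleton_eq_zpowers, S.coreSum_inf_centralizer_eq_bot hbA hb1 hnb, sup_bot_eq] at h1
    exact h1.symm
  rw [le_antisymm (hDb.le.trans (commutator_mono hDO le_rfl)) hOD]
  intro x hx
  refine mem_normalizer_commutator_zpowers
    (LocalEven.le_normalizer_pCoreOf q _ (signalizerInf_le hc hc1 hx)) ?_
  rw [← mem_centralizer_iff.1 (signalizerInf_le_centralizer S.functor hB.1 hx) b hb, mul_inv_cancel_right]

/-- No centre of a maximal `2`-member is fixed point free under `A`. -/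
theorem false_of_no_fixed [Fact (Nat.Prime 2)] {Q : Subgroup G} (hQ : IsMaxMember p A θ 2 Q) (hQne : Q ≠ ⊥)
    {b₁ : G} (hb₁ : b₁ ∈ A) (hb₁1 : b₁ ≠ 1) (hbad₁ : BadFor p A θ b₁)
    (hfix : (center Q).map Q.subtype ⊓ centralizer (A : Set G) = ⊥) : False := by
  set Z := (center Q).map Q.subtype with hZ
  have hZne : Z ≠ ⊥ := by
    haveI : Nontrivial Q := (nontrivial_iff_ne_bot Q).2 hQne
    haveI := hQ.2.1.center_nontrivial
    intro h
    rw [hZ, map_eq_bot_iff_of_injective _ Q.subtype_injective] at h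
    exact (nontrivial_iff_ne_bot (center Q)).1 inferInstance h
  set C := A ⊓ centralizer (Z : Set G) with hC
  have hbadC : ∀ b ∈ A, b ≠ 1 → BadFor p A θ b → b ∈ C := fun b hb hb1 h =>
    ⟨hb, mem_centralizer_iff.2 fun z hz =>
      mem_centralizer_singleton_iff.1 (S.center_le_centralizer_of_bad hQ hb hb1 h hz)⟩
  -- a plane containing all the bad elements
  obtain ⟨B₀, hB₀, hCB⟩ : ∃ B₀, IsPlane p A B₀ ∧ C ≤ B₀ := by
    have hne : C ≠ A := fun h => hZne (le_bot_iff.1 (hfix ▸ le_inf le_rfl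
      (le_centralizer_iff.1 (h ▸ inf_le_right : A ≤ centralizer (Z : Set G)))))
    obtain ⟨i, hi, hci⟩ := (Nat.dvd_prime_pow hp.out).1 (S.card_eq ▸ card_dvd_of_le (inf_le_left : C ≤ A))
    have hi3 : i ≠ 3 := fun h => hne (eq_of_le_of_card_ge inf_le_left (by rw [hci, h, S.card_eq]))
    by_cases hi2 : i = 2
    · exact ⟨C, ⟨inf_le_left, hci.trans (by rw [hi2])⟩, le_rfl⟩
    · obtain ⟨P, hP, hbP, -⟩ := exists_plane_le S.elemAb le_rfl
        ((Nat.pow_le_pow_right hp.out.pos (by norm_num)).trans S.hA3) hb₁ hb₁1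
      refine ⟨P, hP, le_trans (eq_of_le_of_card_ge (zpowers_le.2 (hbadC b₁ hb₁ hb₁1 hbad₁)) ?_).ge
        (zpowers_le.2 hbP)⟩
      rw [hci, card_zpowers_eq S.elemAb hb₁ hb₁1]
      exact (Nat.pow_le_pow_right hp.out.pos (by omega : i ≤ 1)).trans_eq (pow_one p)
  have hbadB : ∀ g ∈ A, g ∉ B₀ → ¬ BadFor p A θ g := fun g hg hgB h =>
    hgB (hCB (hbadC g hg (fun e => hgB (e ▸ one_mem _)) h))
  obtain ⟨a, ha, haB⟩ : ∃ a ∈ A, a ∉ B₀ := by
    by_contra hc
    push Not at hc
    have h1 := card_le_of_le (show A ≤ B₀ from hc)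
    rw [S.card_eq, hB₀.2, Nat.pow_le_pow_iff_right hp.out.one_lt] at h1
    omega
  obtain ⟨q, hq, hq2, hD⟩ := S.exists_odd_ne_bot ha (fun e => haB (e ▸ one_mem _)) (hbadB a ha haB)
  haveI := Fact.mk hq
  have hgoodout : ∀ (s : ℕ), s.Prime → ∀ g ∈ A, g ∉ B₀ → GoodFor p A θ s g := fun s hs g hg hgB =>
    haveI := Fact.mk hs
    S.goodFor_of_not_bad hg (fun e => hgB (e ▸ one_mem _)) (hbadB g hg hgB)
  have hplanes : ∀ (s : ℕ), s.Prime → ∀ P, IsPlane p A P → P ≠ B₀ →
      signalizerInf P θ ≤ normalizer (coreSum p A θ s : Set G) := by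
    intro s hs P hP hPB
    haveI := Fact.mk hs
    by_cases hs2 : s = 2
    · subst hs2
      exact S.plane_normalizes_of_all_good hP fun b hb hb1 => S.goodFor_two (hP.1 hb) hb1
    obtain ⟨g, hg, hgB⟩ : ∃ g ∈ P, g ∉ B₀ := by
      by_contra hc
      push Not at hc
      exact hPB (eq_of_le_of_card_ge (show P ≤ B₀ from hc) (by rw [hP.2, hB₀.2]))
    obtain ⟨b₀, hb₀, hb₀1⟩ := IsPlane.exists_mem_inter S.elemAb S.card_eq hP hB₀
    have hg1 : g ≠ 1 := fun e => hgB (e ▸ one_mem _)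
    refine S.plane_normalizes_of_two_good hs2 hP hg hg1 (mul_mem hg hb₀.1) (fun hc => hgB ?_)
      (hgoodout s hs g (hP.1 hg) hgB) (hgoodout s hs _ (hP.1 (mul_mem hg hb₀.1)) fun hc => hgB ?_)
    · have h1 : b₀ ∈ zpowers g := by simpa using mul_mem (inv_mem (mem_zpowers g)) hc
      exact zpowers_le.2 hb₀.2 (mem_zpowers_symm S.elemAb (hP.1 hg) hg1 hb₀1 h1)
    · simpa using mul_mem hc (inv_mem hb₀.2)
  set M := normMax p A θ (coreSum p A θ q) with hMdef
  have hM : M ∈ signalizerFamily p A θ := (S.normMax_spec S.coreSum_mem hD).1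
  have hθM : ∀ g ∈ A, g ∉ B₀ → θ g ≤ M := by
    intro g hg hgB
    have hg1 : g ≠ 1 := fun e => hgB (e ▸ one_mem _)
    refine S.le_normMax (theta_mem S.functor hg hg1) ?_
    refine le_of_planes_at S.elemAb S.card_eq (S.not_dvd_theta hg hg1) (le_normalizer_theta S.functor hg hg1)
      hg hg1 (S.theta_le_centralizer hg hg1) fun P hP hgP => ?_
    exact (inf_centralizer_le_signalizerInf hP.1 (theta_mem S.functor hg hg1)).trans
      (hplanes q hq P hP fun e => hgB (e ▸ hgP))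
  -- the commutators with elements of `B₀`
  have hclaim : ∀ b ∈ B₀, b ≠ 1 → ∀ s : ℕ, s.Prime → ⁅pCoreOf s M, zpowers b⁆ ≤ coreSum p A θ s := by
    intro b hb hb1 s hs
    haveI := Fact.mk hs
    have hbA := hB₀.1 hb
    have hOm := pCoreOf_mem hM s
    refine commutator_le_of_planes S.elemAb S.card_eq hOm.1 hOm.2.1 (le_normalizer_of_mem hOm)
      (le_normalizer_of_mem hOm hbA) (fun a ha => PGroup.elemAb_comm S.elemAb hbA ha)
      (coprime_of_pow_eq_one (S.elemAb.2 b hbA) hOm.2.1) fun P hP x hx => ?_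
    by_cases hbP : b ∈ P
    · rw [commutatorElement_eq_one_iff_mul_comm.2 (mem_centralizer_iff.1 hx.2 b hbP).symm]
      exact one_mem _
    refine corePi_le_coreSum hP (mem_corePi fun e he he1 => ?_)
    have heA := hP.1 he
    have hxe : x ∈ θ e := hOm.2.2.2 e heA he1 ⟨hx.1, centralizer_le (Set.singleton_subset_iff.2 he) hx.2⟩
    have hbe : b ∈ normalizer (θ e : Set G) := le_normalizer_theta S.functor heA he1 hbA
    by_cases heB : e ∈ B₀
    · refine commutator_le_pCoreOf_of_moved (Y := pCoreOf s M ⊓ θ e) (S.functor.2 e heA he1) hbe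
        (Solvable.le_normalizer_inf (le_normalizer_of_mem hOm) (le_normalizer_theta S.functor heA he1) hbA)
        inf_le_right ((LocalEven.isPGroup_pCoreOf s M).to_le inf_le_left) (fun r hr hrs l hl y hy => ?_)
        (commutator_mem (⟨hx.1, hxe⟩ : x ∈ pCoreOf s M ⊓ θ e))
      haveI := Fact.mk hr
      obtain ⟨g, hg, hgB⟩ : ∃ g ∈ A, g ∉ B₀ := ⟨a, ha, haB⟩
      have hP' := isPlane_sup S.elemAb hbA hg hb1 fun h => hgB (zpowers_le.2 hb h)
      set L := layerOf s r (θ e) with hL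
      have hbL : b ∈ normalizer (L : Set G) := normalizer_le_normalizer_layerOf s r _ hbe
      have hAL : A ≤ normalizer (L : Set G) :=
        (le_normalizer_theta S.functor heA he1).trans (normalizer_le_normalizer_layerOf s r _)
      have hLp : ¬ p ∣ Nat.card L :=
        fun h => S.not_dvd_theta heA he1 (h.trans (card_dvd_of_le (layerOf_le s r _)))
      have hLM : ⁅L, zpowers b⁆ ≤ L ⊓ M := by
        refine commutator_le_of_plane S.elemAb hP'
          (Solvable.isSolvable_of_le (S.functor.2 e heA he1) (layerOf_le s r _)) hLp (hP'.1.trans hAL) hbL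
          (fun c hc => PGroup.elemAb_comm S.elemAb hbA (hP'.1 hc)) (coprime_of_pow_eq_one (S.elemAb.2 b hbA) hLp)
          fun k hk hk1 w hw => ?_
        have hwk := mem_centralizer_singleton_iff.1 hw.2
        by_cases hkb : k ∈ zpowers b
        · obtain ⟨i, hi⟩ := mem_zpowers_symm S.elemAb hbA hb1 hk1 hkb
          have hbw : Commute w b := hi ▸ ((show Commute w k from hwk).zpow_right i)
          rw [commutatorElement_eq_one_iff_mul_comm.2 hbw]
          exact one_mem _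
        · have hkB : k ∉ B₀ := fun h => hgB (by
            have e1 := hP'.eq_sup S.elemAb (mem_sup_left (mem_zpowers b)) hk hb1 hkb
            have e2 : g ∈ zpowers b ⊔ zpowers k := e1 ▸ mem_sup_right (mem_zpowers g)
            exact (sup_le (zpowers_le.2 hb) (zpowers_le.2 h)) e2)
          have hwM : w ∈ M := hθM k (hP'.1 hk) hkB
            (S.mem_theta_of_commute heA he1 (hP'.1 hk) hk1 (layerOf_le s r _ hw.1) hwk)
          exact ⟨mul_commutator_mem hw.1 hbL, mul_commutator_mem hwM (le_normalizer_of_mem hM hbA)⟩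
      exact commutator_mem_pCoreOf hrs (LocalEven.isPGroup_pCoreOf s M) (hLM hl).1 hy.2
        (LocalEven.le_normalizer_pCoreOf s M (hLM hl).2) hy.1
    · exact mul_commutator_mem (pCoreOf_inf_le (hθM e heA heB) ⟨hx.1, hxe⟩)
        (normalizer_le_normalizer_pCoreOf s _ hbe)
  refine hD (S.eq_bot_of_planes S.coreSum_mem fun B hB => ?_)
  by_cases hBB : B = B₀
  swap
  · exact hplanes q hq B hB hBB
  subst hBB
  rcases S.plane_normalizes_or_thin hq2 hD hB with h | ⟨c, hc, b, hb, hc1, hb1, hnb, hDc, -⟩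
  · exact h
  have hcA := hB.1 hc
  set O := pCoreOf q (θ c) with hO
  have hOm : O ∈ signalizerFamily p A θ := pCoreOf_mem (theta_mem S.functor hcA hc1) q
  set Y := ⨆ P : {P : Subgroup G // IsPlane p A P ∧ c ∈ P ∧ P ≠ B}, O ⊓ centralizer ((P : Subgroup G) : Set G)
    with hY
  have hOθ : ∀ P, IsPlane p A P → O ⊓ centralizer (P : Set G) ≤ signalizerInf P θ := fun P hP =>
    inf_centralizer_le_signalizerInf hP.1 hOm
  have hcM : pCoreOf q M ≤ centralizer {c} :=
    le_centralizer_of_commutator_centralized (le_normalizer_of_mem (pCoreOf_mem hM q) hcA)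
      (coprime_of_pow_eq_one (S.elemAb.2 c hcA) (pCoreOf_mem hM q).2.1) ((hclaim c hc hc1 q hq).trans hDc)
  refine S.thin_normalizes hq2 hD hM hB hc hb hc1 hb1 hnb hDc (Y := Y) ?_ (iSup_le fun P => inf_le_left)
    (le_normalizer_iSup' fun P => Solvable.le_normalizer_inf (le_normalizer_of_mem hOm)
      (le_normalizer_centralizer S.elemAb P.2.1.1)) ?_ hcM (hclaim b hb hb1) ?_
  · exact iSup_le fun P => S.le_normMax (inf_centralizer_mem S.elemAb hOm P.2.1.1)
      ((hOθ P P.2.1).trans (hplanes q hq P P.2.1 P.2.2.2))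
  · refine commutator_le_of_planes S.elemAb S.card_eq hOm.1 hOm.2.1 (le_normalizer_of_mem hOm)
      (le_normalizer_of_mem hOm (hB.1 hb)) (fun a ha => PGroup.elemAb_comm S.elemAb (hB.1 hb) ha)
      (coprime_of_pow_eq_one (S.elemAb.2 b (hB.1 hb)) hOm.2.1) fun P hP x hx => ?_
    have hcomm : ∀ {K : Subgroup G}, K ≤ centralizer {x} → b ∈ K → ⁅x, b⁆ ∈ Y := fun {K} hK hbK => by
      rw [commutatorElement_eq_one_iff_mul_comm.2 (mem_centralizer_singleton_iff.1 (hK hbK)).symm]
      exact one_mem _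
    have hPx : P ≤ centralizer {x} := fun y hy =>
      mem_centralizer_singleton_iff.2 (mem_centralizer_iff.1 hx.2 y hy)
    by_cases hcP : c ∈ P
    · by_cases hPB : P = B
      · exact hcomm hPx (hPB ▸ hb)
      · refine mul_commutator_mem (le_iSup (fun P : {P : Subgroup G // IsPlane p A P ∧ c ∈ P ∧ P ≠ B} =>
          O ⊓ centralizer ((P : Subgroup G) : Set G)) ⟨P, hP, hcP, hPB⟩ hx)
          (le_normalizer_iSup' (fun P => Solvable.le_normalizer_inf (le_normalizer_of_mem hOm)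
            (le_normalizer_centralizer S.elemAb P.2.1.1)) (hB.1 hb))
    · refine hcomm (K := P ⊔ zpowers c) (sup_le hPx (zpowers_le.2 (mem_centralizer_singleton_iff.2
        (mem_centralizer_singleton_iff.1 (S.theta_le_centralizer hcA hc1
          (LocalEven.pCoreOf_le q _ hx.1))).symm))) ?_
      have hsub : P ⊔ zpowers c ≤ A := sup_le hP.1 (zpowers_le.2 hcA)
      obtain ⟨i, hi, hci⟩ := (Nat.dvd_prime_pow hp.out).1 (S.card_eq ▸ card_dvd_of_le hsub)
      have hi3 : i = 3 := by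
        by_contra hne
        have hle := eq_of_le_of_card_ge (le_sup_left : P ≤ P ⊔ zpowers c)
          (by rw [hci, hP.2]; exact Nat.pow_le_pow_right hp.out.pos (by omega))
        exact hcP (hle ▸ mem_sup_right (mem_zpowers c))
      rw [eq_of_le_of_card_ge hsub (by rw [hci, hi3, S.card_eq])]
      exact hB.1 hb
  · exact fun s hs => iSup_le fun P => (hOθ P P.2.1).trans (hplanes s hs P P.2.1 P.2.2.2)

/-- No centre of a maximal `2`-member has a fixed point of `A`. -/
theorem false_of_fixed [Fact (Nat.Prime 2)] {Q : Subgroup G} (hQ : IsMaxMember p A θ 2 Q)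
    (hfix : (center Q).map Q.subtype ⊓ centralizer (A : Set G) ≠ ⊥) : False := by
  set Z := (center Q).map Q.subtype with hZdef
  have hZm : Z ∈ signalizerFamily p A θ := map_char_mem hQ.1 _
  obtain ⟨z, hz, hz1⟩ := (Z ⊓ centralizer (A : Set G)).bot_or_exists_ne_one.resolve_left hfix
  have hZQ : Z ≤ Q := map_subtype_le _
  have hZc : Z ≤ centralizer (Q : Set G) := by
    rintro _ ⟨w, hw, rfl⟩
    exact mem_centralizer_iff.2 fun y hy => congrArg Subtype.val (mem_center_iff.1 hw ⟨y, hy⟩)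
  have hzQ : z ∈ Q := hZQ hz.1
  have hzA : ∀ a ∈ A, Commute z a := fun a ha => (mem_centralizer_iff.1 hz.2 a ha).symm
  have hzθ : ∀ e ∈ A, e ≠ 1 → z ∈ θ e := fun e he he1 =>
    hQ.1.2.2.2 e he he1 ⟨hzQ, mem_centralizer_singleton_iff.2 (hzA e he).eq⟩
  have hdvd : ∃ a ∈ A, a ≠ 1 ∧ 2 ∣ Nat.card (θ a) :=
    S.exists_dvd_theta hQ.1 hQ.2.1 fun h => hz1 (mem_bot.1 (h ▸ hzQ))
  obtain ⟨W, hW, hWodd, hWT, hWle⟩ := S.exists_qPrime_member 2 hdvd
  set Oe : G → Subgroup G := fun e => (pPrimeCore 2 ↥(θ e)).map (θ e).subtype with hOe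
  have hzT : z ∈ signalizerInf A θ := mem_signalizerInf_iff.2 fun e he he1 => hzθ e he he1
  have hzW : z ∈ normalizer (W : Set G) := hWT hzT
  have hzord : ∃ k, orderOf z = 2 ^ k := by
    obtain ⟨k, hk⟩ := IsPGroup.iff_orderOf.1 hQ.2.1 ⟨z, hzQ⟩
    exact ⟨k, by rwa [Subgroup.orderOf_mk] at hk⟩
  have hcopW : ∀ {X : Subgroup G}, X ≤ W → (orderOf z).Coprime (Nat.card X) := by
    intro X hX
    obtain ⟨k, hk⟩ := hzord
    rw [hk]
    exact (((Nat.prime_two.coprime_iff_not_dvd).2 fun h => hWodd (h.trans (card_dvd_of_le hX)))).pow_left k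
  have hzQ2 : IsPGroup 2 (zpowers z) := hQ.2.1.to_le (zpowers_le.2 hzQ)
  have hcore2 : ∀ e ∈ A, e ≠ 1 → pCoreOf 2 (θ e) ≤ Q := fun e he he1 =>
    S.le_maxMember (pCoreOf_mem (theta_mem S.functor he he1) 2) (LocalEven.isPGroup_pCoreOf 2 _)
      ((S.signalizerInf_self_le he he1).trans (LocalEven.le_normalizer_pCoreOf 2 _)) hQ
  have hsylow : ∀ e ∈ A, e ≠ 1 → ∃ T : Sylow 2 ↥(θ e),
      (T : Subgroup ↥(θ e)).map (θ e).subtype ≤ Q ⊓ centralizer {e} := by
    intro e he he1
    obtain ⟨T, hT⟩ := exists_sylow_centralizer S.functor S.elemAb S.hA3 hdvd hQ (zpowers_le.2 he)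
      (by simpa using he1)
    revert T
    rw [S.signalizerInf_zpowers he he1, ← centralizer_singleton_eq_zpowers]
    exact fun T hT => ⟨T, hT.le⟩
  -- commutators of fixed points of `W` with `z` are in the odd cores
  have hWz : ∀ e ∈ A, e ≠ 1 → ⁅W ⊓ θ e, zpowers z⁆ ≤ ⁅Oe e, zpowers z⁆ := by
    intro e he he1
    have hzn : z ∈ normalizer ((W ⊓ θ e : Subgroup G) : Set G) :=
      Solvable.le_normalizer_inf (zpowers_le.2 hzW) ((zpowers_le.2 (hzθ e he he1)).trans le_normalizer)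
        (mem_zpowers z)
    rw [← commutator_idem hzn (hcopW inf_le_left)]
    refine commutator_mono ?_ le_rfl
    obtain ⟨T, hT⟩ := hsylow e he he1
    haveI := Cores.pPrimeCore_characteristic (G := ↥(θ e)) 2
    haveI := S.functor.2 e he he1
    set π := QuotientGroup.mk' (pPrimeCore 2 ↥(θ e)) with hπ
    haveI : Group.IsSolvable (↥(θ e) ⧸ pPrimeCore 2 ↥(θ e)) :=
      Group.isSolvable_of_surjective (f := π) (QuotientGroup.mk'_surjective _)
    have hzc : π ⟨z, hzθ e he he1⟩ ∈ pCore 2 (↥(θ e) ⧸ pPrimeCore 2 ↥(θ e)) := by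
      refine Solvable.centralizer_pCore_le 2 (Cores.pPrimeCore_quotient_self 2) (mem_centralizer_iff.2 ?_)
      intro t ht
      have h1 := Cores.pCore_le_sylow (T.mapSurjective (QuotientGroup.mk'_surjective (pPrimeCore 2 ↥(θ e))))
      rw [Sylow.coe_mapSurjective] at h1
      obtain ⟨u, hu, rfl⟩ := h1 ht
      rw [← map_mul, ← map_mul]
      exact congrArg π (Subtype.ext (mem_centralizer_iff.1 (hZc hz.1) (u : G) (hT ⟨u, hu, rfl⟩).1))
    refine commutator_zpowers_le ((le_normalizer.trans (normalizer_le_normalizer_map_char _)) (hzθ e he he1))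
      fun w hw => ?_
    have hwz : ⁅w, z⁆ ∈ W := mul_commutator_mem hw.1 hzW
    refine ⟨⁅(⟨w, hw.2⟩ : θ e), ⟨z, hzθ e he he1⟩⁆, (QuotientGroup.eq_one_iff _).1 ?_, rfl⟩
    show π ⁅(⟨w, hw.2⟩ : θ e), ⟨z, hzθ e he he1⟩⁆ = 1
    obtain ⟨n, hn⟩ := Cores.card_pCore_eq_pow (G := ↥(θ e) ⧸ pPrimeCore 2 ↥(θ e)) 2
    have hmem : π ⁅(⟨w, hw.2⟩ : θ e), ⟨z, hzθ e he he1⟩⁆ ∈ pCore 2 (↥(θ e) ⧸ pPrimeCore 2 ↥(θ e)) := by
      haveI := Cores.pCore_characteristic (G := ↥(θ e) ⧸ pPrimeCore 2 ↥(θ e)) 2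
      rw [map_commutatorElement, commutatorElement_def]
      exact mul_mem ((inferInstance : (pCore 2 (↥(θ e) ⧸ pPrimeCore 2 ↥(θ e))).Normal).conj_mem _ hzc _)
        (inv_mem hzc)
    rw [← orderOf_eq_one_iff]
    refine Nat.eq_one_of_dvd_coprimes ((((Nat.prime_two.coprime_iff_not_dvd).2 hWodd).pow_left n).symm) ?_
      (hn ▸ Subgroup.orderOf_dvd_natCard _ hmem)
    refine (orderOf_map_dvd _ _).trans ?_
    rw [← Subgroup.orderOf_coe]
    exact Subgroup.orderOf_dvd_natCard W hwz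
  set J := ⁅W, zpowers z⁆ with hJ
  have hJm : J ∈ signalizerFamily p A θ := commutator_mem_family hW hzW hzA
  obtain ⟨P₀, hP₀, -⟩ := exists_plane_le' S.elemAb le_rfl
    ((Nat.pow_le_pow_right hp.out.pos (by norm_num)).trans S.hA3)
  have hcent : ∀ {e z' : G}, e ∈ A → e ≠ 1 → z' ∈ Z → z' ∈ θ e →
      (∀ t : ℕ, t.Prime → t ≠ 2 → pCoreOf t (θ e) ≤ centralizer {z'}) → z' ∈ pCoreOf 2 (θ e) := by
    intro e z' he he1 hz' hz'θ h
    refine le_pCoreOf_of_centralizes_cores (S.functor.2 e he he1) (zpowers_le.2 hz'θ)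
      (hQ.2.1.to_le (zpowers_le.2 (hZQ hz'))) (fun t ht => ?_) (mem_zpowers z')
    rw [← centralizer_singleton_eq_zpowers]
    by_cases ht2 : t = 2
    · subst ht2
      exact fun y hy => mem_centralizer_singleton_iff.2
        (mem_centralizer_iff.1 (hZc hz') y (hcore2 e he he1 hy))
    · exact h t ht ht2
  have hoddW : ∀ {e : G}, e ∈ A → e ≠ 1 → ∀ t : ℕ, t.Prime → t ≠ 2 → pCoreOf t (θ e) ≤ W :=
    fun {e} he he1 t ht ht2 => haveI := Fact.mk ht; (pCoreOf_le_oddCoreMap ht2 _).trans (hWle e he he1)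
  have hnotin : ∀ {z' : G}, z' ≠ 1 → ∀ P, IsPlane p A P → (∀ e ∈ P, e ≠ 1 → z' ∈ pCoreOf 2 (θ e)) → False :=
    fun hz'1 P hP h => hz'1 (mem_bot.1 (S.coreSum_two_eq_bot ▸ corePi_le_coreSum hP (mem_corePi h)))
  have hJne : J ≠ ⊥ := by
    intro h
    have hWc : W ≤ centralizer {z} := commutator_zpowers_eq_bot_iff.1 h
    exact hnotin hz1 P₀ hP₀ fun e he he1 => hcent (hP₀.1 he) he1 hz.1 (hzθ e (hP₀.1 he) he1)
      fun t ht ht2 => (hoddW (hP₀.1 he) he1 t ht ht2).trans hWc
  have hJeq : ∀ P, IsPlane p A P → J = ⨆ e : {e : G // e ∈ P ∧ e ≠ 1}, ⁅Oe (e : G), zpowers z⁆ := by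
    intro P hP
    refine le_antisymm ?_ (iSup_le fun e => commutator_mono (hWle e (hP.1 e.2.1) e.2.2) le_rfl)
    refine commutator_le_of_plane S.elemAb hP hW.1 hW.2.1 (hP.1.trans (le_normalizer_of_mem hW)) hzW
      (fun b hb => hzA b (hP.1 hb)) (hcopW le_rfl) fun e he he1 w hw => ?_
    refine le_iSup (fun e : {e : G // e ∈ P ∧ e ≠ 1} => ⁅Oe (e : G), zpowers z⁆) ⟨e, he, he1⟩ ?_
    exact hWz e (hP.1 he) he1 (commutator_mem ⟨hw.1, hW.2.2.2 e (hP.1 he) he1 hw⟩)
  have hQJ : Q ≤ normalizer (J : Set G) := by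
    refine le_of_planes S.elemAb S.card_eq hQ.1.2.1 (le_normalizer_of_mem hQ.1) fun P hP => ?_
    rw [hJeq P hP]
    refine le_normalizer_iSup' fun e x hx => ?_
    haveI := Cores.pPrimeCore_characteristic (G := ↥(θ (e : G))) 2
    refine mem_normalizer_commutator_zpowers ((le_normalizer.trans (normalizer_le_normalizer_map_char _))
      (hQ.1.2.2.2 e (hP.1 e.2.1) e.2.2 ⟨hx.1, centralizer_le (Set.singleton_subset_iff.2 e.2.1) hx.2⟩)) ?_
    rw [mem_centralizer_iff.1 (hZc hz.1) x hx.1, mul_inv_cancel_right]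
  obtain ⟨M, hM, hle, hmax⟩ := exists_maximal_member (S.normMax_spec hJm hJne).1
  have hWM : W ≤ M := (S.le_normMax hW (Solvable.le_normalizer_commutator_left _ _)).trans hle
  have hQM : Q ≤ M := (S.le_normMax hQ.1 hQJ).trans hle
  -- `O_2(M)` is trivial
  have hM2 : pCoreOf 2 M = ⊥ := by
    by_contra hne
    set V₀ := pCoreOf 2 M with hV₀
    have hV₀m := pCoreOf_mem hM 2
    have hQn : Q ≤ normalizer (V₀ : Set G) := hQM.trans (LocalEven.le_normalizer_pCoreOf 2 M)
    have hV₀Q : V₀ ≤ Q := le_sup_left.trans_eq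
      (hQ.2.2 (V₀ ⊔ Q) (sup_mem S.functor S.elemAb hV₀m hQ.1 hQn)
        (IsPGroup.to_sup_of_normal_left' (LocalEven.isPGroup_pCoreOf 2 M) hQ.2.1 hQn) le_sup_right)
    haveI : (V₀.subgroupOf Q).Normal := Subgroup.normal_subgroupOf_of_le_normalizer hQn
    have hVne : Z ⊓ V₀ ≠ ⊥ := by
      intro h
      refine PGroup.inf_center_ne_bot hQ.2.1 (V₀.subgroupOf Q) ?_ ((eq_bot_iff_forall _).2 fun x hx => ?_)
      · rw [Ne, subgroupOf_eq_bot, disjoint_iff, inf_eq_left.2 hV₀Q]; exact hne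
      · exact Subtype.ext (mem_bot.1 (h ▸ (⟨⟨x, hx.2, rfl⟩, hx.1⟩ : (x : G) ∈ Z ⊓ V₀)))
    refine hVne (le_bot_iff.1 (le_of_planes S.elemAb S.card_eq (not_dvd_of_le hV₀m inf_le_right)
      (Solvable.le_normalizer_inf (le_normalizer_of_mem hZm) (le_normalizer_of_mem hV₀m)) fun P hP z' hz' => ?_))
    by_contra hz'1
    refine hnotin (z' := z') (fun h => hz'1 (mem_bot.2 h)) P hP fun e he he1 => ?_
    have heA := hP.1 he
    have hz'θ : z' ∈ θ e :=
      hV₀m.2.2.2 e heA he1 ⟨hz'.1.2, centralizer_le (Set.singleton_subset_iff.2 he) hz'.2⟩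
    refine hcent heA he1 hz'.1.1 hz'θ fun t ht ht2 w hw => mem_centralizer_singleton_iff.2 ?_
    haveI := Fact.mk ht
    refine commutatorElement_eq_one_iff_mul_comm.1 (eq_one_of_isPGroup ht2 (LocalEven.isPGroup_pCoreOf t (θ e))
      (LocalEven.isPGroup_pCoreOf 2 M) (mul_commutator_mem hw (LocalEven.le_normalizer_pCoreOf t _ hz'θ)) ?_)
    rw [commutatorElement_def]
    exact mul_mem ((mem_normalizer_iff.1 (LocalEven.le_normalizer_pCoreOf 2 M
      (hWM (hoddW heA he1 t ht ht2 hw))) _).1 hz'.1.2) (inv_mem hz'.1.2)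
  -- the odd cores of `M` are the `coreSum`
  have hMD : ∀ t : ℕ, t.Prime → t ≠ 2 → pCoreOf t M ≤ coreSum p A θ t := by
    intro t ht ht2
    haveI := Fact.mk ht
    have hOm := pCoreOf_mem hM t
    refine le_of_planes S.elemAb S.card_eq hOm.2.1 (le_normalizer_of_mem hOm) fun P hP x hx =>
      corePi_le_coreSum hP (mem_corePi fun e he he1 => ?_)
    have heA := hP.1 he
    have hxe : x ∈ θ e := hOm.2.2.2 e heA he1 ⟨hx.1, centralizer_le (Set.singleton_subset_iff.2 he) hx.2⟩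
    refine le_pCoreOf_of_commKer (Y := pCoreOf t M ⊓ θ e) (S.functor.2 e heA he1) inf_le_right
      ((LocalEven.isPGroup_pCoreOf t M).to_le inf_le_left) (fun r hr hrt => ?_) ⟨hx.1, hxe⟩
    haveI := Fact.mk hr
    set L := layerOf t r (θ e) with hL
    have hLker : ∀ l ∈ L, l ∈ M → l ∈ commKer t (θ e) (pCoreOf t M ⊓ θ e) := fun l hl hlM =>
      ⟨layerOf_le t r _ hl, fun y hy => commutator_mem_pCoreOf hrt (LocalEven.isPGroup_pCoreOf t M) hl hy.2
        (LocalEven.le_normalizer_pCoreOf t M hlM) hy.1⟩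
    by_cases hr2 : r = 2
    · subst hr2
      obtain ⟨T, hT⟩ := hsylow e heA he1
      intro l hl
      have hm := mk'_mem_pCore_of_mem_layerOf hl
      have h1 := Cores.pCore_le_sylow (T.mapSurjective (QuotientGroup.mk'_surjective (pCore t ↥(θ e))))
      rw [Sylow.coe_mapSurjective] at h1
      obtain ⟨u, hu, hul⟩ := h1 hm
      have hρ : l * (u : G)⁻¹ ∈ pCoreOf t (θ e) := by
        refine ⟨⟨l, layerOf_le t 2 _ hl⟩ * u⁻¹, (QuotientGroup.eq_one_iff _).1 ?_, rfl⟩
        show QuotientGroup.mk' (pCore t ↥(θ e)) _ = 1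
        rw [map_mul, map_inv, hul, mul_inv_cancel]
      have huL : (u : G) ∈ L := by
        have h2 := mul_mem (inv_mem (pCoreOf_le_layerOf t 2 _ hρ)) hl
        simpa [mul_assoc] using h2
      rw [show l = (l * (u : G)⁻¹) * u by rw [inv_mul_cancel_right]]
      refine mul_mem ?_ (hLker u huL (hQM (hT ⟨u, hu, rfl⟩).1))
      exact ⟨LocalEven.pCoreOf_le t _ hρ,
        fun y hy => mul_commutator_mem hρ (LocalEven.le_normalizer_pCoreOf t _ hy.2)⟩
    · have hLW : L ≤ W := by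
        refine le_trans (le_oddCoreMap (layerOf_le t r _)
          (le_normalizer.trans (normalizer_le_normalizer_layerOf t r _)) fun hd => ?_) (hWle e heA he1)
        obtain ⟨⟨l, hl⟩, hlo⟩ := exists_prime_orderOf_dvd_card' 2 hd
        rw [Subgroup.orderOf_mk] at hlo
        have h3 : l ∈ pCoreOf t (θ e) := by
          refine ⟨⟨l, layerOf_le t r _ hl⟩, (QuotientGroup.eq_one_iff _).1 ?_, rfl⟩
          show QuotientGroup.mk' (pCore t ↥(θ e)) _ = 1
          obtain ⟨n, hn⟩ := Cores.card_pCore_eq_pow (G := ↥(θ e) ⧸ pCore t ↥(θ e)) r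
          rw [← orderOf_eq_one_iff]
          refine Nat.eq_one_of_dvd_coprimes (((Nat.coprime_primes Nat.prime_two hr).2 (Ne.symm hr2)).pow_right n)
            ((orderOf_map_dvd _ _).trans (by rw [Subgroup.orderOf_mk, hlo]))
            (hn ▸ Subgroup.orderOf_dvd_natCard _ (mk'_mem_pCore_of_mem_layerOf hl))
        obtain ⟨k, hk⟩ := IsPGroup.iff_orderOf.1 (LocalEven.isPGroup_pCoreOf t (θ e)) ⟨l, h3⟩
        rw [Subgroup.orderOf_mk, hlo] at hk
        exact ht2 ((Nat.prime_dvd_prime_iff_eq Nat.prime_two ht).1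
          (Nat.prime_two.dvd_of_dvd_pow hk.dvd)).symm
      exact fun l hl => hLker l hl (hWM (hLW hl))
  have hDM : ∀ t : ℕ, t.Prime → t ≠ 2 → coreSum p A θ t ≤ pCoreOf t M := fun t ht ht2 => by
    haveI := Fact.mk ht
    refine S.coreSum_le_pCoreOf hM (iSup_le fun P => ?_)
    obtain ⟨e, he, he1⟩ := P.2.exists_ne
    exact ((corePi_le he he1).trans (hoddW (P.2.1 he) he1 t ht ht2)).trans hWM
  obtain ⟨e₀, he₀, he₀1⟩ := hP₀.exists_ne
  obtain ⟨q, hq, hmv⟩ := S.exists_moved hM hmax (hP₀.1 he₀) he₀1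
  haveI := Fact.mk hq
  have hq2 : q ≠ 2 := by
    rintro rfl
    exact hmv (hM2.le.trans bot_le)
  have hD : coreSum p A θ q ≠ ⊥ := fun h => hmv ((hMD q hq hq2).trans (h ▸ bot_le))
  refine hD (S.eq_bot_of_planes S.coreSum_mem fun B hB => ?_)
  rcases S.plane_normalizes_or_thin hq2 hD hB with h | ⟨c, hc, b, hb, hc1, hb1, hnb, hDc, -⟩
  · exact h
  have hOm := pCoreOf_mem (theta_mem S.functor (hB.1 hc) hc1) q
  refine S.thin_normalizes hq2 hD hM hB hc hb hc1 hb1 hnb hDc (Y := pCoreOf q (θ c))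
    ((hoddW (hB.1 hc) hc1 q hq hq2).trans hWM) le_rfl (le_normalizer_of_mem hOm)
    (Solvable.commutator_le_of_le_normalizer (zpowers_le.2 (le_normalizer_of_mem hOm (hB.1 hb))))
    ((hMD q hq hq2).trans hDc) (fun s hs => ?_) (fun s hs => ?_)
  · haveI := Fact.mk hs
    refine (Solvable.commutator_le_of_le_normalizer
      (zpowers_le.2 (le_normalizer_of_mem (pCoreOf_mem hM s) (hB.1 hb)))).trans ?_
    by_cases hs2 : s = 2
    · subst hs2
      rw [hM2]; exact bot_le
    · exact hMD s hs hs2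
  · haveI := Fact.mk hs
    by_cases hs2 : s = 2
    · subst hs2
      rw [S.coreSum_two_eq_bot]
      exact le_top.trans (normalizer_eq_top_iff.2 inferInstance).ge
    · rw [le_antisymm (hDM s hs hs2) (hMD s hs hs2)]
      exact ((hoddW (hB.1 hc) hc1 q hq hq2).trans hWM).trans (LocalEven.le_normalizer_pCoreOf s M)

/-- There is no minimal counterexample. -/
theorem elim : False := by
  haveI : Fact (Nat.Prime 2) := ⟨Nat.prime_two⟩
  obtain ⟨a, ha, ha1, -⟩ := S.exists_theta_ne_bot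
  by_cases hbad : ∃ b ∈ A, b ≠ 1 ∧ BadFor p A θ b
  · obtain ⟨b, hb, hb1, hbad⟩ := hbad
    obtain ⟨U, hU, hbU, hmax⟩ := exists_maximal_member (theta_mem S.functor hb hb1)
    obtain ⟨t, ht, hmv⟩ := S.exists_moved hU hmax hb hb1
    have ht2 : t = 2 := by
      by_contra h
      exact hmv (hbad U hU hbU hmax t ht h)
    subst ht2
    have hRne : pCoreOf 2 U ≠ ⊥ := fun h => hmv (h ▸ bot_le)
    obtain ⟨Q, hQ, hRQ⟩ := exists_isMaxMember (pCoreOf_mem hU 2) (LocalEven.isPGroup_pCoreOf 2 U)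
    by_cases hfix : (center Q).map Q.subtype ⊓ centralizer (A : Set G) = ⊥
    · exact S.false_of_no_fixed hQ (fun h => hRne (le_bot_iff.1 (h ▸ hRQ))) hb hb1 hbad hfix
    · exact S.false_of_fixed hQ hfix
  · push Not at hbad
    obtain ⟨q, hq, -, hD⟩ := S.exists_odd_ne_bot ha ha1 (hbad a ha ha1)
    haveI := Fact.mk hq
    exact hD (S.eq_bot_of_planes S.coreSum_mem fun B hB => S.plane_normalizes_of_all_good hB fun b hb hb1 =>
      S.goodFor_of_not_bad (hB.1 hb) hb1 (hbad b (hB.1 hb) hb1))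

end Minimal

end CfsgLib.Signalizer
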