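import Cfsg.Agent.Lib.Signalizer.Planes
import Cfsg.Agent.Lib.PGroup.CoprimeHall
import Cfsg.Agent.Lib.Local.AB

/-!
The minimal counterexample to completeness: no nontrivial member is normalised by every value of the functor.
-/

set_option autoImplicit false
set_option linter.unusedSectionVars false
set_option linter.style.haveILetI false

namespace CfsgLib.Signalizer

open Subgroup Cfsg
open scoped commutatorElement

universe u

/-- Some member contains every value of the functor. -/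
def IsCompleteOn {G : Type u} [Group G] (p : ℕ) (A : Subgroup G) (θ : G → Subgroup G) : Prop :=
  ∃ W ∈ signalizerFamily p A θ, ∀ a ∈ A, a ≠ 1 → θ a ≤ W

/-- The sum of the orders of the values. -/
noncomputable def totalCard {G : Type u} [Group G] (A : Subgroup G) (θ : G → Subgroup G) : ℕ :=
  Nat.card (Σ a : {a : G // a ∈ A ∧ a ≠ 1}, θ a)

/-- A counterexample of least total order with an acting group of order `p ^ 3`. -/
structure Minimal {G : Type u} [Group G] (p : ℕ) (A : Subgroup G) (θ : G → Subgroup G) : Prop where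
  functor : IsSolvableSignalizerFunctor p A θ
  elemAb : IsElementaryAbelian p A
  card_eq : Nat.card A = p ^ 3
  least : ∀ (H : Type u) [Group H] [Finite H] (B : Subgroup H) (φ : H → Subgroup H),
    IsElementaryAbelian p B → Nat.card B = p ^ 3 → IsSolvableSignalizerFunctor p B φ →
    totalCard B φ < totalCard A θ → IsCompleteOn p B φ
  not_complete : ¬ IsCompleteOn p A θ

/-- The largest member normalising `V`. -/
def normMax {G : Type u} [Group G] (p : ℕ) (A : Subgroup G) (θ : G → Subgroup G) (V : Subgroup G) : Subgroup G :=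
  sSup {U | U ∈ signalizerFamily p A θ ∧ U ≤ normalizer (V : Set G)}

variable {G : Type u} [Group G] [Finite G] {p : ℕ} [hp : Fact p.Prime] {A : Subgroup G} {θ : G → Subgroup G}

theorem totalCard_lt {H : Type u} [Group H] [Finite H] {B : Subgroup H} {φ : H → Subgroup H}
    (e : {a : G // a ∈ A ∧ a ≠ 1} ≃ {b : H // b ∈ B ∧ b ≠ 1})
    (hle : ∀ a, Nat.card (φ (e a : H)) ≤ Nat.card (θ (a : G)))
    (hlt : ∃ a, Nat.card (φ (e a : H)) < Nat.card (θ (a : G))) : totalCard B φ < totalCard A θ := by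
  haveI := Fintype.ofFinite {a : G // a ∈ A ∧ a ≠ 1}
  haveI := Fintype.ofFinite {b : H // b ∈ B ∧ b ≠ 1}
  rw [totalCard, totalCard, Nat.card_sigma, Nat.card_sigma, ← Equiv.sum_comp e (fun b => Nat.card (φ (b : H)))]
  exact Finset.sum_lt_sum (fun a _ => hle a) (let ⟨a, ha⟩ := hlt; ⟨a, Finset.mem_univ _, ha⟩)

/-- The functor restricted to a subgroup `N` containing `A`. -/
theorem functor_subgroupOf (hθ : IsSolvableSignalizerFunctor p A θ) {N : Subgroup G} :
    IsSolvableSignalizerFunctor p (A.subgroupOf N) (fun x : N => (θ (x : G)).subgroupOf N) := by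
  have hne : ∀ {x : N}, x ≠ 1 → (x : G) ≠ 1 := fun hx h => hx (Subtype.ext h)
  refine ⟨⟨fun x hx hx1 y hy => ?_, fun x hx hx1 h => ?_, fun x hx hx1 b hb y hy => ?_,
    fun x hx hx1 b hb hb1 y hy => ?_⟩, fun x hx hx1 => ?_⟩
  · exact mem_centralizer_singleton_iff.2 (Subtype.ext
      (mem_centralizer_singleton_iff.1 (hθ.1.1 x hx (hne hx1) hy) :))
  · refine hθ.1.2.1 x hx (hne hx1) (h.trans ?_)
    rw [← card_map_of_injective N.subtype_injective, subgroupOf_map_subtype]
    exact card_dvd_of_le inf_le_left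
  · exact hθ.1.2.2.1 x hx (hne hx1) b hb y hy
  · exact hθ.1.2.2.2 x hx (hne hx1) b hb (hne hb1) ⟨hy.1, mem_centralizer_singleton_iff.2
      (congrArg Subtype.val (mem_centralizer_singleton_iff.1 hy.2))⟩
  · haveI := hθ.2 x hx (hne hx1)
    exact Group.isSolvable_of_isSolvable_injective
      (f := ((N.subtype).comp ((θ (x : G)).subgroupOf N).subtype).codRestrict (θ (x : G)) fun y => y.2)
      fun y z h => Subtype.ext (Subtype.ext (congrArg Subtype.val h :))

namespace Minimal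

variable (S : Minimal p A θ)
include S

theorem hA3 : p ^ 3 ≤ Nat.card A := S.card_eq.ge

theorem exists_theta_ne_bot : ∃ a ∈ A, a ≠ 1 ∧ θ a ≠ ⊥ := by
  by_contra h
  push Not at h
  exact S.not_complete ⟨⊥, bot_mem, fun a ha ha1 => (h a ha ha1).le⟩

theorem not_dvd_theta {a : G} (ha : a ∈ A) (ha1 : a ≠ 1) : ¬ p ∣ Nat.card (θ a) :=
  S.functor.1.2.1 a ha ha1

theorem theta_le_centralizer {a : G} (ha : a ∈ A) (ha1 : a ≠ 1) : θ a ≤ centralizer {a} :=
  S.functor.1.1 a ha ha1

theorem mem_theta_of_commute {a b x : G} (ha : a ∈ A) (ha1 : a ≠ 1) (hb : b ∈ A) (hb1 : b ≠ 1)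
    (hx : x ∈ θ a) (hxb : Commute x b) : x ∈ θ b :=
  S.functor.1.2.2.2 a ha ha1 b hb hb1 ⟨hx, mem_centralizer_singleton_iff.2 hxb.eq⟩

theorem theta_eq_of_mem_zpowers {a b : G} (ha : a ∈ A) (ha1 : a ≠ 1) (hb1 : b ≠ 1) (h : b ∈ zpowers a) :
    θ b = θ a := by
  have hb : b ∈ A := zpowers_le.2 ha h
  have key : ∀ {c d : G}, c ∈ A → c ≠ 1 → d ∈ A → d ≠ 1 → d ∈ zpowers c → θ c ≤ θ d := by
    intro c d hc hc1 hd hd1 hcd x hx
    obtain ⟨i, rfl⟩ := hcd
    exact S.mem_theta_of_commute hc hc1 hd hd1 hx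
      ((show Commute x c from mem_centralizer_singleton_iff.1 (S.theta_le_centralizer hc hc1 hx)).zpow_right i)
  exact le_antisymm (key hb hb1 ha ha1 (mem_zpowers_symm S.elemAb ha ha1 hb1 h)) (key ha ha1 hb hb1 h)

theorem signalizerInf_zpowers {a : G} (ha : a ∈ A) (ha1 : a ≠ 1) : signalizerInf (zpowers a) θ = θ a :=
  le_antisymm (signalizerInf_le (mem_zpowers a) ha1) fun _ hx => mem_signalizerInf_iff.2 fun _ hb hb1 =>
    (S.theta_eq_of_mem_zpowers ha ha1 hb1 hb).symm ▸ hx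

theorem signalizerInf_self_le {a : G} (ha : a ∈ A) (ha1 : a ≠ 1) : signalizerInf A θ ≤ θ a :=
  signalizerInf_le ha ha1

theorem signalizerInf_plane_mem {B : Subgroup G} (hB : IsPlane p A B) :
    signalizerInf B θ ∈ signalizerFamily p A θ :=
  signalizerInf_mem S.functor hB.1 hB.ne_bot

/-- A smaller functor is complete. -/
theorem exists_member_of_lt {ψ : G → Subgroup G} (hψ : IsSolvableSignalizerFunctor p A ψ)
    (hle : ∀ a ∈ A, a ≠ 1 → ψ a ≤ θ a) (hlt : ∃ a ∈ A, a ≠ 1 ∧ ψ a ≠ θ a) :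
    ∃ W ∈ signalizerFamily p A θ, (∀ a ∈ A, a ≠ 1 → W ⊓ centralizer {a} = ψ a) ∧
      W ∈ signalizerFamily p A ψ := by
  obtain ⟨a, ha, ha1, hne⟩ := hlt
  obtain ⟨W, hW, hWψ⟩ := S.least G A ψ S.elemAb S.card_eq hψ (totalCard_lt (Equiv.refl _)
    (fun b => card_le_of_le (hle b b.2.1 b.2.2))
    ⟨⟨a, ha, ha1⟩, lt_of_le_of_ne (card_le_of_le (hle a ha ha1)) fun h => hne
      (eq_of_le_of_card_ge (hle a ha ha1) h.ge)⟩)
  refine ⟨W, ⟨hW.1, hW.2.1, hW.2.2.1, fun b hb hb1 => (hW.2.2.2 b hb hb1).trans (hle b hb hb1)⟩,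
    fun b hb hb1 => le_antisymm (hW.2.2.2 b hb hb1) (le_inf (hWψ b hb hb1) (hψ.1.1 b hb hb1)), hW⟩

/-- No nontrivial member is normalised by all the values. -/
theorem eq_bot_of_normalized {V : Subgroup G} (hV : V ∈ signalizerFamily p A θ)
    (h : ∀ a ∈ A, a ≠ 1 → θ a ≤ normalizer (V : Set G)) : V = ⊥ := by
  by_contra hne
  apply S.not_complete
  set N := normalizer (V : Set G) with hN
  have hAN : A ≤ N := le_normalizer_of_mem hV
  have hVN : V ≤ N := le_normalizer
  haveI hn : (V.subgroupOf N).Normal := normal_in_normalizer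
  set π := QuotientGroup.mk' (V.subgroupOf N) with hπ
  set A' := A.subgroupOf N with hA'
  have hθ' := functor_subgroupOf (N := N) S.functor
  have hVp : ¬ p ∣ Nat.card (V.subgroupOf N) := by
    rw [Nat.card_congr (subgroupOfEquivOfLe hVN).toEquiv]; exact hV.2.1
  have hinj : ∀ x y : N, x ∈ A' → y ∈ A' → π x = π y → x = y := by
    intro x y hx hy hxy
    have h1 : ((x⁻¹ * y : N) : G) ∈ V := (QuotientGroup.eq (s := V.subgroupOf N)).1 hxy
    have h2 : x⁻¹ * y ∈ A' := mul_mem (inv_mem hx) hy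
    refine inv_mul_eq_one.1 ?_
    by_contra hne1
    refine hV.2.1 ?_
    have h3 : orderOf ((x⁻¹ * y : N) : G) = p := orderOf_eq_prime (S.elemAb.2 _ h2) fun h => hne1 (Subtype.ext h)
    exact h3 ▸ Subgroup.orderOf_dvd_natCard V h1
  set B := A'.map π with hB
  have hBA : IsElementaryAbelian p B := PGroup.elemAb_map (PGroup.elemAb_subgroupOf S.elemAb) π
  have hcardA' : Nat.card A' = p ^ 3 := by
    rw [Nat.card_congr (subgroupOfEquivOfLe hAN).toEquiv, S.card_eq]
  have hBcard : Nat.card B = p ^ 3 := by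
    rw [← hcardA']
    refine (Nat.card_congr (Equiv.ofBijective (fun x : A' => (⟨π x, x, x.2, rfl⟩ : B))
      ⟨fun x y h => Subtype.ext (hinj x y x.2 y.2 (congrArg Subtype.val h)), ?_⟩)).symm
    rintro ⟨_, x, hx, rfl⟩
    exact ⟨⟨x, hx⟩, rfl⟩
  let pre : (↥N ⧸ V.subgroupOf N) → N := fun h => Function.invFunOn π (A' : Set N) h
  have hpre : ∀ h ∈ B, pre h ∈ A' ∧ π (pre h) = h := fun h hh =>
    ⟨Function.invFunOn_mem (f := π) hh, Function.invFunOn_eq (f := π) hh⟩
  set φ : (↥N ⧸ V.subgroupOf N) → Subgroup (↥N ⧸ V.subgroupOf N) :=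
    fun h => ((θ (pre h : G)).subgroupOf N).map π with hφdef
  have hne1 : ∀ h ∈ B, h ≠ 1 → pre h ≠ 1 := fun h hh h1 e => h1 (by rw [← (hpre h hh).2, e, map_one])
  have hφ : IsSolvableSignalizerFunctor p B φ := by
    refine ⟨⟨fun h hh hh1 => ?_, fun h hh hh1 hd => ?_, fun h hh hh1 c hc x hx => ?_,
      fun h hh hh1 c hc hc1 => ?_⟩, fun h hh hh1 => ?_⟩
    · rintro _ ⟨y, hy, rfl⟩
      have h2 := mem_centralizer_singleton_iff.1 (hθ'.1.1 _ (hpre h hh).1 (hne1 h hh hh1) hy)
      rw [mem_centralizer_singleton_iff]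
      conv_lhs => rw [← (hpre h hh).2, ← map_mul, h2, map_mul, (hpre h hh).2]
    · exact hθ'.1.2.1 _ (hpre h hh).1 (hne1 h hh hh1) (hd.trans (card_map_dvd _ _))
    · obtain ⟨y, hy, rfl⟩ := hx
      refine ⟨pre c * y * (pre c)⁻¹, hθ'.1.2.2.1 _ (hpre h hh).1 (hne1 h hh hh1) _ (hpre c hc).1 y hy, ?_⟩
      rw [map_mul, map_mul, map_inv, (hpre c hc).2]
    · have h2 := balance_quotient (θ := fun x : N => (θ (x : G)).subgroupOf N) hθ'
        (PGroup.elemAb_subgroupOf S.elemAb) (N := V.subgroupOf N) hVp (hpre h hh).1 (hne1 h hh hh1)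
        (hpre c hc).1 (hne1 c hc hc1)
      rwa [← hπ, (hpre c hc).2] at h2
    · haveI := hθ'.2 _ (hpre h hh).1 (hne1 h hh hh1)
      exact Group.isSolvable_of_surjective (f := π.subgroupMap ((θ (pre h : G)).subgroupOf N))
        (MonoidHom.subgroupMap_surjective _ _)
  have hBmem : ∀ {x : G} (hx : x ∈ A), π ⟨x, hAN hx⟩ ∈ B := fun {x} hx => ⟨⟨x, hAN hx⟩, hx, rfl⟩
  have hpre_eq : ∀ {x : G} (hx : x ∈ A), (pre (π ⟨x, hAN hx⟩) : G) = x := fun {x} hx =>
    congrArg Subtype.val (hinj _ _ (hpre _ (hBmem hx)).1 hx (hpre _ (hBmem hx)).2)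
  have hπ1 : ∀ {x : G} (hx : x ∈ A), x ≠ 1 → π ⟨x, hAN hx⟩ ≠ 1 := fun {x} hx hx1 e =>
    hx1 (congrArg Subtype.val (hinj ⟨x, hAN hx⟩ 1 hx (one_mem _) (e.trans (map_one π).symm)))
  have hφeq : ∀ {x : G} (hx : x ∈ A), φ (π ⟨x, hAN hx⟩) = ((θ x).subgroupOf N).map π := fun {x} hx => by
    show ((θ (pre (π ⟨x, hAN hx⟩) : G)).subgroupOf N).map π = _
    rw [hpre_eq hx]
  -- a value meeting `V`
  obtain ⟨a₀, ha₀, ha₀1, hmeet⟩ : ∃ a ∈ A, a ≠ 1 ∧ V ⊓ θ a ≠ ⊥ := by
    by_contra hc
    push Not at hc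
    refine hne (le_bot_iff.1 (le_of_fixed S.elemAb ((Nat.pow_le_pow_right hp.out.pos (by norm_num)).trans S.hA3)
      hV.2.1 hAN fun a ha ha1 => ?_))
    exact le_trans (le_inf inf_le_left (hV.2.2.2 a ha ha1)) (hc a ha ha1).le
  obtain ⟨W', hW', hφW⟩ := S.least _ B φ hBA hBcard hφ (totalCard_lt
    (Equiv.ofBijective (fun a : {a : G // a ∈ A ∧ a ≠ 1} =>
        (⟨π ⟨a, hAN a.2.1⟩, hBmem a.2.1, hπ1 a.2.1 a.2.2⟩ : {b // b ∈ B ∧ b ≠ 1}))
      ⟨fun a b hab => Subtype.ext (congrArg Subtype.val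
          (hinj ⟨a, hAN a.2.1⟩ ⟨b, hAN b.2.1⟩ a.2.1 b.2.1 (congrArg Subtype.val hab)) :),
        fun b => ⟨⟨(pre b.1 : G), (hpre _ b.2.1).1, fun e => hne1 _ b.2.1 b.2.2 (Subtype.ext e)⟩,
          Subtype.ext (hpre _ b.2.1).2⟩⟩)
    (fun a => by
      show Nat.card (φ (π ⟨a, hAN a.2.1⟩)) ≤ _
      rw [hφeq a.2.1]
      refine (Nat.le_of_dvd Nat.card_pos (card_map_dvd _ _)).trans ?_
      rw [Nat.card_congr (subgroupOfEquivOfLe (h a a.2.1 a.2.2)).toEquiv])
    ⟨⟨a₀, ha₀, ha₀1⟩, by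
      show Nat.card (φ (π ⟨a₀, hAN ha₀⟩)) < _
      rw [hφeq ha₀, ← Nat.card_congr (subgroupOfEquivOfLe (h a₀ ha₀ ha₀1)).toEquiv]
      refine lt_of_le_of_ne (Nat.le_of_dvd Nat.card_pos (card_map_dvd _ _)) fun he => hmeet (le_bot_iff.1 ?_)
      rintro x ⟨hxV, hxθ⟩
      have hbij := (Nat.bijective_iff_surjective_and_card (π.subgroupMap ((θ a₀).subgroupOf N))).2
        ⟨MonoidHom.subgroupMap_surjective _ _, he.symm⟩
      have h4 : (⟨⟨x, hVN hxV⟩, hxθ⟩ : (θ a₀).subgroupOf N) = 1 := hbij.1 <| Subtype.ext <| by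
        show π ⟨x, hVN hxV⟩ = π 1
        rw [map_one]
        exact (QuotientGroup.eq_one_iff _).2 hxV
      exact mem_bot.2 (congrArg (fun y : (θ a₀).subgroupOf N => ((y : N) : G)) h4)⟩)
  refine ⟨(W'.comap π).map N.subtype, ⟨?_, ?_, ?_, fun a ha ha1 => ?_⟩, fun a ha ha1 x hx => ?_⟩
  · haveI : Group.IsSolvable (V.subgroupOf N) := by
      haveI := hV.1
      exact Group.isSolvable_of_surjective (f := (subgroupOfEquivOfLe hVN).symm.toMonoidHom)
        (subgroupOfEquivOfLe hVN).symm.surjective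
    haveI := hW'.1
    haveI : Group.IsSolvable ↥(W'.comap π) := by
      have hle : V.subgroupOf N ≤ W'.comap π := fun y hy => by
        show π y ∈ W'
        rw [show π y = 1 from (QuotientGroup.eq_one_iff y).2 hy]
        exact one_mem _
      refine Group.isSolvable_of_ker_le_range (inclusion hle)
        ((π.comp (W'.comap π).subtype).codRestrict W' fun y => y.2) ?_
      intro y hy
      exact ⟨⟨y, (QuotientGroup.eq_one_iff _).1 (congrArg Subtype.val hy)⟩, rfl⟩
    exact Group.isSolvable_of_surjective (f := N.subtype.subgroupMap (W'.comap π))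
      (MonoidHom.subgroupMap_surjective _ _)
  · rw [card_map_of_injective N.subtype_injective]
    intro hd
    rw [← card_mul_index ((V.subgroupOf N).subgroupOf (W'.comap π))] at hd
    refine (Nat.Prime.not_dvd_mul hp.out (fun h1 => hVp ?_) (fun h1 => hW'.2.1 ?_)) hd
    · refine h1.trans ?_
      rw [← card_map_of_injective (W'.comap π).subtype_injective, subgroupOf_map_subtype]
      exact card_dvd_of_le inf_le_left
    · refine h1.trans ?_
      have h2 : (V.subgroupOf N).subgroupOf (W'.comap π) =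
          ((π.comp (W'.comap π).subtype).codRestrict W' fun y => y.2).ker := by
        ext y
        rw [mem_subgroupOf, MonoidHom.mem_ker, ← QuotientGroup.eq_one_iff]
        exact ⟨fun e => Subtype.ext e, congrArg Subtype.val⟩
      rw [h2, index_ker]
      exact card_subgroup_dvd_card _
  · rintro b hb _ ⟨y, hy, rfl⟩
    refine ⟨⟨b, hAN hb⟩ * y * ⟨b, hAN hb⟩⁻¹, ?_, rfl⟩
    rw [SetLike.mem_coe, mem_comap, map_mul, map_mul, map_inv]
    exact hW'.2.2.1 _ (hBmem hb) _ hy
  · rintro _ ⟨⟨y, hy, rfl⟩, hya⟩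
    have h2 : π y ∈ W' ⊓ centralizer {π ⟨a, hAN ha⟩} := ⟨hy, by
      refine mem_centralizer_singleton_iff.2 ?_
      rw [← map_mul, ← map_mul]
      exact congrArg π (Subtype.ext (mem_centralizer_singleton_iff.1 hya))⟩
    have h3 := hW'.2.2.2 _ (hBmem ha) (hπ1 ha ha1) h2
    rw [hφeq ha] at h3
    obtain ⟨t, ht, hty⟩ := h3
    have h4 : ((t⁻¹ * y : N) : G) ∈ V := (QuotientGroup.eq (s := V.subgroupOf N)).1 hty
    have h5 : ((t⁻¹ * y : N) : G) ∈ θ a := hV.2.2.2 a ha ha1 ⟨h4, by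
      refine mem_centralizer_singleton_iff.2 ?_
      have e1 : Commute (t : G) a := mem_centralizer_singleton_iff.1 (S.theta_le_centralizer ha ha1 ht)
      have e2 : Commute (y : G) a := mem_centralizer_singleton_iff.1 hya
      exact (e1.inv_left.mul_left e2).eq⟩
    have h6 := (θ a).mul_mem ht h5
    simpa using h6
  · refine ⟨⟨x, h a ha ha1 hx⟩, ?_, rfl⟩
    have h2 := hφW _ (hBmem ha) (hπ1 ha ha1)
    rw [hφeq ha] at h2
    exact h2 ⟨_, hx, rfl⟩

theorem eq_bot_of_planes {V : Subgroup G} (hV : V ∈ signalizerFamily p A θ)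
    (h : ∀ B, IsPlane p A B → signalizerInf B θ ≤ normalizer (V : Set G)) : V = ⊥ := by
  refine S.eq_bot_of_normalized hV fun a ha ha1 => ?_
  refine le_of_planes_at S.elemAb S.card_eq (S.not_dvd_theta ha ha1)
    (le_normalizer_theta S.functor ha ha1) ha ha1 (S.theta_le_centralizer ha ha1) fun B hB _ => ?_
  exact (inf_centralizer_le_signalizerInf hB.1 (theta_mem S.functor ha ha1)).trans (h B hB)

theorem normMax_spec {V : Subgroup G} (hV : V ∈ signalizerFamily p A θ) (hne : V ≠ ⊥) :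
    normMax p A θ V ∈ signalizerFamily p A θ ∧ normMax p A θ V ≤ normalizer (V : Set G) := by
  set ψ := fun a => θ a ⊓ normalizer (V : Set G)
  have hAN : A ≤ normalizer (V : Set G) := le_normalizer_of_mem hV
  have hψ : IsSolvableSignalizerFunctor p A ψ := by
    refine ⟨⟨fun a ha ha1 => inf_le_left.trans (S.theta_le_centralizer ha ha1),
      fun a ha ha1 hd => S.not_dvd_theta ha ha1 (hd.trans (card_dvd_of_le inf_le_left)),
      fun a ha ha1 b hb x hx => ⟨S.functor.1.2.2.1 a ha ha1 b hb x hx.1,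
        (normalizer (V : Set G)).mul_mem ((normalizer (V : Set G)).mul_mem (hAN hb) hx.2) ((normalizer (V : Set G)).inv_mem (hAN hb))⟩,
      fun a ha ha1 b hb hb1 x hx => ⟨S.functor.1.2.2.2 a ha ha1 b hb hb1 ⟨hx.1.1, hx.2⟩, hx.1.2⟩⟩,
      fun a ha ha1 => Solvable.isSolvable_of_le (S.functor.2 a ha ha1) inf_le_left⟩
  obtain ⟨W, hW, hWψ, -⟩ := S.exists_member_of_lt hψ (fun a _ _ => inf_le_left) (by
    by_contra hc
    push Not at hc
    exact hne (S.eq_bot_of_normalized hV fun a ha ha1 => inf_eq_left.1 (hc a ha ha1)))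
  have hgen : ∀ U ∈ signalizerFamily p A θ, U ≤ normalizer (V : Set G) → U ≤ W := by
    intro U hU hUN
    refine le_of_fixed S.elemAb ((Nat.pow_le_pow_right hp.out.pos (by norm_num)).trans S.hA3)
      hU.2.1 (le_normalizer_of_mem hU) fun a ha ha1 => ?_
    exact le_trans (le_inf (hU.2.2.2 a ha ha1) (inf_le_left.trans hUN))
      (show ψ a ≤ W from (hWψ a ha ha1).ge.trans inf_le_left)
  have hWN : W ≤ normalizer (V : Set G) := by
    refine le_of_fixed S.elemAb ((Nat.pow_le_pow_right hp.out.pos (by norm_num)).trans S.hA3)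
      hW.2.1 (le_normalizer_of_mem hW) fun a ha ha1 => ?_
    rw [hWψ a ha ha1]
    exact inf_le_right
  have heq : normMax p A θ V = W := le_antisymm (sSup_le fun U hU => hgen U hU.1 hU.2) (le_sSup ⟨hW, hWN⟩)
  rw [heq]
  exact ⟨hW, hWN⟩

theorem le_normMax {V U : Subgroup G} (hU : U ∈ signalizerFamily p A θ) (h : U ≤ normalizer (V : Set G)) :
    U ≤ normMax p A θ V := le_sSup ⟨hU, h⟩

/-- A maximal member is the largest member normalising each of its nontrivial cores. -/
theorem normMax_pCoreOf_eq {U : Subgroup G} (hU : U ∈ signalizerFamily p A θ)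
    (hmax : ∀ W ∈ signalizerFamily p A θ, U ≤ W → W = U) {q : ℕ} (hne : pCoreOf q U ≠ ⊥) :
    normMax p A θ (pCoreOf q U) = U :=
  hmax _ (S.normMax_spec (pCoreOf_mem hU q) hne).1 (S.le_normMax hU (LocalEven.le_normalizer_pCoreOf q U))

theorem exists_dvd_theta {q : ℕ} [hq : Fact q.Prime] {V : Subgroup G} (hV : V ∈ signalizerFamily p A θ)
    (hVq : IsPGroup q V) (hne : V ≠ ⊥) : ∃ a ∈ A, a ≠ 1 ∧ q ∣ Nat.card (θ a) := by
  by_contra hc
  push Not at hc
  refine hne (le_bot_iff.1 (le_of_fixed S.elemAb ((Nat.pow_le_pow_right hp.out.pos (by norm_num)).trans S.hA3)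
    hV.2.1 (le_normalizer_of_mem hV) fun a ha ha1 => ?_))
  obtain ⟨k, hk⟩ := IsPGroup.iff_card.1 (hVq.to_le (inf_le_left : V ⊓ centralizer {a} ≤ V))
  have hd : Nat.card ↥(V ⊓ centralizer {a}) ∣ Nat.card (θ a) := card_dvd_of_le (hV.2.2.2 a ha ha1)
  rcases Nat.eq_zero_or_pos k with rfl | hk0
  · exact (card_eq_one.1 (by rw [hk, pow_zero])).le
  · exact absurd ((dvd_pow_self q hk0.ne').trans (hk ▸ hd)) (hc a ha ha1)

/-- A `q'`-member containing every `O_{q'}(θ a)` and normalised by `signalizerInf A θ`. -/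
theorem exists_qPrime_member (q : ℕ) [hq : Fact q.Prime] (hdvd : ∃ a ∈ A, a ≠ 1 ∧ q ∣ Nat.card (θ a)) :
    ∃ W ∈ signalizerFamily p A θ, ¬ q ∣ Nat.card W ∧ signalizerInf A θ ≤ normalizer (W : Set G) ∧
      ∀ a ∈ A, a ≠ 1 → (pPrimeCore q ↥(θ a)).map (θ a).subtype ≤ W := by
  set T := signalizerInf A θ
  let P : G → Subgroup G → Prop := fun a U => U ≤ θ a ∧ A ≤ normalizer (U : Set G) ∧
    T ≤ normalizer (U : Set G) ∧ ¬ q ∣ Nat.card U
  set ψ : G → Subgroup G := fun a => ⨆ U : {U // P a U}, (U : Subgroup G) with hψdef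
  have hψq : ∀ a ∈ A, a ≠ 1 → ¬ q ∣ Nat.card (ψ a) := by
    intro a ha ha1
    have hAθ := le_normalizer_theta S.functor ha ha1
    have hcop := coprime_card S.elemAb (S.not_dvd_theta ha ha1)
    obtain ⟨H, hH, hAH⟩ := PGroup.exists_invariant_hall {r : ℕ | r ≠ q} hAθ hcop (S.functor.2 a ha ha1)
    have hle : ψ a ≤ H := iSup_le fun ⟨U, hUθ, hAU, hTU, hUq⟩ => by
      obtain ⟨H', hH', hAH', hUH'⟩ := PGroup.exists_invariant_hall_ge hAθ hcop (S.functor.2 a ha ha1)
        {r : ℕ | r ≠ q} hUθ hAU (fun r _ hrU (e : r = q) => hUq (e ▸ hrU))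
      obtain ⟨c, hc, hcH⟩ := PGroup.exists_centralizer_conj_hall hAθ hcop (S.functor.2 a ha ha1) hH' hAH' hH hAH
      have hcT : c ∈ T := mem_signalizerInf_iff.2 fun b hb hb1 =>
        S.mem_theta_of_commute ha ha1 hb hb1 hc.1 (mem_centralizer_iff.1 hc.2 b hb).symm
      intro u hu
      rw [← hcH, CfsgLib.Solvable.mem_conj_smul_iff]
      exact hUH' ((mem_normalizer_iff''.1 (hTU hcT) u).1 hu)
    exact fun hd => hH.2.1 q hq.out (hd.trans (card_dvd_of_le hle)) rfl
  have hψle : ∀ a, ψ a ≤ θ a := fun a => iSup_le fun U => U.2.1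
  have hψA : ∀ a, A ≤ normalizer (ψ a : Set G) := fun a => le_normalizer_iSup' fun U => U.2.2.1
  have hψT : ∀ a, T ≤ normalizer (ψ a : Set G) := fun a => le_normalizer_iSup' fun U => U.2.2.2.1
  have hTcent : ∀ {b : G}, b ∈ A → T ≤ normalizer ((centralizer ({b} : Set G) : Subgroup G) : Set G) :=
    fun {b} hb => ((signalizerInf_le_centralizer S.functor le_rfl).trans
      (centralizer_le (Set.singleton_subset_iff.2 hb))).trans le_normalizer
  have hψf : IsSolvableSignalizerFunctor p A ψ := by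
    refine ⟨⟨fun a ha ha1 => (hψle a).trans (S.theta_le_centralizer ha ha1),
      fun a ha ha1 hd => S.not_dvd_theta ha ha1 (hd.trans (card_dvd_of_le (hψle a))),
      fun a ha ha1 b hb x hx => (mem_normalizer_iff.1 (hψA a hb) x).1 hx,
      fun a ha ha1 b hb hb1 => ?_⟩, fun a ha ha1 => Solvable.isSolvable_of_le (S.functor.2 a ha ha1) (hψle a)⟩
    exact le_iSup (fun U : {U // P b U} => (U : Subgroup G)) ⟨ψ a ⊓ centralizer {b},
      (inf_le_inf_right _ (hψle a)).trans (S.functor.1.2.2.2 a ha ha1 b hb hb1),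
      Solvable.le_normalizer_inf (hψA a) (le_normalizer_centralizer_singleton S.elemAb hb),
      Solvable.le_normalizer_inf (hψT a) (hTcent hb),
      fun hd => hψq a ha ha1 (hd.trans (card_dvd_of_le inf_le_left))⟩
  obtain ⟨a₀, ha₀, ha₀1, hd₀⟩ := hdvd
  obtain ⟨W, hW, hWψ, -⟩ := S.exists_member_of_lt hψf (fun a _ _ => hψle a)
    ⟨a₀, ha₀, ha₀1, fun h => hψq a₀ ha₀ ha₀1 (h ▸ hd₀)⟩
  have h2 : p ^ 2 ≤ Nat.card A := (Nat.pow_le_pow_right hp.out.pos (by norm_num)).trans S.hA3
  refine ⟨W, hW, fun hd => ?_, ?_, fun a ha ha1 => ?_⟩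
  · obtain ⟨Sy, -, -, hSW, hSq⟩ := exists_invariant_sylow_member (q := q) (U := ⊥) S.functor S.elemAb hW bot_le
      IsPGroup.of_bot (le_top.trans (normalizer_eq_top_iff.2 inferInstance).ge)
    have hbot : (Sy : Subgroup W).map W.subtype = ⊥ := le_bot_iff.1 <| le_of_fixed S.elemAb h2 hSW.2.1
      (le_normalizer_of_mem hSW) fun a ha ha1 => by
        intro x hx
        refine mem_bot.2 (?_ : x = 1)
        obtain ⟨k, hk⟩ := IsPGroup.iff_orderOf.1 hSq ⟨x, hx.1⟩
        rw [Subgroup.orderOf_mk] at hk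
        have hxψ : x ∈ ψ a := (hWψ a ha ha1).le ⟨map_subtype_le _ hx.1, hx.2⟩
        exact orderOf_eq_one_iff.1 (Nat.eq_one_of_dvd_coprimes
          (((hq.out.coprime_iff_not_dvd).2 (hψq a ha ha1)).pow_left k) hk.dvd
          (Subgroup.orderOf_dvd_natCard _ hxψ))
    rw [map_eq_bot_iff_of_injective _ W.subtype_injective] at hbot
    exact Sy.ne_bot_of_dvd_card hd hbot
  · intro c hc
    refine Solvable.mem_normalizer_of_conj_mem fun w hw => ?_
    suffices W ≤ W.comap (MulAut.conj c).toMonoidHom from this hw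
    refine le_of_fixed S.elemAb h2 hW.2.1 (le_normalizer_of_mem hW) fun a ha ha1 => ?_
    rw [hWψ a ha ha1]
    intro x hx
    exact ((hWψ a ha ha1).ge ((mem_normalizer_iff.1 (hψT a hc) x).1 hx)).1
  · haveI := Cores.pPrimeCore_characteristic (G := ↥(θ a)) q
    refine le_trans ?_ ((hWψ a ha ha1).ge.trans inf_le_left)
    refine le_iSup (fun U : {U // P a U} => (U : Subgroup G)) ⟨_, map_subtype_le _,
      (le_normalizer_theta S.functor ha ha1).trans (normalizer_le_normalizer_map_char _),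
      ((S.signalizerInf_self_le ha ha1).trans le_normalizer).trans (normalizer_le_normalizer_map_char _), ?_⟩
    rw [card_map_of_injective (θ a).subtype_injective]
    exact Cores.not_dvd_card_pPrimeCore q

/-- No nontrivial element of `A` centralises a maximal `q`-member. -/
theorem false_of_centralizes_maxMember {q : ℕ} [hq : Fact q.Prime]
    (hdvd : ∃ a ∈ A, a ≠ 1 ∧ q ∣ Nat.card (θ a)) {Q : Subgroup G} (hQ : IsMaxMember p A θ q Q) {a : G}
    (ha : a ∈ A) (ha1 : a ≠ 1) (hQa : Q ≤ centralizer {a}) : False := by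
  obtain ⟨W, hW, -, -, hWle⟩ := S.exists_qPrime_member q hdvd
  have hcop : ∀ {U : Subgroup G}, U ∈ signalizerFamily p A θ → (orderOf a).Coprime (Nat.card U) :=
    fun hU => coprime_of_pow_eq_one (S.elemAb.2 a ha) hU.2.1
  have haA : ∀ b ∈ A, Commute a b := fun b hb => PGroup.elemAb_comm S.elemAb ha hb
  set J := ⁅W, zpowers a⁆ with hJ
  have hJW : J ∈ signalizerFamily p A θ := commutator_mem_family hW (le_normalizer_of_mem hW ha) haA
  have hθJ : ∀ x ∈ A, x ≠ 1 → ⁅θ x, zpowers a⁆ ≤ J := by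
    intro x hx hx1
    obtain ⟨T, hT⟩ := exists_sylow_centralizer S.functor S.elemAb S.hA3 hdvd hQ (zpowers_le.2 hx)
      (by simpa using hx1)
    have hxa : a ∈ normalizer (θ x : Set G) := le_normalizer_theta S.functor hx hx1 ha
    rw [← commutator_idem hxa (hcop (theta_mem S.functor hx hx1))]
    refine commutator_mono ?_ le_rfl
    revert T
    rw [S.signalizerInf_zpowers hx hx1]
    intro T hT
    exact (commutator_le_qPrimeCore (S.functor.2 x hx hx1) hxa (hcop (theta_mem S.functor hx hx1)) T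
      (hT.le.trans (inf_le_left.trans hQa))).trans (hWle x hx hx1)
  have hJbot : J = ⊥ := by
    refine S.eq_bot_of_planes hJW fun B hB c hc => ?_
    have hJeq : J = ⨆ b : {b : G // b ∈ B ∧ b ≠ 1}, ⁅θ (b : G), zpowers a⁆ := by
      refine le_antisymm ?_ (iSup_le fun b => hθJ b (hB.1 b.2.1) b.2.2)
      refine commutator_le_of_plane S.elemAb hB hW.1 hW.2.1 (hB.1.trans (le_normalizer_of_mem hW))
        (le_normalizer_of_mem hW ha) (fun b hb => haA b (hB.1 hb)) (hcop hW) fun b hb hb1 x hx => ?_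
      exact le_iSup (fun b : {b : G // b ∈ B ∧ b ≠ 1} => ⁅θ (b : G), zpowers a⁆) ⟨b, hb, hb1⟩
        (commutator_mem (hW.2.2.2 b (hB.1 hb) hb1 hx))
    rw [hJeq]
    exact le_normalizer_iSup' (fun b => (signalizerInf_le b.2.1 b.2.2).trans
      (Solvable.le_normalizer_commutator_left _ _)) hc
  refine S.not_complete ⟨θ a, theta_mem S.functor ha ha1, fun x hx hx1 y hy => ?_⟩
  have hle : θ x ≤ centralizer {a} := commutator_zpowers_eq_bot_iff.1 (le_bot_iff.1 (hJbot ▸ hθJ x hx hx1))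
  exact S.mem_theta_of_commute hx hx1 ha ha1 hy (mem_centralizer_singleton_iff.1 (hle hy))

/-- A maximal member containing `θ a` has a core moved by `a`. -/
theorem exists_moved {U : Subgroup G} (hU : U ∈ signalizerFamily p A θ)
    (hmax : ∀ W ∈ signalizerFamily p A θ, U ≤ W → W = U) {a : G} (ha : a ∈ A) (ha1 : a ≠ 1) :
    ∃ t : ℕ, t.Prime ∧ ¬ pCoreOf t U ≤ centralizer {a} := by
  by_contra hc
  push Not at hc
  haveI := hU.1
  have haU : a ∈ normalizer (U : Set G) := le_normalizer_of_mem hU ha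
  have hcop : (orderOf a).Coprime (Nat.card U) := coprime_of_pow_eq_one (S.elemAb.2 a ha) hU.2.1
  -- `a` centralizes `U`
  have hUa : U ≤ centralizer {a} := by
    refine le_centralizer_of_commutator_centralized haU hcop ?_
    have hle : ⁅U, zpowers a⁆ ≤ (fittingSubgroup ↥U).map U.subtype := by
      haveI := Cores.fittingSubgroup_characteristic (G := ↥U)
      refine commutator_zpowers_le (normalizer_le_normalizer_map_char _ haU) fun u hu => ?_
      have hu' : ⁅u, a⁆ ∈ U :=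
        Solvable.commutator_le_of_le_normalizer (zpowers_le.2 haU) (commutator_mem hu)
      refine ⟨⟨_, hu'⟩, Solvable.centralizer_fittingSubgroup_le (mem_centralizer_iff.2 fun z hz => ?_), rfl⟩
      have key : fittingSubgroup ↥U ≤ centralizer {(⟨_, hu'⟩ : U)} := by
        rw [Cores.fittingSubgroup_eq_iSup_pCore]
        refine iSup_le fun t y hy => mem_centralizer_singleton_iff.2 (Subtype.ext ?_)
        have hz1 : (y : G) ∈ pCoreOf t U := ⟨y, hy, rfl⟩
        have hz2 : u⁻¹ * y * u ∈ pCoreOf t U :=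
          (mem_normalizer_iff''.1 (LocalEven.le_normalizer_pCoreOf t U hu) _).1 hz1
        have e1 : Commute a (u⁻¹ * y * u) :=
          (mem_centralizer_singleton_iff.1 (hc t (Nat.prime_of_mem_primeFactors t.2) hz2)).symm
        have e2 : Commute a (y : G) :=
          (mem_centralizer_singleton_iff.1 (hc t (Nat.prime_of_mem_primeFactors t.2) hz1)).symm
        have e3 : Commute (u * a * u⁻¹) (y : G) := by
          have h3 := e1.map (MulAut.conj u).toMonoidHom
          rwa [show (MulAut.conj u).toMonoidHom (u⁻¹ * y * u) = (y : G) by simp [mul_assoc]] at h3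
        exact (show Commute (y : G) ⁅u, a⁆ from (e3.mul_left e2.inv_left).symm).eq
      exact mem_centralizer_singleton_iff.1 (key hz)
    refine hle.trans ?_
    rw [Cores.fittingSubgroup_eq_iSup_pCore, Subgroup.map_iSup]
    exact iSup_le fun t => hc t (Nat.prime_of_mem_primeFactors t.2)
  have hUne : U ≠ ⊥ := by
    rintro rfl
    obtain ⟨b, hb, hb1, hne⟩ := S.exists_theta_ne_bot
    exact hne (hmax _ (theta_mem S.functor hb hb1) bot_le)
  obtain ⟨q, hq, hR⟩ : ∃ q : ℕ, q.Prime ∧ pCoreOf q U ≠ ⊥ := by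
    by_contra hcon
    push Not at hcon
    refine hUne ?_
    have hF : fittingSubgroup ↥U = ⊥ := by
      rw [Cores.fittingSubgroup_eq_iSup_pCore, iSup_eq_bot]
      exact fun t => (map_eq_bot_iff_of_injective _ U.subtype_injective).1
        (hcon t (Nat.prime_of_mem_primeFactors t.2))
    have h2 : (⊤ : Subgroup U) ≤ fittingSubgroup ↥U := by
      intro x _
      refine Solvable.centralizer_fittingSubgroup_le ?_
      rw [hF, mem_centralizer_iff]
      intro z hz
      rw [SetLike.mem_coe, mem_bot] at hz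
      rw [hz, one_mul, mul_one]
    rw [hF] at h2
    refine (eq_bot_iff_forall U).2 fun x hx => ?_
    have h3 : (⟨x, hx⟩ : U) = 1 := mem_bot.1 (h2 (mem_top _))
    exact congrArg Subtype.val h3
  haveI := Fact.mk hq
  set R := pCoreOf q U with hRdef
  have hRW := pCoreOf_mem hU q
  have hRq : IsPGroup q R := LocalEven.isPGroup_pCoreOf q U
  obtain ⟨Q, hQ, hRQ⟩ := exists_isMaxMember hRW hRq
  refine S.false_of_centralizes_maxMember (S.exists_dvd_theta hRW hRq hR) hQ ha ha1 ?_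
  intro x hx
  refine mem_centralizer_singleton_iff.2 (Local.commute_of_commute_fixedPoints (U := R) hRq
    (fun r hr => (mem_centralizer_singleton_iff.1 (hUa (LocalEven.pCoreOf_le q U hr))).symm) ?_
    Q hQ.2.1 (hRQ.trans le_normalizer) (le_normalizer_of_mem hQ.1 ha) ?_ x hx).symm
  · refine Nat.Coprime.coprime_dvd_left (orderOf_dvd_of_pow_eq_one (S.elemAb.2 a ha)) ?_
    refine (Nat.coprime_primes hp.out hq).2 ?_
    rintro rfl
    obtain ⟨k, hk⟩ := IsPGroup.iff_card.1 hRq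
    rcases Nat.eq_zero_or_pos k with rfl | hk0
    · exact hR (card_eq_one.1 (by rw [hk, pow_zero]))
    · exact hRW.2.1 (hk ▸ dvd_pow_self p hk0.ne')
  · intro y hy hyR
    have h1 : Q ⊓ centralizer (R : Set G) ≤ U := by
      rw [← S.normMax_pCoreOf_eq hU hmax hR]
      refine S.le_normMax (mem_of_le hQ.1 inf_le_left ?_) (inf_le_right.trans (centralizer_le_normalizer _))
      exact Solvable.le_normalizer_inf (le_normalizer_of_mem hQ.1)
        ((le_normalizer_of_mem hRW).trans (Solvable.normalizer_le_normalizer_centralizer R))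
    exact (mem_centralizer_singleton_iff.1 (hUa (h1 ⟨hy, mem_centralizer_iff.2 hyR⟩))).symm

end Minimal

end CfsgLib.Signalizer
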