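import Cfsg.Agent.Lib.Signalizer.Basic
import Cfsg.Agent.Lib.Signalizer.CoreAction

/-!
Subgroups of order `p ^ 2` of the elementary abelian group acting, generation by their fixed points, and
elementary closure properties of the family.
-/

set_option autoImplicit false
set_option linter.unusedSectionVars false
set_option linter.style.haveILetI false

namespace CfsgLib.Signalizer

open Subgroup Cfsg
open scoped commutatorElement

universe u

variable {G : Type u} [Group G]

/-! ### Normalisers -/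

theorem mem_normalizer_of_commute_all [Finite G] {H : Subgroup G} {g : G} (h : ∀ x ∈ H, Commute g x) :
    g ∈ normalizer (H : Set G) :=
  Solvable.mem_normalizer_of_conj_mem fun x hx => by rwa [(h x hx).eq, mul_inv_cancel_right]

theorem le_normalizer_iSup' [Finite G] {ι : Sort*} {N : Subgroup G} {H : ι → Subgroup G}
    (h : ∀ i, N ≤ normalizer (H i : Set G)) : N ≤ normalizer ((iSup H : Subgroup G) : Set G) := by
  intro g hg
  rw [mem_normalizer_iff_map_conj_eq, Subgroup.map_iSup]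
  exact iSup_congr fun i => mem_normalizer_iff_map_conj_eq.1 (h i hg)

theorem le_normalizer_iInf' [Finite G] {ι : Sort*} {N : Subgroup G} {H : ι → Subgroup G}
    (h : ∀ i, N ≤ normalizer (H i : Set G)) : N ≤ normalizer ((iInf H : Subgroup G) : Set G) := by
  refine Solvable.le_normalizer_of_conj_mem fun g hg x hx => ?_
  rw [mem_iInf] at hx ⊢
  exact fun i => (mem_normalizer_iff.1 (h i hg) x).1 (hx i)

theorem le_normalizer_sup' [Finite G] {N H K : Subgroup G} (h₁ : N ≤ normalizer (H : Set G))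
    (h₂ : N ≤ normalizer (K : Set G)) : N ≤ normalizer ((H ⊔ K : Subgroup G) : Set G) := by
  intro g hg
  rw [mem_normalizer_iff_map_conj_eq, Subgroup.map_sup, mem_normalizer_iff_map_conj_eq.1 (h₁ hg),
    mem_normalizer_iff_map_conj_eq.1 (h₂ hg)]

variable [Finite G] {p : ℕ} [hp : Fact p.Prime] {A : Subgroup G}

/-! ### Planes -/

/-- A subgroup of order `p ^ 2` of `A`. -/
def IsPlane (p : ℕ) (A B : Subgroup G) : Prop := B ≤ A ∧ Nat.card B = p ^ 2

theorem IsPlane.elemAb {B : Subgroup G} (hB : IsPlane p A B) (hA : IsElementaryAbelian p A) :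
    IsElementaryAbelian p B := PGroup.elemAb_mono hA hB.1

theorem IsPlane.exists_ne {B : Subgroup G} (hB : IsPlane p A B) : ∃ b ∈ B, b ≠ 1 :=
  B.bot_or_exists_ne_one.resolve_left fun h => by
    have h2 := hB.2
    rw [h, card_bot] at h2
    exact (Nat.one_lt_pow two_ne_zero hp.out.one_lt).ne h2

theorem IsPlane.ne_bot {B : Subgroup G} (hB : IsPlane p A B) : B ≠ ⊥ := fun h => by
  obtain ⟨b, hb, hb1⟩ := hB.exists_ne
  exact hb1 (mem_bot.1 (h ▸ hb))

theorem card_zpowers_eq (hA : IsElementaryAbelian p A) {a : G} (ha : a ∈ A) (ha1 : a ≠ 1) :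
    Nat.card (zpowers a) = p := by
  rw [Nat.card_zpowers]
  exact orderOf_eq_prime (hA.2 a ha) ha1

theorem mem_zpowers_symm (hA : IsElementaryAbelian p A) {a b : G} (ha : a ∈ A) (ha1 : a ≠ 1) (hb1 : b ≠ 1)
    (h : b ∈ zpowers a) : a ∈ zpowers b := by
  have hle : zpowers b ≤ zpowers a := zpowers_le.2 h
  have hb : b ∈ A := zpowers_le.2 ha h
  rw [eq_of_le_of_card_ge hle (by rw [card_zpowers_eq hA ha ha1, card_zpowers_eq hA hb hb1])]
  exact mem_zpowers a

theorem isPlane_sup (hA : IsElementaryAbelian p A) {a b : G} (ha : a ∈ A) (hb : b ∈ A) (ha1 : a ≠ 1)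
    (hab : b ∉ zpowers a) : IsPlane p A (zpowers a ⊔ zpowers b) := by
  have hb1 : b ≠ 1 := fun h => hab (h ▸ one_mem _)
  refine ⟨sup_le (zpowers_le.2 ha) (zpowers_le.2 hb), ?_⟩
  have hn : zpowers b ≤ normalizer (zpowers a : Set G) := zpowers_le.2 <| mem_normalizer_of_commute_all
    fun x hx => PGroup.elemAb_comm hA hb (zpowers_le.2 ha hx)
  have hd : zpowers a ⊓ zpowers b = ⊥ := by
    rw [eq_bot_iff_forall]
    intro x hx
    by_contra hx1
    exact hab ((zpowers_le.2 (mem_inf.1 hx).1) (mem_zpowers_symm hA hb hb1 hx1 (mem_inf.1 hx).2))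
  rw [Solvable.card_sup_of_disjoint hn hd, card_zpowers_eq hA ha ha1, card_zpowers_eq hA hb hb1, pow_two]

theorem IsPlane.eq_sup (hA : IsElementaryAbelian p A) {B : Subgroup G} (hB : IsPlane p A B) {a b : G}
    (ha : a ∈ B) (hb : b ∈ B) (ha1 : a ≠ 1) (hab : b ∉ zpowers a) : B = zpowers a ⊔ zpowers b :=
  (eq_of_le_of_card_ge (sup_le (zpowers_le.2 ha) (zpowers_le.2 hb))
    (by rw [hB.2, (isPlane_sup hA (hB.1 ha) (hB.1 hb) ha1 hab).2])).symm

theorem exists_mem_not_mem_zpowers (hA : IsElementaryAbelian p A) {B : Subgroup G}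
    (hB2 : p ^ 2 ≤ Nat.card B) {a : G} (ha : a ∈ A) (ha1 : a ≠ 1) : ∃ b ∈ B, b ∉ zpowers a := by
  by_contra h
  push Not at h
  have h1 := card_le_of_le (show B ≤ zpowers a from h)
  rw [card_zpowers_eq hA ha ha1] at h1
  have h2 : p < p ^ 2 := lt_self_pow₀ hp.out.one_lt one_lt_two
  omega

theorem exists_plane_le (hA : IsElementaryAbelian p A) {B : Subgroup G} (hB : B ≤ A)
    (hB2 : p ^ 2 ≤ Nat.card B) {a : G} (ha : a ∈ B) (ha1 : a ≠ 1) :
    ∃ P : Subgroup G, IsPlane p A P ∧ a ∈ P ∧ P ≤ B := by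
  obtain ⟨b, hb, hab⟩ := exists_mem_not_mem_zpowers hA hB2 (hB ha) ha1
  exact ⟨_, isPlane_sup hA (hB ha) (hB hb) ha1 hab, mem_sup_left (mem_zpowers a),
    sup_le (zpowers_le.2 ha) (zpowers_le.2 hb)⟩

theorem exists_plane_le' (hA : IsElementaryAbelian p A) {B : Subgroup G} (hB : B ≤ A)
    (hB2 : p ^ 2 ≤ Nat.card B) : ∃ P : Subgroup G, IsPlane p A P ∧ P ≤ B := by
  obtain ⟨a, ha, ha1⟩ := B.bot_or_exists_ne_one.resolve_left fun h => by
    rw [h, card_bot] at hB2
    exact absurd hB2 (Nat.one_lt_pow two_ne_zero hp.out.one_lt).not_ge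
  obtain ⟨P, hP, -, hPB⟩ := exists_plane_le hA hB hB2 ha ha1
  exact ⟨P, hP, hPB⟩

theorem card_ge_of_relIndex_le (hA3 : Nat.card A = p ^ 3) {B : Subgroup G} (hB : B ≤ A)
    (h : B.relIndex A ≤ p) : p ^ 2 ≤ Nat.card B := by
  have h1 := relIndex_mul_relIndex ⊥ B A bot_le hB
  rw [relIndex_bot_left, relIndex_bot_left, hA3] at h1
  by_contra hlt
  push Not at hlt
  have h2 : Nat.card B * B.relIndex A < p ^ 2 * p :=
    lt_of_le_of_lt (Nat.mul_le_mul_left _ h) (Nat.mul_lt_mul_of_pos_right hlt hp.out.pos)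
  rw [h1, ← pow_succ] at h2
  exact lt_irrefl _ h2

/-- Two planes meet nontrivially. -/
theorem IsPlane.exists_mem_inter (hA : IsElementaryAbelian p A) (hA3 : Nat.card A = p ^ 3) {B C : Subgroup G}
    (hB : IsPlane p A B) (hC : IsPlane p A C) : ∃ a ∈ B ⊓ C, a ≠ 1 := by
  have hidx : ∀ {P : Subgroup G}, IsPlane p A P → P.relIndex A ≤ p := by
    intro P hP
    have h1 := relIndex_mul_relIndex ⊥ P A bot_le hP.1
    rw [relIndex_bot_left, relIndex_bot_left, hA3, hP.2, pow_succ p 2] at h1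
    exact (Nat.eq_of_mul_eq_mul_left (pow_pos hp.out.pos 2) h1).le
  exact exists_mem_inf hA hA3.ge hB.1 (hidx hB) (hidx hC)

/-! ### Generation -/

theorem le_of_planes (hA : IsElementaryAbelian p A) (hA3 : Nat.card A = p ^ 3) {U R : Subgroup G}
    (hU : ¬ p ∣ Nat.card U) (hAU : A ≤ normalizer (U : Set G))
    (h : ∀ B, IsPlane p A B → U ⊓ centralizer (B : Set G) ≤ R) : U ≤ R := by
  refine Cores.le_of_hyperplanes hA ((Cores.coprime_iff_not_dvd hp.out _).2 hU) hAU fun B hB hidx => ?_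
  obtain ⟨P, hP, hPB⟩ := exists_plane_le' hA hB (card_ge_of_relIndex_le hA3 hB hidx)
  exact (inf_le_inf_left _ (centralizer_le hPB)).trans (h P hP)

/-- A subgroup centralised by `a` is generated by the fixed points of the planes through `a`. -/
theorem le_of_planes_at (hA : IsElementaryAbelian p A) (hA3 : Nat.card A = p ^ 3) {U R : Subgroup G}
    (hU : ¬ p ∣ Nat.card U) (hAU : A ≤ normalizer (U : Set G)) {a : G} (ha : a ∈ A) (ha1 : a ≠ 1)
    (hUa : U ≤ centralizer {a}) (h : ∀ B, IsPlane p A B → a ∈ B → U ⊓ centralizer (B : Set G) ≤ R) :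
    U ≤ R := by
  refine le_of_planes hA hA3 hU hAU fun B hB => ?_
  obtain ⟨P, hP, haP, hPB⟩ := exists_plane_le hA (sup_le hB.1 (zpowers_le.2 ha))
    (hB.2.ge.trans (card_le_of_le (le_sup_left : B ≤ B ⊔ zpowers a))) (mem_sup_right (mem_zpowers a)) ha1
  refine le_trans (fun x hx => ?_) (h P hP haP)
  refine ⟨hx.1, ?_⟩
  have hle : B ⊔ zpowers a ≤ centralizer {x} := by
    refine sup_le (fun b hb => ?_) (zpowers_le.2 ?_) <;> rw [mem_centralizer_singleton_iff]
    · exact mem_centralizer_iff.1 hx.2 b hb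
    · exact (mem_centralizer_singleton_iff.1 (hUa hx.1)).symm
  exact mem_centralizer_iff.2 fun b hb => mem_centralizer_singleton_iff.1 (hle (hPB hb))

theorem le_of_plane_fixed (hA : IsElementaryAbelian p A) {B U R : Subgroup G} (hB : IsPlane p A B)
    (hU : ¬ p ∣ Nat.card U) (hBU : B ≤ normalizer (U : Set G))
    (h : ∀ b ∈ B, b ≠ 1 → U ⊓ centralizer {b} ≤ R) : U ≤ R :=
  le_of_fixed (hB.elemAb hA) hB.2.ge hU hBU h

/-- `[X, w]` is generated by the `[C_X(b), w]`. -/
theorem commutator_le_of_plane (hA : IsElementaryAbelian p A) {B X K : Subgroup G} (hB : IsPlane p A B)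
    (hX : Group.IsSolvable X) (hpX : ¬ p ∣ Nat.card X) (hBX : B ≤ normalizer (X : Set G)) {w : G}
    (hw : w ∈ normalizer (X : Set G)) (hwB : ∀ b ∈ B, Commute w b) (hcop : (orderOf w).Coprime (Nat.card X))
    (h : ∀ b ∈ B, b ≠ 1 → ∀ x ∈ X ⊓ centralizer {b}, ⁅x, w⁆ ∈ K) : ⁅X, zpowers w⁆ ≤ K :=
  commutator_le_of_fixed hX hBX hw hwB hcop
    (fun _ hY hBY _ hR => le_of_plane_fixed hA hB (fun hd => hpX (hd.trans (card_dvd_of_le hY))) hBY hR) h

/-- `[X, w]` is generated by the `[C_X(P), w]` over the planes `P`. -/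
theorem commutator_le_of_planes (hA : IsElementaryAbelian p A) (hA3 : Nat.card A = p ^ 3) {X K : Subgroup G}
    (hX : Group.IsSolvable X) (hpX : ¬ p ∣ Nat.card X) (hAX : A ≤ normalizer (X : Set G)) {w : G}
    (hw : w ∈ normalizer (X : Set G)) (hwA : ∀ b ∈ A, Commute w b) (hcop : (orderOf w).Coprime (Nat.card X))
    (h : ∀ P, IsPlane p A P → ∀ x ∈ X ⊓ centralizer (P : Set G), ⁅x, w⁆ ∈ K) : ⁅X, zpowers w⁆ ≤ K := by
  obtain ⟨B, hB, -⟩ := exists_plane_le' hA le_rfl
    ((Nat.pow_le_pow_right hp.out.pos (by norm_num)).trans hA3.ge)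
  refine commutator_le_of_plane hA hB hX hpX (hB.1.trans hAX) hw (fun b hb => hwA b (hB.1 hb)) hcop ?_
  intro e he he1 x hx
  obtain ⟨f, hf, hfe⟩ : ∃ f ∈ A, f ∉ B := by
    by_contra hc
    push Not at hc
    have h1 := card_le_of_le (show A ≤ B from hc)
    rw [hA3, hB.2, Nat.pow_le_pow_iff_right hp.out.one_lt] at h1
    omega
  -- a plane through `f` missing `e`
  obtain ⟨g, hg, hge⟩ := exists_mem_not_mem_zpowers hA hB.2.ge (hB.1 he) he1
  have hfg : g ∉ zpowers f := fun hc => by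
    rcases eq_or_ne g 1 with rfl | hg1
    · exact hge (one_mem _)
    · exact hfe (zpowers_le.2 hg (mem_zpowers_symm hA hf (fun h => hfe (h ▸ one_mem _)) hg1 hc))
  have hf1 : f ≠ 1 := fun h => hfe (h ▸ one_mem _)
  have hC := isPlane_sup hA hf (hB.1 hg) hf1 hfg
  have heC : e ∉ zpowers f ⊔ zpowers g := fun hc => by
    have h2 : B ≤ zpowers f ⊔ zpowers g := by
      rw [hB.eq_sup hA he hg he1 hge]
      exact sup_le (zpowers_le.2 hc) le_sup_right
    exact hfe ((eq_of_le_of_card_ge h2 (by rw [hB.2, hC.2])).ge (mem_sup_left (mem_zpowers f)))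
  set Y := X ⊓ centralizer ({e} : Set G) with hY
  have hAY : A ≤ normalizer (Y : Set G) :=
    Solvable.le_normalizer_inf hAX (le_normalizer_centralizer_singleton hA (hB.1 he))
  have hwY : w ∈ normalizer (Y : Set G) :=
    Solvable.le_normalizer_inf (zpowers_le.2 hw)
      ((zpowers_le.2 (mem_centralizer_singleton_iff.2 (hwA e (hB.1 he)).eq)).trans le_normalizer) (mem_zpowers w)
  refine commutator_le_of_plane hA hC (Solvable.isSolvable_of_le hX inf_le_left)
    (fun hd => hpX (hd.trans (card_dvd_of_le inf_le_left))) (hC.1.trans hAY) hwY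
    (fun b hb => hwA b (hC.1 hb)) (hcop.coprime_dvd_right (card_dvd_of_le inf_le_left)) ?_
    (commutator_mem hx)
  intro k hk hk1 y hy
  have hke : k ∉ zpowers e := fun hc => by
    exact heC (zpowers_le.2 hk (mem_zpowers_symm hA (hB.1 he) he1 hk1 hc))
  refine h _ (isPlane_sup hA (hB.1 he) (hC.1 hk) he1 hke) y ⟨hy.1.1, ?_⟩
  have hle : zpowers e ⊔ zpowers k ≤ centralizer {y} := by
    refine sup_le (zpowers_le.2 ?_) (zpowers_le.2 ?_) <;> rw [mem_centralizer_singleton_iff]
    · exact (mem_centralizer_singleton_iff.1 hy.1.2).symm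
    · exact (mem_centralizer_singleton_iff.1 hy.2).symm
  exact mem_centralizer_iff.2 fun b hb => mem_centralizer_singleton_iff.1 (hle hb)

/-! ### The family -/

variable {θ : G → Subgroup G}

theorem bot_mem : (⊥ : Subgroup G) ∈ signalizerFamily p A θ := by
  refine ⟨inferInstance, by rw [card_bot]; exact hp.out.not_dvd_one, ?_, fun a _ _ => by simp⟩
  intro b _ u hu
  rw [mem_bot] at hu ⊢
  rw [hu]
  group

theorem not_dvd_of_le {U V : Subgroup G} (hV : V ∈ signalizerFamily p A θ) (hUV : U ≤ V) :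
    ¬ p ∣ Nat.card U := fun h => hV.2.1 (h.trans (card_dvd_of_le hUV))

theorem pCoreOf_mem {U : Subgroup G} (hU : U ∈ signalizerFamily p A θ) (q : ℕ) :
    pCoreOf q U ∈ signalizerFamily p A θ :=
  mem_of_le hU (LocalEven.pCoreOf_le q U) ((le_normalizer_of_mem hU).trans (normalizer_le_normalizer_pCoreOf q U))

theorem map_char_mem {U : Subgroup G} (hU : U ∈ signalizerFamily p A θ) (H : Subgroup ↥U) [H.Characteristic] :
    H.map U.subtype ∈ signalizerFamily p A θ :=
  mem_of_le hU (map_subtype_le _) ((le_normalizer_of_mem hU).trans (normalizer_le_normalizer_map_char H))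

theorem inf_centralizer_mem (hA : IsElementaryAbelian p A) {U B : Subgroup G}
    (hU : U ∈ signalizerFamily p A θ) (hB : B ≤ A) :
    U ⊓ centralizer (B : Set G) ∈ signalizerFamily p A θ :=
  mem_of_le hU inf_le_left (Solvable.le_normalizer_inf (le_normalizer_of_mem hU) (le_normalizer_centralizer hA hB))

theorem le_normalizer_commutator_of_commute {X : Subgroup G} {w : G} (hAX : A ≤ normalizer (X : Set G))
    (hwA : ∀ b ∈ A, Commute w b) : A ≤ normalizer ((⁅X, zpowers w⁆ : Subgroup G) : Set G) := fun b hb =>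
  mem_normalizer_commutator_zpowers (hAX hb) (by rw [(hwA b hb).symm.eq, mul_inv_cancel_right])

theorem commutator_mem_family {X : Subgroup G} (hX : X ∈ signalizerFamily p A θ) {w : G}
    (hw : w ∈ normalizer (X : Set G)) (hwA : ∀ b ∈ A, Commute w b) :
    ⁅X, zpowers w⁆ ∈ signalizerFamily p A θ :=
  mem_of_le hX (Solvable.commutator_le_of_le_normalizer (zpowers_le.2 hw))
    (le_normalizer_commutator_of_commute (le_normalizer_of_mem hX) hwA)

theorem exists_maximal_member {U : Subgroup G} (hU : U ∈ signalizerFamily p A θ) :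
    ∃ V ∈ signalizerFamily p A θ, U ≤ V ∧ ∀ W ∈ signalizerFamily p A θ, V ≤ W → W = V := by
  obtain ⟨V, hle, hV, hmax⟩ := Finite.exists_le_maximal
    (p := fun V : Subgroup G => V ∈ signalizerFamily p A θ) (a := U) hU
  exact ⟨V, hV, hle, fun W hW h => le_antisymm (hmax hW h) h⟩

theorem mem_signalizerInf_iff {B : Subgroup G} {x : G} :
    x ∈ signalizerInf B θ ↔ ∀ b ∈ B, b ≠ 1 → x ∈ θ b := by
  simp [signalizerInf, mem_iInf]

end CfsgLib.Signalizer
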